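import Cfsg.Agent.TypeD4Three.Input
import Cfsg.Agent.LargeExtra.KillNine.Codes

/-!
# S1763, case [P]: `Input` from the configuration `confPO83` (helper416)

The four minus planes, and the four subgroups of order three, in the coordinates of `Nine.Iface`.
-/

set_option autoImplicit false

namespace Cfsg.Agent.TypeD4Three.FromConf

open Cfsg.Agent.Co2Type.Quad Cfsg.Agent.LargeExtra.Base Cfsg.Agent.LargeExtra.Local
open Cfsg.Agent.LargeExtra.Nine Cfsg.Agent.LargeExtra.KillNine.Codes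

/-- the four elements of order three -/
def xs : Fin 4 → List ℕ := ![[255, 237, 235, 231, 1, 207, 175, 111], [210, 51, 230, 234, 195, 194, 64, 128],
  [180, 230, 85, 236, 165, 32, 164, 128], [144, 123, 125, 224, 129, 32, 64, 249]]

/-- codes of the vectors `u k` -/
def us : Fin 4 → ℕ := ![17, 49, 81, 121]

/-- codes of the vectors `v k` -/
def vs : Fin 4 → ℕ := ![254, 211, 181, 145]

/-- words for the four elements of order three -/
def wd : Fin 4 → List (Fin 6) := ![[0, 1, 2, 3, 5], [0, 1, 3, 5, 2], [0, 2, 3, 5, 1], [0, 3, 5, 1, 2]]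

/-- the six generators -/
def gs : Fin 6 → List ℕ := ![[1,2,4,9,144,36,66,128], [1,2,5,8,80,40,64,130], [1,3,4,8,48,32,72,132],
  [65,8,30,2,16,192,64,96], [33,30,8,4,16,32,160,96], [165,24,14,18,16,204,90,102]]

variable {G : Type*} [Group G] {Q A : Subgroup G} {z a : G}

theorem in_gs {p : Pair Q z A a} {φ : Coord p.lz} (hc : IsConf p φ confPO83) (i : Fin 6) :
    In φ p.H (gs i) := by
  have h1 : gs i ∈ confPO83.X ∨ gs i ∈ confPO83.N := by revert i; decide +kernel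
  rcases h1 with h1 | h1
  · obtain ⟨f, hf, hf'⟩ := hc.X _ h1
    exact ⟨f, p.X_le_H hf, hf'⟩
  · exact hc.N _ h1

theorem in_xs {p : Pair Q z A a} {φ : Coord p.lz} (hc : IsConf p φ confPO83) (k : Fin 4) :
    In φ p.H (xs k) := by
  have h1 : xs k = prodL ((wd k).map gs) := by revert k; decide +kernel
  rw [h1]
  apply In.prod
  intro L hL
  obtain ⟨i, -, rfl⟩ := List.mem_map.1 hL
  exact in_gs hc i

theorem norm_gens : ∀ L ∈ confPO83.X ++ confPO83.N ++ confPO83.M, ∀ k : Fin 4, ∃ l : Fin 4,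
    mulL (xs k) L = mulL L (xs l) ∨ mulL (mulL (xs k) L) (xs l) = L := by
  decide +kernel

/-- the conclusion of `norm` -/
def Nm {h : Large Q z} (ξ : Fin 4 → (h.V ≃ₗ[ZMod 2] h.V)) (f : h.V ≃ₗ[ZMod 2] h.V) : Prop :=
  ∀ k, ∃ l, f * ξ k * f⁻¹ = ξ l ∨ f * ξ k * f⁻¹ = (ξ l)⁻¹

theorem Nm.mul {h : Large Q z} {ξ : Fin 4 → (h.V ≃ₗ[ZMod 2] h.V)} {f g : h.V ≃ₗ[ZMod 2] h.V}
    (hf : Nm ξ f) (hg : Nm ξ g) : Nm ξ (f * g) := by
  intro k
  obtain ⟨l, hl⟩ := hg k
  obtain ⟨m, hm⟩ := hf l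
  have e : f * g * ξ k * (f * g)⁻¹ = f * (g * ξ k * g⁻¹) * f⁻¹ := by group
  have e' : f * (ξ l)⁻¹ * f⁻¹ = (f * ξ l * f⁻¹)⁻¹ := by group
  refine ⟨m, ?_⟩
  rw [e]
  rcases hl with hl | hl <;> rcases hm with hm | hm <;> rw [hl]
  · exact Or.inl hm
  · exact Or.inr hm
  · rw [e', hm]; exact Or.inr rfl
  · rw [e', hm, inv_inv]; exact Or.inl rfl

theorem Nm.one {h : Large Q z} (ξ : Fin 4 → (h.V ≃ₗ[ZMod 2] h.V)) : Nm ξ 1 :=
  fun k => ⟨k, Or.inl (by group)⟩

theorem Nm.pow {h : Large Q z} {ξ : Fin 4 → (h.V ≃ₗ[ZMod 2] h.V)} {f : h.V ≃ₗ[ZMod 2] h.V}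
    (hf : Nm ξ f) (n : ℕ) : Nm ξ (f ^ n) := by
  induction n with
  | zero => rw [pow_zero]; exact Nm.one ξ
  | succ n ih => rw [pow_succ]; exact ih.mul hf

theorem Nm.inv {h : Large Q z} [Finite h.V] {ξ : Fin 4 → (h.V ≃ₗ[ZMod 2] h.V)}
    {f : h.V ≃ₗ[ZMod 2] h.V} (hf : Nm ξ f) : Nm ξ f⁻¹ := by
  have : Finite (h.V ≃ₗ[ZMod 2] h.V) :=
    Finite.of_injective (fun f : h.V ≃ₗ[ZMod 2] h.V => (f : h.V → h.V)) DFunLike.coe_injective
  have hn : 0 < orderOf f := orderOf_pos f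
  have e : f⁻¹ = f ^ (orderOf f - 1) := by
    rw [inv_eq_iff_mul_eq_one, ← pow_succ', Nat.sub_add_cancel hn, pow_orderOf_eq_one]
  rw [e]
  exact hf.pow _

theorem b_codes {h : Large Q z} (φ : Coord h) (m n : ℕ) :
    h.b (φ.e.symm (vec m)) (φ.e.symm (vec n)) = qs (vec (m ^^^ n)) + qs (vec m) + qs (vec n) := by
  have h1 := h.q_add' (φ.e.symm (vec m)) (φ.e.symm (vec n))
  rw [← map_add, φ.q, φ.q, φ.q, φ.e.apply_symm_apply, φ.e.apply_symm_apply, φ.e.apply_symm_apply,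
    ← vec_xor] at h1
  rw [h1]
  generalize h.b (φ.e.symm (vec m)) (φ.e.symm (vec n)) = x
  generalize qs (vec m) = y
  generalize qs (vec n) = w
  revert x y w
  decide

theorem act_codes {h : Large Q z} {φ : Coord h} {L : List ℕ} {f : h.V ≃ₗ[ZMod 2] h.V}
    (hf : Acts φ L f) {m n : ℕ} (hmn : ap L m = n) : f (φ.e.symm (vec m)) = φ.e.symm (vec n) := by
  apply φ.e.injective
  rw [hf, φ.e.apply_symm_apply, φ.e.apply_symm_apply, lin_vec, hmn]

theorem exists_input {p : Pair Q z A a} (h9 : Nat.card Q = 2 ^ 9) (φ : Coord p.lz)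
    (hc : IsConf p φ confPO83) : Nonempty (Input p.lz) := by
  have hQ : Finite Q := Nat.finite_of_card_ne_zero (by rw [h9]; norm_num)
  have hV : Finite p.lz.V := Finite.of_equiv _ φ.e.symm.toEquiv
  choose ξ hξ hξ' using fun k => in_xs hc k
  have hnorm : ∀ f ∈ p.H, Nm ξ f := by
    intro f hf
    refine Subgroup.closure_induction ?_ (Nm.one ξ) (fun f g _ _ hf hg => hf.mul hg)
      (fun f _ hf => hf.inv) (hc.le hf)
    rintro f ⟨L, hL, hf⟩ k
    obtain ⟨l, hl⟩ := norm_gens L hL k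
    refine ⟨l, ?_⟩
    rcases hl with hl | hl
    · left
      rw [mul_inv_eq_iff_eq_mul]
      have h1 := Acts.mul (hξ' k) hf
      have h2 := Acts.mul hf (hξ' l)
      rw [hl] at h1
      exact Acts.ext h1 h2
    · right
      rw [mul_inv_eq_iff_eq_mul, eq_inv_mul_iff_mul_eq, ← mul_assoc]
      have h1 := Acts.mul (Acts.mul (hξ' k) hf) (hξ' l)
      rw [hl, ← mul_assoc] at h1
      exact Acts.ext h1 hf
  refine ⟨{
    u := fun k => φ.e.symm (vec (us k))
    v := fun k => φ.e.symm (vec (vs k))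
    ξ := ξ
    card := h9
    q_u := ?_
    q_v := ?_
    b_uv := ?_
    b_uu := ?_
    b_uv' := ?_
    b_vv := ?_
    ξ_u := ?_
    ξ_v := ?_
    ξ_u' := ?_
    ξ_v' := ?_
    mem := hξ
    norm := hnorm }⟩
  · intro k
    rw [φ.q, φ.e.apply_symm_apply]
    revert k; decide +kernel
  · intro k
    rw [φ.q, φ.e.apply_symm_apply]
    revert k; decide +kernel
  · intro k
    rw [b_codes]
    revert k; decide +kernel
  · intro k l hkl
    rw [b_codes]
    revert k l; decide +kernel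
  · intro k l hkl
    rw [b_codes]
    revert k l; decide +kernel
  · intro k l hkl
    rw [b_codes]
    revert k l; decide +kernel
  · intro k
    exact act_codes (hξ' k) (by revert k; decide +kernel)
  · intro k
    rw [← map_add, ← vec_xor]
    exact act_codes (hξ' k) (by revert k; decide +kernel)
  · intro k l hkl
    exact act_codes (hξ' k) (by revert k l; decide +kernel)
  · intro k l hkl
    exact act_codes (hξ' k) (by revert k l; decide +kernel)

end Cfsg.Agent.TypeD4Three.FromConf
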