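import Mathlib

/-!
Elements of order three satisfying the relations of the root elements of `SL₃(3)`: the signs in
the relations are forced, and the Weyl elements `x x'⁻¹ x` have order dividing four for all roots.
-/

set_option autoImplicit false

open scoped commutatorElement

namespace Cfsg.Agent.TypeD4Three.ChevA2

variable {G : Type*} [Group G]

/-- `g⁻¹ h⁻¹ g h = k` with `k` commuting with `g` and `h`. -/
structure Co (g h k : G) : Prop where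
  eq : g⁻¹ * h⁻¹ * g * h = k
  left : Commute k g
  right : Commute k h

theorem Co.swap {g h k : G} (c : Co g h k) : Co h g k⁻¹ where
  eq := by rw [← c.eq]; group
  left := c.right.inv_left
  right := c.left.inv_left

/-- `g h = h g k` -/
theorem Co.mul {g h k : G} (c : Co g h k) : g * h = h * g * k := by
  rw [← c.eq]; group

theorem Co.of_mul {g h k : G} (e : g * h = h * g * k) (h1 : Commute k g) (h2 : Commute k h) :
    Co g h k :=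
  ⟨by rw [mul_assoc, e]; group, h1, h2⟩

theorem Co.pow_left {g h k : G} (c : Co g h k) (i : ℕ) : Co (g ^ i) h (k ^ i) := by
  refine Co.of_mul ?_ ((c.left.pow_left i).pow_right i) (c.right.pow_left i)
  induction i with
  | zero => simp
  | succ i ih =>
    have h1 : k ^ i * g = g * k ^ i := (c.left.pow_left i).eq
    calc g ^ (i + 1) * h = g ^ i * (g * h) := by rw [pow_succ, mul_assoc]
      _ = g ^ i * (h * g * k) := by rw [c.mul]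
      _ = (g ^ i * h) * g * k := by group
      _ = h * g ^ i * (k ^ i * g) * k := by rw [ih]; group
      _ = h * g ^ (i + 1) * k ^ (i + 1) := by rw [h1, pow_succ, pow_succ]; group

theorem Co.pow_right {g h k : G} (c : Co g h k) (i : ℕ) : Co g (h ^ i) (k ^ i) := by
  have := (c.swap.pow_left i).swap
  simpa using this

theorem Co.pow {g h k : G} (c : Co g h k) (i j : ℕ) : Co (g ^ i) (h ^ j) (k ^ (i * j)) := by
  rw [pow_mul]
  exact (c.pow_left i).pow_right j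

theorem Co.inv_left {g h k : G} (c : Co g h k) : Co g⁻¹ h k⁻¹ := by
  refine Co.of_mul ?_ c.left.inv_inv c.right.inv_left
  have h1 := c.mul
  have h2 : g * h * k⁻¹ = h * g := by rw [h1]; group
  have h3 : k⁻¹ * g = g * k⁻¹ := c.left.inv_left.eq
  have h4 : h * k⁻¹ = k⁻¹ * h := (c.right.inv_left.eq).symm
  calc g⁻¹ * h = g⁻¹ * (h * g) * g⁻¹ := by group
    _ = g⁻¹ * (g * h * k⁻¹) * g⁻¹ := by rw [h2]
    _ = h * (k⁻¹ * g⁻¹) := by group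
    _ = h * (g⁻¹ * k⁻¹) := by rw [c.left.inv_inv.eq]
    _ = h * g⁻¹ * k⁻¹ := by group

theorem Co.inv_right {g h k : G} (c : Co g h k) : Co g h⁻¹ k⁻¹ := by
  have := c.swap.inv_left.swap
  simpa using this

/-! ### Forced signs -/

/-- action on `b ^ i k ^ j` of `a` with `a b a⁻¹ = k b`, `a k = k a`, `b k = k b`. -/
theorem conj_up {a b k : G} (h1 : a * b * a⁻¹ = k * b) (h2 : Commute a k) (h3 : Commute b k)
    (i j : ℤ) : a * (b ^ i * k ^ j) * a⁻¹ = b ^ i * k ^ (i + j) := by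
  have e1 : a * b ^ i * a⁻¹ = b ^ i * k ^ i := by
    rw [← conj_zpow, h1, (h3.symm).mul_zpow, (h3.zpow_zpow i i).symm.eq]
  have e2 : a * k ^ j * a⁻¹ = k ^ j := by
    rw [(h2.zpow_right j).eq, mul_inv_cancel_right]
  calc a * (b ^ i * k ^ j) * a⁻¹ = (a * b ^ i * a⁻¹) * (a * k ^ j * a⁻¹) := by group
    _ = b ^ i * k ^ (i + j) := by rw [e1, e2, zpow_add, mul_assoc]

/-- action on `b ^ i k ^ j` of `a'` with `a' k a'⁻¹ = b ^ e k`, `a' b = b a'`. -/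
theorem conj_down {a b k : G} {e : ℤ} (h1 : a * k * a⁻¹ = b ^ e * k) (h2 : Commute a b)
    (h3 : Commute b k) (i j : ℤ) : a * (b ^ i * k ^ j) * a⁻¹ = b ^ (i + e * j) * k ^ j := by
  have e1 : a * b ^ i * a⁻¹ = b ^ i := by
    rw [(h2.zpow_right i).eq, mul_inv_cancel_right]
  have e2 : a * k ^ j * a⁻¹ = b ^ (e * j) * k ^ j := by
    rw [← conj_zpow, h1, (h3.zpow_left e).mul_zpow, zpow_mul]
  calc a * (b ^ i * k ^ j) * a⁻¹ = (a * b ^ i * a⁻¹) * (a * k ^ j * a⁻¹) := by group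
    _ = b ^ (i + e * j) * k ^ j := by rw [e1, e2, zpow_add]; group

theorem conj_inv_of {a x y : G} (h : a * x * a⁻¹ = y) : a⁻¹ * y * a⁻¹⁻¹ = x := by
  rw [← h]; group

/-- inverse of `conj_down` -/
theorem conj_down_inv {a b k : G} {e : ℤ} (h1 : a * k * a⁻¹ = b ^ e * k) (h2 : Commute a b)
    (h3 : Commute b k) (i j : ℤ) : a⁻¹ * (b ^ i * k ^ j) * a⁻¹⁻¹ = b ^ (i - e * j) * k ^ j := by
  apply conj_inv_of
  rw [conj_down h1 h2 h3]
  congr 2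
  ring

/-- inverse of `conj_up` -/
theorem conj_up_inv {a b k : G} (h1 : a * b * a⁻¹ = k * b) (h2 : Commute a k) (h3 : Commute b k)
    (i j : ℤ) : a⁻¹ * (b ^ i * k ^ j) * a⁻¹⁻¹ = b ^ i * k ^ (j - i) := by
  apply conj_inv_of
  rw [conj_up h1 h2 h3]
  congr 2
  ring

theorem conj_mul3 (a a' x y z w : G) (h1 : a * x * a⁻¹ = y) (h2 : a'⁻¹ * y * a'⁻¹⁻¹ = z)
    (h3 : a * z * a⁻¹ = w) : (a * a'⁻¹ * a) * x * (a * a'⁻¹ * a)⁻¹ = w := by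
  rw [← h3, ← h2, ← h1]; group

/-- `n = a a'⁻¹ a` on `b ^ i k ^ j`, where `a` is "up" and `a'` is "down". -/
theorem n_up {a a' b k : G} {e : ℤ} (u1 : a * b * a⁻¹ = k * b) (u2 : Commute a k)
    (d1 : a' * k * a'⁻¹ = b ^ e * k) (d2 : Commute a' b) (h3 : Commute b k) (i j : ℤ) :
    (a * a'⁻¹ * a) * (b ^ i * k ^ j) * (a * a'⁻¹ * a)⁻¹ =
      b ^ (i - e * (i + j)) * k ^ (i - e * (i + j) + (i + j)) :=
  conj_mul3 a a' _ _ _ _ (conj_up u1 u2 h3 i j) (conj_down_inv d1 d2 h3 i (i + j))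
    (conj_up u1 u2 h3 _ _)

/-- `n = a a'⁻¹ a` on `b ^ i k ^ j`, where `a` is "down" and `a'` is "up". -/
theorem n_down {a a' b k : G} {e : ℤ} (u1 : a' * b * a'⁻¹ = k * b) (u2 : Commute a' k)
    (d1 : a * k * a⁻¹ = b ^ e * k) (d2 : Commute a b) (h3 : Commute b k) (i j : ℤ) :
    (a * a'⁻¹ * a) * (b ^ i * k ^ j) * (a * a'⁻¹ * a)⁻¹ =
      b ^ (i + e * j + e * (j - (i + e * j))) * k ^ (j - (i + e * j)) :=
  conj_mul3 a a' _ _ _ _ (conj_down d1 d2 h3 i j) (conj_up_inv u1 u2 h3 _ _)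
    (conj_down d1 d2 h3 _ _)

theorem zpow_eq_of_mod {b : G} (hb : b ^ 3 = 1) {m n : ℤ} (h : m % 3 = n % 3) : b ^ m = b ^ n := by
  have hb' : b ^ (3 : ℤ) = 1 := by exact_mod_cast hb
  have key : ∀ m : ℤ, b ^ m = b ^ (m % 3) := by
    intro m
    conv_lhs => rw [← Int.emod_add_mul_ediv m 3, zpow_add, zpow_mul, hb', one_zpow, mul_one]
  rw [key m, key n, h]

/-- `a` of order three normalising `⟨b⟩` -/
theorem one_of_conj_sq {a b : G} (ha : a ^ 3 = 1) (hb : b ^ 3 = 1) (h : a * b * a⁻¹ = b ^ (2 : ℤ)) :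
    b = 1 := by
  have h1 : ∀ m : ℤ, a * b ^ m * a⁻¹ = b ^ (2 * m) := by
    intro m; rw [← conj_zpow, h, ← zpow_mul]
  have h2 : a ^ 3 * b * (a ^ 3)⁻¹ = b ^ (8 : ℤ) := by
    have e : a ^ 3 * b * (a ^ 3)⁻¹ = a * (a * (a * b * a⁻¹) * a⁻¹) * a⁻¹ := by
      rw [pow_succ, pow_succ, pow_one]; group
    rw [e, h, h1, h1]; norm_num
  rw [ha, one_mul, inv_one, mul_one] at h2
  have h3 : b ^ (8 : ℤ) = b ^ (2 : ℤ) := zpow_eq_of_mod hb (by norm_num)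
  rw [h3] at h2
  have h4 : b ^ (2 : ℤ) = b * b := zpow_two b
  rw [h4] at h2
  exact (mul_eq_left.1 h2.symm)

theorem one_of_eq_inv {b : G} (hb : b ^ 3 = 1) (h : b = b⁻¹) : b = 1 := by
  have h1 : b * b = 1 := by
    nth_rw 2 [h]; exact mul_inv_cancel b
  have h2 : b ^ 3 = b * b * b := by rw [pow_succ, pow_two]
  rw [h2, h1, one_mul] at hb
  exact hb

/-- The sign, "up" case. -/
theorem sign_up {a a' b k : G} {e : ℤ} (ha : a ^ 3 = 1) (hb : b ^ 3 = 1) (hk : k ^ 3 = 1)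
    (u1 : a * b * a⁻¹ = k * b) (u2 : Commute a k)
    (d1 : a' * k * a'⁻¹ = b ^ e * k) (d2 : Commute a' b) (h3 : Commute b k)
    (hn : (a * a'⁻¹ * a) ^ 2 * b * ((a * a'⁻¹ * a) ^ 2)⁻¹ = b⁻¹) : b ^ e = b := by
  have hn2 : ∀ e' : ℤ, (a' * k * a'⁻¹ = b ^ e' * k) →
      b ^ ((1 - e') - e' * ((1 - e') + (2 - e'))) *
        k ^ ((1 - e') - e' * ((1 - e') + (2 - e')) + ((1 - e') + (2 - e'))) = b⁻¹ := by
    intro e' d1'
    have s1 := n_up u1 u2 d1' d2 h3 1 0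
    have s2 := n_up u1 u2 d1' d2 h3 (1 - e') (2 - e')
    rw [← hn]
    rw [zpow_one, zpow_zero, mul_one] at s1
    have e1 : (1 : ℤ) - e' * (1 + 0) = 1 - e' := by ring
    have e3 : (1 : ℤ) - e' + (1 + 0) = 2 - e' := by ring
    rw [e1, e3] at s1
    rw [← s2, ← s1, pow_two]
    group
  have hmod : b ^ e = b ^ (e % 3) := zpow_eq_of_mod hb (by rw [Int.emod_emod])
  have hlt : e % 3 = 0 ∨ e % 3 = 1 ∨ e % 3 = 2 := by omega
  rw [hmod] at d1 ⊢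
  rcases hlt with h | h | h <;> rw [h] at d1 ⊢
  · -- `e = 0`
    have h1 : b ^ (1 : ℤ) * k ^ (4 : ℤ) = b⁻¹ := hn2 0 d1
    have hk4 : k ^ (4 : ℤ) = k := by
      rw [zpow_eq_of_mod hk (show (4 : ℤ) % 3 = 1 % 3 by norm_num), zpow_one]
    rw [hk4, zpow_one] at h1
    have hkb : k = b := by
      have h2 : k = b⁻¹ * b⁻¹ := by
        calc k = b⁻¹ * (b * k) := by group
          _ = b⁻¹ * b⁻¹ := by rw [h1]
      have h3 : b⁻¹ * b⁻¹ = b := by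
        have h4 : b * b * b = 1 := by rw [← hb, pow_succ, pow_two]
        calc b⁻¹ * b⁻¹ = b⁻¹ * b⁻¹ * (b * b * b) := by rw [h4, mul_one]
          _ = b := by group
      rw [h2, h3]
    rw [hkb, ← zpow_two] at u1
    rw [one_of_conj_sq ha hb u1, one_zpow]
  · rw [zpow_one]
  · have h1 : b ^ (1 : ℤ) * k ^ (0 : ℤ) = b⁻¹ := hn2 2 d1
    rw [zpow_one, zpow_zero, mul_one] at h1
    rw [one_of_eq_inv hb h1, one_zpow]

/-- The sign, "down" case. -/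
theorem sign_down {a a' b k : G} {e : ℤ} (ha : a' ^ 3 = 1) (hb : b ^ 3 = 1) (hk : k ^ 3 = 1)
    (u1 : a' * b * a'⁻¹ = k * b) (u2 : Commute a' k)
    (d1 : a * k * a⁻¹ = b ^ e * k) (d2 : Commute a b) (h3 : Commute b k)
    (hn : (a * a'⁻¹ * a) ^ 2 * b * ((a * a'⁻¹ * a) ^ 2)⁻¹ = b⁻¹) : b ^ e = b := by
  have hn2 : ∀ e' : ℤ, (a * k * a⁻¹ = b ^ e' * k) →
      b ^ ((1 - e') + e' * (-1) + e' * (-1 - ((1 - e') + e' * (-1)))) *
        k ^ (-1 - ((1 - e') + e' * (-1))) = b⁻¹ := by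
    intro e' d1'
    have s1 := n_down u1 u2 d1' d2 h3 1 0
    have s2 := n_down u1 u2 d1' d2 h3 (1 - e') (-1)
    rw [← hn]
    rw [zpow_one, zpow_zero, mul_one] at s1
    have e1 : (1 : ℤ) + e' * 0 + e' * (0 - (1 + e' * 0)) = 1 - e' := by ring
    have e3 : (0 : ℤ) - (1 + e' * 0) = -1 := by ring
    rw [e1, e3] at s1
    rw [← s2, ← s1, pow_two]
    group
  have hmod : b ^ e = b ^ (e % 3) := zpow_eq_of_mod hb (by rw [Int.emod_emod])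
  have hlt : e % 3 = 0 ∨ e % 3 = 1 ∨ e % 3 = 2 := by omega
  have hb3 : b * b * b = 1 := by rw [← hb, pow_succ, pow_two]
  rw [hmod] at d1 ⊢
  rcases hlt with h | h | h <;> rw [h] at d1 ⊢
  · -- `e = 0`
    have h1 : b ^ (1 : ℤ) * k ^ (-2 : ℤ) = b⁻¹ := hn2 0 d1
    have hk4 : k ^ (-2 : ℤ) = k := by
      rw [zpow_eq_of_mod hk (show (-2 : ℤ) % 3 = 1 % 3 by norm_num), zpow_one]
    rw [hk4, zpow_one] at h1
    have hkb : k = b := by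
      have h2 : k = b⁻¹ * b⁻¹ := by
        calc k = b⁻¹ * (b * k) := by group
          _ = b⁻¹ * b⁻¹ := by rw [h1]
      have h3 : b⁻¹ * b⁻¹ = b := by
        calc b⁻¹ * b⁻¹ = b⁻¹ * b⁻¹ * (b * b * b) := by rw [hb3, mul_one]
          _ = b := by group
      rw [h2, h3]
    rw [hkb, ← zpow_two] at u1
    rw [one_of_conj_sq ha hb u1, one_zpow]
  · rw [zpow_one]
  · have h1 : b ^ (1 : ℤ) * k ^ (2 : ℤ) = b⁻¹ := hn2 2 d1
    -- `k = b ^ 2`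
    have hk2 : k ^ (2 : ℤ) = k⁻¹ := by
      rw [zpow_eq_of_mod hk (show (2 : ℤ) % 3 = (-1) % 3 by norm_num), zpow_neg_one]
    rw [hk2, zpow_one] at h1
    have hkb : k * b = 1 := by
      have h2 : k = b * b := by
        calc k = (b⁻¹ * (b * k⁻¹))⁻¹ := by group
          _ = (b⁻¹ * b⁻¹)⁻¹ := by rw [h1]
          _ = b * b := by rw [mul_inv_rev, inv_inv]
      rw [h2]; exact hb3
    rw [hkb] at u1
    have : b = 1 := by
      have h2 : a' * b * a'⁻¹ = 1 := u1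
      calc b = a'⁻¹ * (a' * b * a'⁻¹) * a' := by group
        _ = 1 := by rw [h2]; group
    rw [this, one_zpow]

/-! ### The relations of type `A₂` -/

/-- The relations between the generators at `1` of the root subgroups of `SL₃(3)`:
`a, a'` for the roots `±α`, `b, b'` for `±β`, `c, c'` for `±(α+β)`. -/
structure A2Sys (a a' b b' c c' : G) : Prop where
  ba : Co b a c
  ab' : Co a' b' c'
  ca' : Co c a' b
  cb' : Co c b' a⁻¹
  c'a : Co c' a b'⁻¹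
  c'b : Co c' b a'
  cab' : Commute a b'
  cba' : Commute a' b

/-- The relations from which everything is derived. -/
structure A2Rel (a a' b b' : G) : Prop where
  ab' : Commute a b'
  a'b : Commute a' b
  ka : Commute ⁅a, b⁆ a
  kb : Commute ⁅a, b⁆ b
  k3 : ⁅a, b⁆ ^ 3 = 1
  ka' : Commute ⁅a', b'⁆ a'
  kb' : Commute ⁅a', b'⁆ b'
  k'3 : ⁅a', b'⁆ ^ 3 = 1
  r1 : ∃ n : ℕ, ⁅a', ⁅a, b⁆⁆ = b ^ n
  r2 : ∃ n : ℕ, ⁅b', ⁅a, b⁆⁆ = a ^ n
  r3 : ∃ n : ℕ, ⁅a, ⁅a', b'⁆⁆ = b' ^ n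
  r4 : ∃ n : ℕ, ⁅b, ⁅a', b'⁆⁆ = a' ^ n

theorem conj_of_comm {x y : G} : x * y * x⁻¹ = ⁅x, y⁆ * y := by
  rw [commutatorElement_def]; group

theorem comm_of_conj {x k : G} {b : G} {n : ℕ} (h : ⁅x, k⁆ = b ^ n) :
    x * k * x⁻¹ = b ^ (n : ℤ) * k := by
  rw [conj_of_comm, h, zpow_natCast]

theorem comm_swap {a b : G} : ⁅b, a⁆ = ⁅a, b⁆⁻¹ := (commutatorElement_inv a b).symm

/-- `a' k a'⁻¹ = b k`, the forced form of `r1`. -/
theorem A2Rel.s1 {a a' b b' : G} (h : A2Rel a a' b b') (ha : a ^ 3 = 1) (hb : b ^ 3 = 1)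
    (hn : (a * a'⁻¹ * a) ^ 2 * b * ((a * a'⁻¹ * a) ^ 2)⁻¹ = b⁻¹) :
    a' * ⁅a, b⁆ * a'⁻¹ = b * ⁅a, b⁆ := by
  obtain ⟨n, hn'⟩ := h.r1
  have d1 := comm_of_conj hn'
  rw [d1, sign_up ha hb h.k3 conj_of_comm h.ka.symm d1 h.a'b h.kb.symm hn]

/-- `b' k b'⁻¹ = a⁻¹ k`, the forced form of `r2`. -/
theorem A2Rel.s2 {a a' b b' : G} (h : A2Rel a a' b b') (ha : a ^ 3 = 1) (hb : b ^ 3 = 1)
    (hm : (b * b'⁻¹ * b) ^ 2 * a * ((b * b'⁻¹ * b) ^ 2)⁻¹ = a⁻¹) :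
    b' * ⁅a, b⁆ * b'⁻¹ = a⁻¹ * ⁅a, b⁆ := by
  obtain ⟨n, hn'⟩ := h.r2
  have d1 := comm_of_conj hn'
  have hak : Commute a ⁅a, b⁆ := h.ka.symm
  have d2 : b' * ⁅b, a⁆ * b'⁻¹ = a ^ (-(n : ℤ)) * ⁅b, a⁆ := by
    rw [comm_swap, ← conj_inv, d1, mul_inv_rev, zpow_neg]
    exact ((hak.zpow_left (n : ℤ)).inv_inv.eq).symm
  have h3 : ⁅b, a⁆ ^ 3 = 1 := by rw [comm_swap, inv_pow, h.k3, inv_one]
  have hkb : Commute b ⁅b, a⁆ := by rw [comm_swap]; exact h.kb.symm.inv_right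
  have hka : Commute a ⁅b, a⁆ := by rw [comm_swap]; exact h.ka.symm.inv_right
  have key := sign_up hb ha h3 conj_of_comm hkb d2 h.ab'.symm hka hm
  rw [d1]
  congr 1
  rw [zpow_neg] at key
  rw [← inv_inj, key, inv_inv]

/-- `a k' a⁻¹ = b' k'`, the forced form of `r3`. -/
theorem A2Rel.s3 {a a' b b' : G} (h : A2Rel a a' b b') (ha : a' ^ 3 = 1) (hb : b' ^ 3 = 1)
    (hn : (a * a'⁻¹ * a) ^ 2 * b' * ((a * a'⁻¹ * a) ^ 2)⁻¹ = b'⁻¹) :
    a * ⁅a', b'⁆ * a⁻¹ = b' * ⁅a', b'⁆ := by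
  obtain ⟨n, hn'⟩ := h.r3
  have d1 := comm_of_conj hn'
  rw [d1, sign_down ha hb h.k'3 conj_of_comm h.ka'.symm d1 h.ab' h.kb'.symm hn]

/-- `b k' b⁻¹ = a'⁻¹ k'`, the forced form of `r4`. -/
theorem A2Rel.s4 {a a' b b' : G} (h : A2Rel a a' b b') (ha : a' ^ 3 = 1) (hb : b' ^ 3 = 1)
    (hm : (b * b'⁻¹ * b) ^ 2 * a' * ((b * b'⁻¹ * b) ^ 2)⁻¹ = a'⁻¹) :
    b * ⁅a', b'⁆ * b⁻¹ = a'⁻¹ * ⁅a', b'⁆ := by
  obtain ⟨n, hn'⟩ := h.r4
  have d1 := comm_of_conj hn'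
  have hak : Commute a' ⁅a', b'⁆ := h.ka'.symm
  have d2 : b * ⁅b', a'⁆ * b⁻¹ = a' ^ (-(n : ℤ)) * ⁅b', a'⁆ := by
    rw [comm_swap, ← conj_inv, d1, mul_inv_rev, zpow_neg]
    exact ((hak.zpow_left (n : ℤ)).inv_inv.eq).symm
  have h3 : ⁅b', a'⁆ ^ 3 = 1 := by rw [comm_swap, inv_pow, h.k'3, inv_one]
  have hkb : Commute b' ⁅b', a'⁆ := by rw [comm_swap]; exact h.kb'.symm.inv_right
  have hka : Commute a' ⁅b', a'⁆ := by rw [comm_swap]; exact h.ka'.symm.inv_right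
  have key := sign_down hb ha h3 conj_of_comm hkb d2 h.a'b.symm hka hm
  rw [d1]
  congr 1
  rw [zpow_neg] at key
  rw [← inv_inj, key, inv_inv]

/-- `x k x⁻¹ = y k` with `y` commuting with `x` and `k`. -/
theorem Co.of_conj {x k y : G} (h : x * k * x⁻¹ = y * k) (h1 : Commute y x) (h2 : Commute y k) :
    Co k x y⁻¹ := by
  refine Co.of_mul ?_ h2.inv_left h1.inv_left
  have h3 : x * k = y * k * x := by rw [← h]; group
  rw [h3]
  calc k * x = y * (y⁻¹ * (k * x)) := by group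
    _ = y * ((k * x) * y⁻¹) := by rw [((h2.mul_right h1).inv_left).eq]
    _ = y * k * x * y⁻¹ := by group

theorem A2Rel.sys {a a' b b' : G} (h : A2Rel a a' b b') (ha : a ^ 3 = 1) (ha' : a' ^ 3 = 1)
    (hb : b ^ 3 = 1) (hb' : b' ^ 3 = 1)
    (n1 : (a * a'⁻¹ * a) ^ 2 * b * ((a * a'⁻¹ * a) ^ 2)⁻¹ = b⁻¹)
    (n2 : (a * a'⁻¹ * a) ^ 2 * b' * ((a * a'⁻¹ * a) ^ 2)⁻¹ = b'⁻¹)
    (m1 : (b * b'⁻¹ * b) ^ 2 * a * ((b * b'⁻¹ * b) ^ 2)⁻¹ = a⁻¹)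
    (m2 : (b * b'⁻¹ * b) ^ 2 * a' * ((b * b'⁻¹ * b) ^ 2)⁻¹ = a'⁻¹) :
    A2Sys a a' b b' (⁅a, b⁆⁻¹) ⁅a', b'⁆ where
  ba := by
    refine Co.of_mul ?_ h.kb.inv_left h.ka.inv_left
    have : a * b = ⁅a, b⁆ * (b * a) := by rw [commutatorElement_def]; group
    rw [this, (h.kb.mul_right h.ka).eq]
    group
  ab' := by
    refine Co.of_mul ?_ h.ka' h.kb'
    have : a' * b' = ⁅a', b'⁆ * (b' * a') := by rw [commutatorElement_def]; group
    rw [this, (h.kb'.mul_right h.ka').eq]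
  ca' := by
    have := (Co.of_conj (h.s1 ha hb n1) h.a'b.symm h.kb.symm).inv_left
    rwa [inv_inv] at this
  cb' := by
    have := (Co.of_conj (h.s2 ha hb m1) h.ab'.inv_left h.ka.symm.inv_left).inv_left
    rwa [inv_inv] at this
  c'a := Co.of_conj (h.s3 ha' hb' n2) h.ab'.symm h.kb'.symm
  c'b := by
    have := Co.of_conj (h.s4 ha' hb' m2) h.a'b.inv_left h.ka'.symm.inv_left
    rwa [inv_inv] at this
  cab' := h.ab'
  cba' := h.a'b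

/-! ### Weyl elements -/

section weyl

variable {a a' b b' c c' : G}

/-- `n_α = a a'⁻¹ a` maps `b ↦ c⁻¹`. -/
theorem A2Sys.n_b (h : A2Sys a a' b b' c c') :
    (a * a'⁻¹ * a) * b * (a * a'⁻¹ * a)⁻¹ = c⁻¹ := by
  have e1 : a * b * a⁻¹ = c⁻¹ * b := by
    have := h.ba.swap.mul
    rw [this]
    have h1 : b * a * c⁻¹ = c⁻¹ * (b * a) :=
      ((h.ba.left.mul_right h.ba.right).inv_left.eq).symm
    rw [h1]; group
  have e2 : a' * c * a'⁻¹ = b⁻¹ * c := by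
    have h1 := h.ca'.mul
    -- c * a' = a' * c * b
    have h2 : a' * c = c * a' * b⁻¹ := by rw [h1]; group
    rw [h2, ← (h.ca'.left.mul_right h.ca'.right).inv_left.eq]; group
  have e3 : a' * b * a'⁻¹ = b := by rw [h.cba'.eq]; group
  have e4 : a * c * a⁻¹ = c := by rw [h.ba.right.symm.eq]; group
  have hcb : Commute c b := h.ba.left
  apply conj_mul3 a a' b (c⁻¹ * b) c⁻¹ c⁻¹ e1
  · -- a'⁻¹ (c⁻¹ b) a' = c⁻¹
    apply conj_inv_of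
    rw [← conj_inv, e2, mul_inv_rev, inv_inv]
  · rw [← conj_inv, e4]

/-- `n_α : b' ↦ c'⁻¹`. -/
theorem A2Sys.n_b' (h : A2Sys a a' b b' c c') :
    (a * a'⁻¹ * a) * b' * (a * a'⁻¹ * a)⁻¹ = c'⁻¹ := by
  have e1 : a * b' * a⁻¹ = b' := by rw [h.cab'.eq]; group
  have hc'b' : Commute c' b' := h.ab'.right
  have e2 : a' * b' * a'⁻¹ = c' * b' := by
    have := h.ab'.mul
    rw [this, ← (h.ab'.right.mul_right h.ab'.left).eq]; group
  have e3 : a' * c' * a'⁻¹ = c' := by rw [h.ab'.left.symm.eq]; group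
  have e4 : a * c' * a⁻¹ = b' * c' := by
    have h1 := h.c'a.mul
    -- c' a = a c' b'⁻¹
    have h2 : a * c' = c' * a * b' := by rw [h1]; group
    have h3 : Commute b' (c' * a) := (hc'b'.symm).mul_right h.cab'.symm
    rw [h2, ← h3.eq]; group
  apply conj_mul3 a a' b' b' (c'⁻¹ * b') c'⁻¹ e1
  · apply conj_inv_of
    have : a' * (c'⁻¹ * b') * a'⁻¹ = (a' * c' * a'⁻¹)⁻¹ * (a' * b' * a'⁻¹) := by group
    rw [this, e3, e2]; group
  · have : a * (c'⁻¹ * b') * a⁻¹ = (a * c' * a⁻¹)⁻¹ * (a * b' * a⁻¹) := by group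
    rw [this, e4, e1]; group

/-- `n_α : c ↦ b`. -/
theorem A2Sys.n_c (h : A2Sys a a' b b' c c') :
    (a * a'⁻¹ * a) * c * (a * a'⁻¹ * a)⁻¹ = b := by
  have e1 : a * b * a⁻¹ = c⁻¹ * b := by
    have := h.ba.swap.mul
    rw [this]
    have h1 : b * a * c⁻¹ = c⁻¹ * (b * a) :=
      ((h.ba.left.mul_right h.ba.right).inv_left.eq).symm
    rw [h1]; group
  have e2 : a' * c * a'⁻¹ = b⁻¹ * c := by
    have h1 := h.ca'.mul
    have h2 : a' * c = c * a' * b⁻¹ := by rw [h1]; group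
    rw [h2, ← (h.ca'.left.mul_right h.ca'.right).inv_left.eq]; group
  have e3 : a' * b * a'⁻¹ = b := by rw [h.cba'.eq]; group
  have e4 : a * c * a⁻¹ = c := by rw [h.ba.right.symm.eq]; group
  have hcb : Commute c b := h.ba.left
  apply conj_mul3 a a' c c (b * c) b e4
  · apply conj_inv_of
    have : a' * (b * c) * a'⁻¹ = (a' * b * a'⁻¹) * (a' * c * a'⁻¹) := by group
    rw [this, e3, e2]; group
  · have : a * (b * c) * a⁻¹ = (a * b * a⁻¹) * (a * c * a⁻¹) := by group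
    rw [this, e1, e4, mul_assoc, ← hcb.eq]; group

/-- `n_α : c' ↦ b'`. -/
theorem A2Sys.n_c' (h : A2Sys a a' b b' c c') :
    (a * a'⁻¹ * a) * c' * (a * a'⁻¹ * a)⁻¹ = b' := by
  have e1 : a * b' * a⁻¹ = b' := by rw [h.cab'.eq]; group
  have hc'b' : Commute c' b' := h.ab'.right
  have e2 : a' * b' * a'⁻¹ = c' * b' := by
    have := h.ab'.mul
    rw [this, ← (h.ab'.right.mul_right h.ab'.left).eq]; group
  have e4 : a * c' * a⁻¹ = b' * c' := by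
    have h1 := h.c'a.mul
    have h2 : a * c' = c' * a * b' := by rw [h1]; group
    have h3 : Commute b' (c' * a) := (hc'b'.symm).mul_right h.cab'.symm
    rw [h2, ← h3.eq]; group
  apply conj_mul3 a a' c' (b' * c') b' b' e4
  · apply conj_inv_of
    rw [e2, hc'b'.eq]
  · exact e1

/-- `n_α : a ↦ a'⁻¹`. -/
theorem A2Sys.n_a (h : A2Sys a a' b b' c c') :
    (a * a'⁻¹ * a) * a * (a * a'⁻¹ * a)⁻¹ = a'⁻¹ := by
  have key : ∀ n : G, n * c * n⁻¹ = b → n * b' * n⁻¹ = c'⁻¹ → n * a * n⁻¹ = a'⁻¹ := by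
    intro n h1 h2
    have e : a⁻¹ = c⁻¹ * b'⁻¹ * c * b' := h.cb'.eq.symm
    have e2 : n * a⁻¹ * n⁻¹ = (n * c * n⁻¹)⁻¹ * (n * b' * n⁻¹)⁻¹ * (n * c * n⁻¹) *
        (n * b' * n⁻¹) := by rw [e]; group
    rw [h1, h2] at e2
    have e3 : b⁻¹ * c'⁻¹⁻¹ * b * c'⁻¹ = a' := by
      have h3 := h.c'b.mul
      -- c' * b = b * c' * a'
      have h4 : c' * a' = a' * c' := h.ab'.left.eq
      calc b⁻¹ * c'⁻¹⁻¹ * b * c'⁻¹ = b⁻¹ * (c' * b) * c'⁻¹ := by group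
        _ = c' * a' * c'⁻¹ := by rw [h3]; group
        _ = a' := by rw [h4]; group
    rw [e3] at e2
    rw [← e2]; group
  exact key _ h.n_c h.n_b'

/-- `n_α : a' ↦ a⁻¹`. -/
theorem A2Sys.n_a' (h : A2Sys a a' b b' c c') :
    (a * a'⁻¹ * a) * a' * (a * a'⁻¹ * a)⁻¹ = a⁻¹ := by
  have key : ∀ n : G, n * c' * n⁻¹ = b' → n * b * n⁻¹ = c⁻¹ → n * a' * n⁻¹ = a⁻¹ := by
    intro n h1 h2
    have e : a' = c'⁻¹ * b⁻¹ * c' * b := h.c'b.eq.symm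
    have e2 : n * a' * n⁻¹ = (n * c' * n⁻¹)⁻¹ * (n * b * n⁻¹)⁻¹ * (n * c' * n⁻¹) *
        (n * b * n⁻¹) := by rw [e]; group
    rw [h1, h2] at e2
    rw [e2]
    have h3 := h.cb'.mul
    -- c * b' = b' * c * a⁻¹
    have h4 : c * a⁻¹ = a⁻¹ * c := h.ba.right.inv_right.eq
    calc b'⁻¹ * c⁻¹⁻¹ * b' * c⁻¹ = b'⁻¹ * (c * b') * c⁻¹ := by group
      _ = c * a⁻¹ * c⁻¹ := by rw [h3]; group
      _ = a⁻¹ := by rw [h4]; group
  exact key _ h.n_c' h.n_b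

theorem A2Sys.swap (h : A2Sys a a' b b' c c') : A2Sys b b' a a' c⁻¹ c'⁻¹ where
  ba := h.ba.swap
  ab' := h.ab'.swap
  ca' := by have := h.cb'.inv_left; rwa [inv_inv] at this
  cb' := h.ca'.inv_left
  c'a := h.c'b.inv_left
  c'b := by have := h.c'a.inv_left; rwa [inv_inv] at this
  cab' := h.cba'.symm
  cba' := h.cab'.symm

theorem pow_four_conj {n x : G} (hx : x ^ 4 = 1) : (n * x * n⁻¹) ^ 4 = 1 := by
  rw [conj_pow, hx, mul_one, mul_inv_cancel]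

theorem pow_four_inv {x : G} (hx : x ^ 4 = 1) : x⁻¹ ^ 4 = 1 := by rw [inv_pow, hx, inv_one]

/-- `n_{-α}^4 = 1`. -/
theorem A2Sys.four_neg (h : A2Sys a a' b b' c c') (h4 : (a * a'⁻¹ * a) ^ 4 = 1) :
    (a' * a⁻¹ * a') ^ 4 = 1 := by
  have e : a' * a⁻¹ * a' = (a * a'⁻¹ * a)⁻¹ := by
    have h1 : (a * a'⁻¹ * a) * (a⁻¹ * a' * a⁻¹) * (a * a'⁻¹ * a)⁻¹ = a' * a⁻¹ * a' := by
      have : (a * a'⁻¹ * a) * (a⁻¹ * a' * a⁻¹) * (a * a'⁻¹ * a)⁻¹ =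
          ((a * a'⁻¹ * a) * a * (a * a'⁻¹ * a)⁻¹)⁻¹ * ((a * a'⁻¹ * a) * a' * (a * a'⁻¹ * a)⁻¹) *
          ((a * a'⁻¹ * a) * a * (a * a'⁻¹ * a)⁻¹)⁻¹ := by group
      rw [this, h.n_a, h.n_a', inv_inv]
    rw [← h1]; group
  rw [e]
  exact pow_four_inv h4

/-- `n_{α+β}^4 = 1`. -/
theorem A2Sys.four_sum (h : A2Sys a a' b b' c c') (h4 : (b * b'⁻¹ * b) ^ 4 = 1) :
    (c * c'⁻¹ * c) ^ 4 = 1 := by
  have e : (a * a'⁻¹ * a) * (b * b'⁻¹ * b) * (a * a'⁻¹ * a)⁻¹ = (c * c'⁻¹ * c)⁻¹ := by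
    have : (a * a'⁻¹ * a) * (b * b'⁻¹ * b) * (a * a'⁻¹ * a)⁻¹ =
        ((a * a'⁻¹ * a) * b * (a * a'⁻¹ * a)⁻¹) * ((a * a'⁻¹ * a) * b' * (a * a'⁻¹ * a)⁻¹)⁻¹ *
        ((a * a'⁻¹ * a) * b * (a * a'⁻¹ * a)⁻¹) := by group
    rw [this, h.n_b, h.n_b', inv_inv]; group
  have h5 := pow_four_conj (n := a * a'⁻¹ * a) h4
  rw [e] at h5
  have := pow_four_inv h5
  rwa [inv_inv] at this

/-- `n_{-α-β}^4 = 1`. -/
theorem A2Sys.four_neg_sum (h : A2Sys a a' b b' c c') (h4 : (b * b'⁻¹ * b) ^ 4 = 1) :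
    (c' * c⁻¹ * c') ^ 4 = 1 := by
  have h4' : (b' * b⁻¹ * b') ^ 4 = 1 := h.swap.four_neg h4
  have e : (a * a'⁻¹ * a) * (b' * b⁻¹ * b') * (a * a'⁻¹ * a)⁻¹ = (c' * c⁻¹ * c')⁻¹ := by
    have : (a * a'⁻¹ * a) * (b' * b⁻¹ * b') * (a * a'⁻¹ * a)⁻¹ =
        ((a * a'⁻¹ * a) * b' * (a * a'⁻¹ * a)⁻¹) * ((a * a'⁻¹ * a) * b * (a * a'⁻¹ * a)⁻¹)⁻¹ *
        ((a * a'⁻¹ * a) * b' * (a * a'⁻¹ * a)⁻¹) := by group
    rw [this, h.n_b, h.n_b', inv_inv]; group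
  have h5 := pow_four_conj (n := a * a'⁻¹ * a) h4'
  rw [e] at h5
  have := pow_four_inv h5
  rwa [inv_inv] at this

end weyl

end Cfsg.Agent.TypeD4Three.ChevA2
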