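import Cfsg.Agent.LieRecognition.CTMain
import Cfsg.Agent.LieRecognition.CTRawD4
import Cfsg.Agent.TypeD4Three.ChevA2

/-!
Elements satisfying the `A₂`-relations over `F₃` along the edges of the diagram `D₄` define a
homomorphism from the Curtis-Tits group of type `D₄` over `ZMod 3`.
-/

set_option autoImplicit false

namespace Cfsg.Agent.TypeD4Three.ChevHom

open Cfsg Cfsg.Lie Cfsg.Agent.TypeD4Three.ChevA2
open Cfsg.Agent.LieRecognition.CTString Cfsg.Agent.LieRecognition.CTMain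

variable {G : Type*} [Group G]

/-! ### Powers with exponents in `ZMod 3` -/

/-- `x ^ t` for `x` with `x ^ 3 = 1` and `t : ZMod 3`. -/
def pw (x : G) (t : ZMod 3) : G := x ^ t.val

theorem pow_mod_three {x : G} (hx : x ^ 3 = 1) (n : ℕ) : x ^ n = x ^ (n % 3) := by
  conv_lhs => rw [← Nat.mod_add_div n 3, pow_add, pow_mul, hx, one_pow, mul_one]

theorem pw_zero (x : G) : pw x 0 = 1 := pow_zero x

theorem pw_one' (x : G) : pw x 1 = x := pow_one x

theorem pw_add {x : G} (hx : x ^ 3 = 1) (t u : ZMod 3) : pw x t * pw x u = pw x (t + u) := by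
  show x ^ t.val * x ^ u.val = x ^ (t + u).val
  rw [← pow_add, pow_mod_three hx, ZMod.val_add]

theorem pw_neg {x : G} (hx : x ^ 3 = 1) (t : ZMod 3) : pw x (-t) = (pw x t)⁻¹ := by
  rw [eq_inv_iff_mul_eq_one, pw_add hx, neg_add_cancel, pw_zero]

theorem pw_inv (x : G) (t : ZMod 3) : pw x⁻¹ t = (pw x t)⁻¹ := inv_pow x t.val

theorem pw_one_left (t : ZMod 3) : pw (1 : G) t = 1 := one_pow t.val

theorem pw_mul {x : G} (hx : x ^ 3 = 1) (t u : ZMod 3) : pw x (t * u) = x ^ (t.val * u.val) := by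
  show x ^ (t * u).val = _
  rw [ZMod.val_mul, ← pow_mod_three hx]

theorem rel_neg {g h k : G} (c : Co g h k) (hk : k ^ 3 = 1) (t u : ZMod 3) :
    (pw g u)⁻¹ * (pw h t)⁻¹ * pw g u * pw h t =
      pw k (((-1 : ℤ) : ZMod 3) * (-t) ^ 1 * u ^ 1) := by
  have h1 : ((-1 : ℤ) : ZMod 3) * (-t) ^ 1 * u ^ 1 = u * t := by
    push_cast; ring
  rw [h1, pw_mul hk]
  exact (c.pow u.val t.val).eq

theorem rel_pos {g h k : G} (c : Co g h k⁻¹) (hk : k ^ 3 = 1) (t u : ZMod 3) :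
    (pw g u)⁻¹ * (pw h t)⁻¹ * pw g u * pw h t =
      pw k (((1 : ℤ) : ZMod 3) * (-t) ^ 1 * u ^ 1) := by
  have h1 : ((1 : ℤ) : ZMod 3) * (-t) ^ 1 * u ^ 1 = -(u * t) := by
    push_cast; ring
  have hk' : k⁻¹ ^ 3 = 1 := by rw [inv_pow, hk, inv_one]
  have h2 : (pw k (u * t))⁻¹ = k⁻¹ ^ (u.val * t.val) := by rw [← pw_inv, pw_mul hk']
  rw [h1, pw_neg hk, h2]
  exact (c.pow u.val t.val).eq

theorem rel_nil {g h : G} (c : Commute g h) (t u : ZMod 3) :
    (pw g u)⁻¹ * (pw h t)⁻¹ * pw g u * pw h t = 1 := by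
  have h1 : Commute (pw g u) (pw h t) := c.pow_pow _ _
  rw [← mul_inv_rev, ← h1.eq]; group

section table

variable (X : ℕ → G)

/-- The family of root elements. -/
def y (r : ℕ) (t : ZMod 3) : G := pw (X r) t

/-- The commutator relation for the pair `r, s`. -/
def Rl (r s : ℕ) : Prop := ∀ t u : ZMod 3,
  (y X s u)⁻¹ * (y X r t)⁻¹ * y X s u * y X r t = tprod (y X) (chevD4.commTerms r s) (-t) u

variable {X}

theorem Rl_neg (h3 : ∀ r, X r ^ 3 = 1) {r s k : ℕ} (e : chevD4.commTerms r s = [(k, -1, 1, 1)])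
    (c : Co (X s) (X r) (X k)) : Rl X r s := by
  intro t u
  rw [e, LieRecognition.CTString.tprod_one]
  exact rel_neg c (h3 k) t u

theorem Rl_pos (h3 : ∀ r, X r ^ 3 = 1) {r s k : ℕ} (e : chevD4.commTerms r s = [(k, 1, 1, 1)])
    (c : Co (X s) (X r) (X k)⁻¹) : Rl X r s := by
  intro t u
  rw [e, LieRecognition.CTString.tprod_one]
  exact rel_pos c (h3 k) t u

theorem Rl_nil {r s : ℕ} (e : chevD4.commTerms r s = []) (c : Commute (X s) (X r)) :
    Rl X r s := by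
  intro t u
  rw [e, LieRecognition.CTString.tprod_nil]
  exact rel_nil c t u

/-- The commutator table for a subsystem of type `A₂`. -/
structure Tab (α α' β β' γ γ' : ℕ) : Prop where
  nα : chevD4.neg α = α'
  nα' : chevD4.neg α' = α
  nβ : chevD4.neg β = β'
  nβ' : chevD4.neg β' = β
  nγ : chevD4.neg γ = γ'
  nγ' : chevD4.neg γ' = γ
  αβ : chevD4.commTerms α β = [(γ, -1, 1, 1)]
  βα : chevD4.commTerms β α = [(γ, 1, 1, 1)]
  αγ' : chevD4.commTerms α γ' = [(β', 1, 1, 1)]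
  γ'α : chevD4.commTerms γ' α = [(β', -1, 1, 1)]
  βγ' : chevD4.commTerms β γ' = [(α', -1, 1, 1)]
  γ'β : chevD4.commTerms γ' β = [(α', 1, 1, 1)]
  α'β' : chevD4.commTerms α' β' = [(γ', 1, 1, 1)]
  β'α' : chevD4.commTerms β' α' = [(γ', -1, 1, 1)]
  α'γ : chevD4.commTerms α' γ = [(β, -1, 1, 1)]
  γα' : chevD4.commTerms γ α' = [(β, 1, 1, 1)]
  β'γ : chevD4.commTerms β' γ = [(α, 1, 1, 1)]
  γβ' : chevD4.commTerms γ β' = [(α, -1, 1, 1)]
  αβ' : chevD4.commTerms α β' = []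
  β'α : chevD4.commTerms β' α = []
  α'β : chevD4.commTerms α' β = []
  βα' : chevD4.commTerms β α' = []
  αγ : chevD4.commTerms α γ = []
  γα : chevD4.commTerms γ α = []
  βγ : chevD4.commTerms β γ = []
  γβ : chevD4.commTerms γ β = []
  α'γ' : chevD4.commTerms α' γ' = []
  γ'α' : chevD4.commTerms γ' α' = []
  β'γ' : chevD4.commTerms β' γ' = []
  γ'β' : chevD4.commTerms γ' β' = []

theorem Tab.comm {α α' β β' γ γ' : ℕ} (T : Tab α α' β β' γ γ') (h3 : ∀ r, X r ^ 3 = 1)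
    (S : A2Sys (X α) (X α') (X β) (X β') (X γ) (X γ')) :
    ∀ r ∈ [α, α', β, β', γ, γ'], ∀ s ∈ [α, α', β, β', γ, γ'], s ≠ r → s ≠ chevD4.neg r →
      Rl X r s := by
  have i1 : Co (X α) (X γ') (X β') := by have := S.c'a.swap; rwa [inv_inv] at this
  have i2 : Co (X β') (X γ) (X α) := by have := S.cb'.swap; rwa [inv_inv] at this
  intro r hr s hs h1 h2
  simp only [List.mem_cons, List.not_mem_nil, or_false] at hr hs
  rcases hr with rfl | rfl | rfl | rfl | rfl | rfl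
  · rcases hs with rfl | rfl | rfl | rfl | rfl | rfl
    · exact absurd rfl h1
    · exact absurd T.nα.symm h2
    · exact Rl_neg h3 T.αβ S.ba
    · exact Rl_nil T.αβ' S.cab'.symm
    · exact Rl_nil T.αγ S.ba.right
    · exact Rl_pos h3 T.αγ' S.c'a
  · rcases hs with rfl | rfl | rfl | rfl | rfl | rfl
    · exact absurd T.nα'.symm h2
    · exact absurd rfl h1
    · exact Rl_nil T.α'β S.cba'.symm
    · exact Rl_pos h3 T.α'β' S.ab'.swap
    · exact Rl_neg h3 T.α'γ S.ca'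
    · exact Rl_nil T.α'γ' S.ab'.left
  · rcases hs with rfl | rfl | rfl | rfl | rfl | rfl
    · exact Rl_pos h3 T.βα S.ba.swap
    · exact Rl_nil T.βα' S.cba'
    · exact absurd rfl h1
    · exact absurd T.nβ.symm h2
    · exact Rl_nil T.βγ S.ba.left
    · exact Rl_neg h3 T.βγ' S.c'b
  · rcases hs with rfl | rfl | rfl | rfl | rfl | rfl
    · exact Rl_nil T.β'α S.cab'
    · exact Rl_neg h3 T.β'α' S.ab'
    · exact absurd T.nβ'.symm h2
    · exact absurd rfl h1
    · exact Rl_pos h3 T.β'γ S.cb'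
    · exact Rl_nil T.β'γ' S.ab'.right
  · rcases hs with rfl | rfl | rfl | rfl | rfl | rfl
    · exact Rl_nil T.γα S.ba.right.symm
    · exact Rl_pos h3 T.γα' S.ca'.swap
    · exact Rl_nil T.γβ S.ba.left.symm
    · exact Rl_neg h3 T.γβ' i2
    · exact absurd rfl h1
    · exact absurd T.nγ.symm h2
  · rcases hs with rfl | rfl | rfl | rfl | rfl | rfl
    · exact Rl_neg h3 T.γ'α i1
    · exact Rl_nil T.γ'α' S.ab'.left.symm
    · exact Rl_pos h3 T.γ'β S.c'b.swap
    · exact Rl_nil T.γ'β' S.ab'.right.symm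
    · exact absurd T.nγ'.symm h2
    · exact absurd rfl h1

theorem tab0 : Tab 18 5 14 9 19 4 := by
  constructor <;> decide +kernel

theorem tab1 : Tab 14 9 13 10 16 7 := by
  constructor <;> decide +kernel

theorem tab2 : Tab 14 9 12 11 15 8 := by
  constructor <;> decide +kernel

/-- The commutator table for a subsystem of type `A₁ × A₁`. -/
theorem comm_orth {α α' β β' : ℕ} (nα : chevD4.neg α = α') (nα' : chevD4.neg α' = α)
    (nβ : chevD4.neg β = β') (nβ' : chevD4.neg β' = β)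
    (T : ∀ r ∈ [α, α'], ∀ s ∈ [β, β'], chevD4.commTerms r s = [] ∧ chevD4.commTerms s r = [])
    (S : ∀ r ∈ [α, α'], ∀ s ∈ [β, β'], Commute (X r) (X s)) :
    ∀ r ∈ [α, α', β, β'], ∀ s ∈ [α, α', β, β'], s ≠ r → s ≠ chevD4.neg r → Rl X r s := by
  intro r hr s hs h1 h2
  have m1 : α ∈ [α, α'] := by simp
  have m2 : α' ∈ [α, α'] := by simp
  have m3 : β ∈ [β, β'] := by simp
  have m4 : β' ∈ [β, β'] := by simp
  simp only [List.mem_cons, List.not_mem_nil, or_false] at hr hs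
  rcases hr with rfl | rfl | rfl | rfl
  · rcases hs with rfl | rfl | rfl | rfl
    · exact absurd rfl h1
    · exact absurd nα.symm h2
    · exact Rl_nil (T _ m1 _ m3).1 (S _ m1 _ m3).symm
    · exact Rl_nil (T _ m1 _ m4).1 (S _ m1 _ m4).symm
  · rcases hs with rfl | rfl | rfl | rfl
    · exact absurd nα'.symm h2
    · exact absurd rfl h1
    · exact Rl_nil (T _ m2 _ m3).1 (S _ m2 _ m3).symm
    · exact Rl_nil (T _ m2 _ m4).1 (S _ m2 _ m4).symm
  · rcases hs with rfl | rfl | rfl | rfl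
    · exact Rl_nil (T _ m1 _ m3).2 (S _ m1 _ m3)
    · exact Rl_nil (T _ m2 _ m3).2 (S _ m2 _ m3)
    · exact absurd rfl h1
    · exact absurd nβ.symm h2
  · rcases hs with rfl | rfl | rfl | rfl
    · exact Rl_nil (T _ m1 _ m4).2 (S _ m1 _ m4)
    · exact Rl_nil (T _ m2 _ m4).2 (S _ m2 _ m4)
    · exact absurd nβ'.symm h2
    · exact absurd rfl h1

end table

/-! ### The system of type `D₄` -/

/-- The values of the root elements at `1`. -/
def XX (a a' c c' : Fin 3 → G) (b b' : G) : ℕ → G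
  | 18 => a 0
  | 5 => a' 0
  | 14 => b
  | 9 => b'
  | 13 => a 1
  | 10 => a' 1
  | 12 => a 2
  | 11 => a' 2
  | 19 => c 0
  | 4 => c' 0
  | 16 => c 1
  | 7 => c' 1
  | 15 => c 2
  | 8 => c' 2
  | _ => 1

/-- The data: three systems of type `A₂` with one node in common. -/
structure Sys (a a' c c' : Fin 3 → G) (b b' : G) : Prop where
  ha : ∀ i, a i ^ 3 = 1
  ha' : ∀ i, a' i ^ 3 = 1
  hc : ∀ i, c i ^ 3 = 1
  hc' : ∀ i, c' i ^ 3 = 1
  hb : b ^ 3 = 1
  hb' : b' ^ 3 = 1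
  s0 : A2Sys (a 0) (a' 0) b b' (c 0) (c' 0)
  s1 : A2Sys b b' (a 1) (a' 1) (c 1) (c' 1)
  s2 : A2Sys b b' (a 2) (a' 2) (c 2) (c' 2)
  fa : ∀ i, (a i * (a' i)⁻¹ * a i) ^ 4 = 1
  fb : (b * b'⁻¹ * b) ^ 4 = 1
  aa : ∀ i j, i ≠ j → Commute (a i) (a j)
  aa' : ∀ i j, i ≠ j → Commute (a i) (a' j)
  a'a' : ∀ i j, i ≠ j → Commute (a' i) (a' j)

/-- lists of the roots of the rank two subsystems -/
def subL : ℕ → ℕ → List ℕ
  | 0, 1 => [18, 5, 14, 9, 19, 4]
  | 1, 0 => [18, 5, 14, 9, 19, 4]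
  | 1, 2 => [14, 9, 13, 10, 16, 7]
  | 2, 1 => [14, 9, 13, 10, 16, 7]
  | 1, 3 => [14, 9, 12, 11, 15, 8]
  | 3, 1 => [14, 9, 12, 11, 15, 8]
  | 0, 2 => [18, 5, 13, 10]
  | 2, 0 => [18, 5, 13, 10]
  | 0, 3 => [18, 5, 12, 11]
  | 3, 0 => [18, 5, 12, 11]
  | 2, 3 => [13, 10, 12, 11]
  | 3, 2 => [13, 10, 12, 11]
  | 0, 0 => [18, 5]
  | 1, 1 => [14, 9]
  | 2, 2 => [13, 10]
  | 3, 3 => [12, 11]
  | _, _ => []

instance (i j r : ℕ) : Decidable (chevD4.InRankTwoSub i j r) :=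
  inferInstanceAs (Decidable (_ ∧ _ ∧ _ ∧ ∀ k < _, _ → _ → _ = _))

set_option synthInstance.maxHeartbeats 400000 in
set_option synthInstance.maxSize 100000 in
theorem mem_subL : ∀ i < 4, ∀ j < 4, ∀ r < 24, chevD4.InRankTwoSub i j r → r ∈ subL i j := by
  decide +kernel

theorem mem_subL' {i j r : ℕ} (h : chevD4.InRankTwoSub i j r) : r ∈ subL i j :=
  mem_subL i h.2.1 j h.2.2.1 r h.1 h

variable {a a' c c' : Fin 3 → G} {b b' : G}

theorem XX_cube (S : Sys a a' c c' b b') (r : ℕ) : XX a a' c c' b b' r ^ 3 = 1 := by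
  unfold XX
  split
  · exact S.ha 0
  · exact S.ha' 0
  · exact S.hb
  · exact S.hb'
  · exact S.ha 1
  · exact S.ha' 1
  · exact S.ha 2
  · exact S.ha' 2
  · exact S.hc 0
  · exact S.hc' 0
  · exact S.hc 1
  · exact S.hc' 1
  · exact S.hc 2
  · exact S.hc' 2
  · exact one_pow 3

theorem comm0 (S : Sys a a' c c' b b') : ∀ r ∈ [18, 5, 14, 9, 19, 4], ∀ s ∈ [18, 5, 14, 9, 19, 4],
    s ≠ r → s ≠ chevD4.neg r → Rl (XX a a' c c' b b') r s :=
  tab0.comm (XX_cube S) S.s0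

theorem comm1 (S : Sys a a' c c' b b') : ∀ r ∈ [14, 9, 13, 10, 16, 7],
    ∀ s ∈ [14, 9, 13, 10, 16, 7], s ≠ r → s ≠ chevD4.neg r → Rl (XX a a' c c' b b') r s :=
  tab1.comm (XX_cube S) S.s1

theorem comm2 (S : Sys a a' c c' b b') : ∀ r ∈ [14, 9, 12, 11, 15, 8],
    ∀ s ∈ [14, 9, 12, 11, 15, 8], s ≠ r → s ≠ chevD4.neg r → Rl (XX a a' c c' b b') r s :=
  tab2.comm (XX_cube S) S.s2

theorem orth_comm (S : Sys a a' c c' b b') {i j : Fin 3} (hij : i ≠ j) {X : ℕ → G} {p p' q q' : ℕ}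
    (h1 : X p = a i) (h2 : X p' = a' i) (h3 : X q = a j) (h4 : X q' = a' j) :
    ∀ r ∈ [p, p'], ∀ s ∈ [q, q'], Commute (X r) (X s) := by
  intro r hr s hs
  simp only [List.mem_cons, List.not_mem_nil, or_false] at hr hs
  rcases hr with rfl | rfl <;> rcases hs with rfl | rfl
  · rw [h1, h3]; exact S.aa i j hij
  · rw [h1, h4]; exact S.aa' i j hij
  · rw [h2, h3]; exact (S.aa' j i hij.symm).symm
  · rw [h2, h4]; exact S.a'a' i j hij

theorem comm02 (S : Sys a a' c c' b b') : ∀ r ∈ [18, 5, 13, 10], ∀ s ∈ [18, 5, 13, 10],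
    s ≠ r → s ≠ chevD4.neg r → Rl (XX a a' c c' b b') r s :=
  comm_orth (by decide +kernel) (by decide +kernel) (by decide +kernel) (by decide +kernel)
    (by decide +kernel) (orth_comm S (i := 0) (j := 1) (by decide) rfl rfl rfl rfl)

theorem comm03 (S : Sys a a' c c' b b') : ∀ r ∈ [18, 5, 12, 11], ∀ s ∈ [18, 5, 12, 11],
    s ≠ r → s ≠ chevD4.neg r → Rl (XX a a' c c' b b') r s :=
  comm_orth (by decide +kernel) (by decide +kernel) (by decide +kernel) (by decide +kernel)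
    (by decide +kernel) (orth_comm S (i := 0) (j := 2) (by decide) rfl rfl rfl rfl)

theorem comm23 (S : Sys a a' c c' b b') : ∀ r ∈ [13, 10, 12, 11], ∀ s ∈ [13, 10, 12, 11],
    s ≠ r → s ≠ chevD4.neg r → Rl (XX a a' c c' b b') r s :=
  comm_orth (by decide +kernel) (by decide +kernel) (by decide +kernel) (by decide +kernel)
    (by decide +kernel) (orth_comm S (i := 1) (j := 2) (by decide) rfl rfl rfl rfl)

theorem comm_diag {X : ℕ → G} {p p' : ℕ} (h1 : chevD4.neg p = p') (h2 : chevD4.neg p' = p) :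
    ∀ r ∈ [p, p'], ∀ s ∈ [p, p'], s ≠ r → s ≠ chevD4.neg r → Rl X r s := by
  intro r hr s hs h3 h4
  simp only [List.mem_cons, List.not_mem_nil, or_false] at hr hs
  rcases hr with rfl | rfl <;> rcases hs with rfl | rfl
  · exact absurd rfl h3
  · exact absurd h1.symm h4
  · exact absurd h2.symm h4
  · exact absurd rfl h3

theorem comm_all (S : Sys a a' c c' b b') {i j : ℕ} (hi : i < 4) (hj : j < 4) :
    ∀ r ∈ subL i j, ∀ s ∈ subL i j, s ≠ r → s ≠ chevD4.neg r → Rl (XX a a' c c' b b') r s := by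
  have hi' : i = 0 ∨ i = 1 ∨ i = 2 ∨ i = 3 := by omega
  have hj' : j = 0 ∨ j = 1 ∨ j = 2 ∨ j = 3 := by omega
  rcases hi' with rfl | rfl | rfl | rfl <;> rcases hj' with rfl | rfl | rfl | rfl
  · exact comm_diag (by decide +kernel) (by decide +kernel)
  · exact comm0 S
  · exact comm02 S
  · exact comm03 S
  · exact comm0 S
  · exact comm_diag (by decide +kernel) (by decide +kernel)
  · exact comm1 S
  · exact comm2 S
  · exact comm02 S
  · exact comm1 S
  · exact comm_diag (by decide +kernel) (by decide +kernel)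
  · exact comm23 S
  · exact comm03 S
  · exact comm2 S
  · exact comm23 S
  · exact comm_diag (by decide +kernel) (by decide +kernel)

/-- `n_r ^ 4 = 1` for the roots of the rank two subsystems. -/
theorem four_all (S : Sys a a' c c' b b') : ∀ r < 24,
    (XX a a' c c' b b' r * (XX a a' c c' b b' (chevD4.neg r))⁻¹ * XX a a' c c' b b' r) ^ 4 = 1 := by
  have k18 := S.fa 0
  have k13 := S.fa 1
  have k12 := S.fa 2
  have k14 := S.fb
  have k5 := S.s0.four_neg k18
  have k9 := S.s0.swap.four_neg k14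
  have k10 := S.s1.swap.four_neg k13
  have k11 := S.s2.swap.four_neg k12
  have k19 := S.s0.four_sum k14
  have k4 := S.s0.four_neg_sum k14
  have k16 := S.s1.four_sum k13
  have k7 := S.s1.four_neg_sum k13
  have k15 := S.s2.four_sum k12
  have k8 := S.s2.four_neg_sum k12
  have k1 : ((1 : G) * (1 : G)⁻¹ * 1) ^ 4 = 1 := by simp
  intro r hr
  interval_cases r
  · exact k1
  · exact k1
  · exact k1
  · exact k1
  · exact k4
  · exact k5
  · exact k1
  · exact k7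
  · exact k8
  · exact k9
  · exact k10
  · exact k11
  · exact k12
  · exact k13
  · exact k14
  · exact k15
  · exact k16
  · exact k1
  · exact k18
  · exact k19
  · exact k1
  · exact k1
  · exact k1
  · exact k1

theorem nt_one {X : ℕ → G} (h3 : ∀ r, X r ^ 3 = 1) (r : ℕ) :
    nt chevD4 (y X) r 1 = X r * (X (chevD4.neg r))⁻¹ * X r := by
  show pw (X r) 1 * pw (X (chevD4.neg r)) (-1⁻¹) * pw (X r) 1 = _
  rw [inv_one, pw_neg (h3 _), pw_one', pw_one']

theorem nt_neg_one {X : ℕ → G} (h3 : ∀ r, X r ^ 3 = 1) (r : ℕ) :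
    nt chevD4 (y X) r (-1) = (X r * (X (chevD4.neg r))⁻¹ * X r)⁻¹ := by
  show pw (X r) (-1) * pw (X (chevD4.neg r)) (-(-1)⁻¹) * pw (X r) (-1) = _
  rw [inv_neg, inv_one, neg_neg, pw_neg (h3 _), pw_one', pw_one']
  group

theorem hh_all {X : ℕ → G} (h3 : ∀ r, X r ^ 3 = 1) {r : ℕ}
    (h4 : (X r * (X (chevD4.neg r))⁻¹ * X r) ^ 4 = 1) {t u : ZMod 3} (ht : t ≠ 0) (hu : u ≠ 0) :
    hh chevD4 (y X) r t * hh chevD4 (y X) r u = hh chevD4 (y X) r (t * u) := by
  have key : ∀ t : ZMod 3, t ≠ 0 → t = 1 ∨ t = -1 := by decide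
  have e1 : hh chevD4 (y X) r 1 = 1 := by
    rw [hh_eq, nt_one h3, nt_neg_one h3, mul_inv_cancel]
  have e2 : hh chevD4 (y X) r (-1) * hh chevD4 (y X) r (-1) = 1 := by
    rw [hh_eq, nt_neg_one h3]
    set N := X r * (X (chevD4.neg r))⁻¹ * X r
    have : N⁻¹ * N⁻¹ * (N⁻¹ * N⁻¹) = (N ^ 4)⁻¹ := by group
    rw [this, h4, inv_one]
  rcases key t ht with rfl | rfl <;> rcases key u hu with rfl | rfl
  · rw [e1, one_mul, one_mul, e1]
  · rw [e1, one_mul, one_mul]
  · rw [e1, mul_one, mul_one]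
  · rw [e2, neg_mul_neg, one_mul, e1]

theorem XX_one {r : ℕ} (hr : r < 24) (h : ∀ i j, ¬ chevD4.InRankTwoSub i j r) :
    XX a a' c c' b b' r = 1 := by
  interval_cases r
  · rfl
  · rfl
  · rfl
  · rfl
  · exact absurd (by decide +kernel) (h 0 1)
  · exact absurd (by decide +kernel) (h 0 1)
  · rfl
  · exact absurd (by decide +kernel) (h 1 2)
  · exact absurd (by decide +kernel) (h 1 3)
  · exact absurd (by decide +kernel) (h 0 1)
  · exact absurd (by decide +kernel) (h 1 2)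
  · exact absurd (by decide +kernel) (h 1 3)
  · exact absurd (by decide +kernel) (h 1 3)
  · exact absurd (by decide +kernel) (h 1 2)
  · exact absurd (by decide +kernel) (h 0 1)
  · exact absurd (by decide +kernel) (h 1 3)
  · exact absurd (by decide +kernel) (h 1 2)
  · rfl
  · exact absurd (by decide +kernel) (h 0 1)
  · exact absurd (by decide +kernel) (h 0 1)
  · rfl
  · rfl
  · rfl
  · rfl

theorem y_ge (r : ℕ) (t : ZMod 3) (h : ¬ r < chevD4.nroots) : y (XX a a' c c' b b') r t = 1 := by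
  have h' : ¬ r < 24 := h
  have : XX a a' c c' b b' r = 1 := by
    unfold XX
    split <;> first | (exfalso; omega) | rfl
  show pw _ t = 1
  rw [this, pw_one_left]

/-- The homomorphism from the Curtis-Tits group. -/
theorem exists_hom (S : Sys a a' c c' b b') :
    ∃ f : chevD4.CurtisTitsGroup (ZMod 3) →* G, ∀ r < 24,
      f (PresentedGroup.mk (chevD4.curtisTitsRels (ZMod 3)) (chevD4.stX r 1)) =
        XX a a' c c' b b' r := by
  set X := XX a a' c c' b b' with hX'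
  have h3 := XX_cube S
  have hX : ∀ (r : ℕ) (t : ZMod 3), FreeGroup.lift (fun p : Fin chevD4.nroots × ZMod 3 => y X p.1 p.2)
      (chevD4.stX r t) = y X r t := fl_stX (y X) y_ge
  have hW : ∀ (w : List (ℕ × ZMod 3)),
      FreeGroup.lift (fun p : Fin chevD4.nroots × ZMod 3 => y X p.1 p.2) (chevD4.stWord w) =
      wprod (y X) w := fl_stWord (y X) y_ge
  have hrel : ∀ g ∈ chevD4.curtisTitsRels (ZMod 3),
      FreeGroup.lift (fun p : Fin chevD4.nroots × ZMod 3 => y X p.1 p.2) g = 1 := by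
    rintro g (((⟨r, t, hr, h, rfl⟩ | ⟨i, j, r, t, u, h, rfl⟩) |
      ⟨i, j, r, s, t, u, hr, hs, h1, h2, rfl⟩) | ⟨i, j, r, t, u, h, ht, hu, rfl⟩)
    · rw [hX]
      show pw (X r) t = 1
      rw [hX', XX_one hr h, pw_one_left]
    · rw [map_mul, map_mul, map_inv, hX, hX, hX, mul_inv_eq_one]
      exact pw_add (h3 r) t u
    · rw [map_mul, map_mul, map_mul, map_mul, map_inv, map_inv, map_inv, hX, hX, hW, wprod_commWord,
        mul_inv_eq_one]
      exact comm_all S hr.2.1 hr.2.2.1 r (mem_subL' hr) s (mem_subL' hs) h1 h2 t u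
    · have e : ∀ t, FreeGroup.lift (fun p : Fin chevD4.nroots × ZMod 3 => y X p.1 p.2)
          (chevD4.stH r t) = hh chevD4 (y X) r t := fun t => hW _
      rw [map_mul, map_mul, map_inv, e, e, e, hh_all h3 (four_all S r h.1) ht hu, mul_inv_cancel]
  refine ⟨PresentedGroup.toGroup (f := fun p : Fin chevD4.nroots × ZMod 3 => y X p.1 p.2) hrel, ?_⟩
  intro r _
  have e1 : PresentedGroup.toGroup (f := fun p : Fin chevD4.nroots × ZMod 3 => y X p.1 p.2) hrel
      (PresentedGroup.mk (chevD4.curtisTitsRels (ZMod 3)) (chevD4.stX r 1)) =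
      FreeGroup.lift (fun p : Fin chevD4.nroots × ZMod 3 => y X p.1 p.2) (chevD4.stX r 1) := rfl
  rw [e1, hX]
  exact pw_one' _

end Cfsg.Agent.TypeD4Three.ChevHom
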