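import Cfsg.Agent.S1077
import Cfsg.Agent.S1054
import Cfsg.Agent.S1082
import Cfsg.Agent.TypeD4Three.ChevHom

/-!
Recognition of `PΩ₈⁺(3)` from elements of order three satisfying the relations of the fundamental
root elements (up to unspecified signs).
-/

set_option autoImplicit false

open scoped commutatorElement

namespace Cfsg.Agent.TypeD4Three.Chev

open Cfsg Cfsg.Lie Cfsg.Agent.TypeD4Three.ChevA2 Cfsg.Agent.TypeD4Three.ChevHom

variable {G : Type*} [Group G]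

/-- A simple nonabelian quotient of the Steinberg group of type `D₄` is the Chevalley group. -/
theorem equiv_of_steinberg [IsSimpleGroup G] (hG : ¬ IsMulCommutative G) {F : Type*} [Field F]
    (f : chevD4.SteinbergGroup F →* G) (hf : Function.Surjective f) :
    Nonempty (G ≃* ↥(chevD4.group F)) := by
  obtain ⟨θ, hθ, hker, -⟩ := Cfsg.Agent.S1077.result (K := F) chevD4 (by simp)
  have hsimple := (Cfsg.Agent.S1054.result (F := F) chevD4 (by simp)).1
  -- the centre of `G` is trivial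
  have hcen : Subgroup.center G = ⊥ := by
    rcases (inferInstance : (Subgroup.center G).Normal).eq_bot_or_eq_top with h | h
    · exact h
    · exfalso
      apply hG
      refine ⟨⟨fun x y => ?_⟩⟩
      have hx : x ∈ Subgroup.center G := by rw [h]; exact Subgroup.mem_top x
      exact ((Subgroup.mem_center_iff.1 hx) y).symm
  have hle : θ.ker ≤ f.ker := by
    rw [hker]
    intro z hz
    rw [MonoidHom.mem_ker]
    have h1 : f z ∈ Subgroup.center G := by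
      rw [Subgroup.mem_center_iff]
      intro g
      obtain ⟨x, rfl⟩ := hf g
      rw [← map_mul, ← map_mul, (Subgroup.mem_center_iff.1 hz) x]
    rw [hcen] at h1
    exact Subgroup.mem_bot.1 h1
  -- the induced map
  let e : chevD4.SteinbergGroup F ⧸ θ.ker ≃* ↥(chevD4.group F) :=
    QuotientGroup.quotientKerEquivOfSurjective θ hθ
  let ψ₀ : chevD4.SteinbergGroup F ⧸ θ.ker →* G :=
    QuotientGroup.lift θ.ker f (fun x hx => MonoidHom.mem_ker.1 (hle hx))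
  let ψ : ↥(chevD4.group F) →* G := ψ₀.comp e.symm.toMonoidHom
  have hψ : Function.Surjective ψ := by
    intro g
    obtain ⟨x, rfl⟩ := hf g
    refine ⟨e (QuotientGroup.mk x), ?_⟩
    show ψ₀ (e.symm (e (QuotientGroup.mk x))) = f x
    rw [MulEquiv.symm_apply_apply]
    rfl
  have hinj : Function.Injective ψ := by
    rw [← MonoidHom.ker_eq_bot_iff]
    rcases (inferInstance : ψ.ker.Normal).eq_bot_or_eq_top with h | h
    · exact h
    · exfalso
      apply hG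
      refine ⟨⟨fun x y => ?_⟩⟩
      have h1 : ∀ g : G, g = 1 := by
        intro g
        obtain ⟨x, rfl⟩ := hψ g
        have : x ∈ ψ.ker := by rw [h]; exact Subgroup.mem_top x
        exact MonoidHom.mem_ker.1 this
      rw [h1 x, h1 y]
  exact ⟨(MulEquiv.ofBijective ψ ⟨hinj, hψ⟩).symm⟩

/-- Recognition of `PΩ₈⁺(3)`. -/
theorem recognize [Finite G] [IsSimpleGroup G] (hG : ¬ IsMulCommutative G)
    (a a' : Fin 3 → G) (b b' : G)
    (ha : ∀ i, a i ^ 3 = 1) (ha' : ∀ i, a' i ^ 3 = 1) (hb : b ^ 3 = 1) (hb' : b' ^ 3 = 1)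
    (fa : ∀ i, (a i * (a' i)⁻¹ * a i) ^ 4 = 1) (fb : (b * b'⁻¹ * b) ^ 4 = 1)
    (nb : ∀ i, (a i * (a' i)⁻¹ * a i) ^ 2 * b * ((a i * (a' i)⁻¹ * a i) ^ 2)⁻¹ = b⁻¹)
    (nb' : ∀ i, (a i * (a' i)⁻¹ * a i) ^ 2 * b' * ((a i * (a' i)⁻¹ * a i) ^ 2)⁻¹ = b'⁻¹)
    (ma : ∀ i, (b * b'⁻¹ * b) ^ 2 * a i * ((b * b'⁻¹ * b) ^ 2)⁻¹ = (a i)⁻¹)
    (ma' : ∀ i, (b * b'⁻¹ * b) ^ 2 * a' i * ((b * b'⁻¹ * b) ^ 2)⁻¹ = (a' i)⁻¹)
    (aa : ∀ i j, i ≠ j → Commute (a i) (a j)) (aa' : ∀ i j, i ≠ j → Commute (a i) (a' j))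
    (a'a' : ∀ i j, i ≠ j → Commute (a' i) (a' j))
    (rel : ∀ i, A2Rel (a i) (a' i) b b')
    (gen : Subgroup.closure (Set.range a ∪ Set.range a' ∪ {b, b'}) = ⊤) :
    Nonempty (G ≃* Cfsg.POmega (ZMod 3) (Cfsg.quadFormPlus 4 (ZMod 3))) := by
  have hs : ∀ i, A2Sys (a i) (a' i) b b' (⁅a i, b⁆⁻¹) ⁅a' i, b'⁆ := fun i =>
    (rel i).sys (ha i) (ha' i) hb hb' (nb i) (nb' i) (ma i) (ma' i)
  let c : Fin 3 → G := ![⁅a 0, b⁆⁻¹, (⁅a 1, b⁆⁻¹)⁻¹, (⁅a 2, b⁆⁻¹)⁻¹]
  let c' : Fin 3 → G := ![⁅a' 0, b'⁆, ⁅a' 1, b'⁆⁻¹, ⁅a' 2, b'⁆⁻¹]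
  have S : Sys a a' c c' b b' :=
    { ha := ha
      ha' := ha'
      hc := by
        intro i
        fin_cases i
        · show (⁅a 0, b⁆⁻¹) ^ 3 = 1
          rw [inv_pow, (rel 0).k3, inv_one]
        · show ((⁅a 1, b⁆⁻¹)⁻¹) ^ 3 = 1
          rw [inv_inv, (rel 1).k3]
        · show ((⁅a 2, b⁆⁻¹)⁻¹) ^ 3 = 1
          rw [inv_inv, (rel 2).k3]
      hc' := by
        intro i
        fin_cases i
        · exact (rel 0).k'3
        · show (⁅a' 1, b'⁆⁻¹) ^ 3 = 1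
          rw [inv_pow, (rel 1).k'3, inv_one]
        · show (⁅a' 2, b'⁆⁻¹) ^ 3 = 1
          rw [inv_pow, (rel 2).k'3, inv_one]
      hb := hb
      hb' := hb'
      s0 := hs 0
      s1 := (hs 1).swap
      s2 := (hs 2).swap
      fa := fa
      fb := fb
      aa := aa
      aa' := aa'
      a'a' := a'a' }
  obtain ⟨f, hf⟩ := exists_hom S
  obtain ⟨e, -⟩ := Cfsg.Agent.LieRecognition.CTMain.exists_iso
    Cfsg.Agent.LieRecognition.CTRawD4.good (ZMod 3)
  have hsurj : Function.Surjective f := by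
    rw [← MonoidHom.range_eq_top, eq_top_iff, ← gen, Subgroup.closure_le]
    rintro x ((⟨i, rfl⟩ | ⟨i, rfl⟩) | hx)
    · fin_cases i
      · exact ⟨_, hf 18 (by norm_num)⟩
      · exact ⟨_, hf 13 (by norm_num)⟩
      · exact ⟨_, hf 12 (by norm_num)⟩
    · fin_cases i
      · exact ⟨_, hf 5 (by norm_num)⟩
      · exact ⟨_, hf 10 (by norm_num)⟩
      · exact ⟨_, hf 11 (by norm_num)⟩
    · rcases hx with rfl | hx
      · exact ⟨_, hf 14 (by norm_num)⟩
      · rw [Set.mem_singleton_iff] at hx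
        subst hx
        exact ⟨_, hf 9 (by norm_num)⟩
  obtain ⟨e1⟩ := equiv_of_steinberg hG (f.comp e.symm.toMonoidHom)
    (hsurj.comp e.symm.surjective)
  obtain ⟨e2⟩ := Cfsg.Agent.S1082.result (F := ZMod 3)
  exact ⟨e1.trans e2⟩

end Cfsg.Agent.TypeD4Three.Chev
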