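import Cfsg.Agent.TypeD4Three.Assembly
import Cfsg.Agent.TypeD4Three.Chev

/-!
# S1763, case [P] : recognition of `PΩ₈⁺(3)` (helper754, helper948, helper951, helper134)
-/

set_option autoImplicit false

namespace Cfsg.Agent.TypeD4Three.Main

open Cfsg.Agent.Co2Type.Quad Cfsg.Agent.LargeExtra.Base Cfsg.Agent.TypeD4Three

variable {G : Type*} [Group G] {Q A : Subgroup G} {z a : G}

/-- **Recognition of `PΩ₈⁺(3)`.** -/
theorem iso [Finite G] [IsSimpleGroup G] (hG : ¬ IsMulCommutative G) {h : Large Q z} (inp : Input h)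
    (p : Pair Q z A a) : Nonempty (G ≃* Cfsg.POmega (ZMod 3) (Cfsg.quadFormPlus 4 (ZMod 3))) := by
  obtain ⟨D⟩ := Assembly.exists_chevData inp p
  exact Chev.recognize hG D.a D.a' D.b D.b' D.ha D.ha' D.hb D.hb' D.fa D.fb D.nb D.nb' D.ma D.ma' D.aa D.aa' D.a'a'
    D.rel D.gen

theorem recognize [Finite G] [IsSimpleGroup G] (hG : ¬ IsMulCommutative G) (h : Large Q z) (inp : Input h)
    (p : Pair Q z A a) : ∃ (F : Type) (_ : Field F) (_ : Fintype F), Fintype.card F = 3 ∧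
      Nonempty (G ≃* Cfsg.POmega F (Cfsg.quadFormPlus 4 F)) := by
  have h3 : Fact (Nat.Prime 3) := ⟨Nat.prime_three⟩
  exact ⟨ZMod 3, inferInstance, inferInstance, ZMod.card 3, iso hG inp p⟩

end Cfsg.Agent.TypeD4Three.Main
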