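import Cfsg.Agent.TypeD4Three.BadMax

/-!
# S1763, case [P] : exclusion of the case `C(x k) ≤ C(z)` (helper948)

`PreSetup.setup : PreSetup Q z x I J y ρ → Setup Q z x I J y ρ`.
-/

set_option autoImplicit false

namespace Cfsg.Agent.TypeD4Three

open Cfsg.Agent.Co2Type.Quad

variable {G : Type*} [Group G]

theorem fin4_d : ∀ a b : Fin 4, ∃ j, j ≠ a ∧ j ≠ b := by decide

/-- Sylow's theorem in a subgroup `D` : if `P1` is a maximal `p`-subgroup of `D`, every `p`-subgroup of `D` is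
conjugate in `D` to a subgroup of `P1`. -/
theorem sylow_conj [Finite G] {p : ℕ} [Fact p.Prime] (D P1 P2 : Subgroup G) (h1 : P1 ≤ D) (h2 : P2 ≤ D)
    (hp1 : IsPGroup p P1) (hp2 : IsPGroup p P2)
    (hmax : ∀ S : Subgroup G, IsPGroup p S → S ≤ D → P1 ≤ S → S ≤ P1) : ∃ g ∈ D, ∀ a ∈ P2, g * a * g⁻¹ ∈ P1 := by
  obtain ⟨T1, hT1⟩ := (hp1.comap_subtype (K := D)).exists_le_sylow
  obtain ⟨T2, hT2⟩ := (hp2.comap_subtype (K := D)).exists_le_sylow
  obtain ⟨g, hg⟩ := MulAction.exists_smul_eq D T2 T1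
  have hS : ((T1 : Subgroup D).map D.subtype) ≤ P1 := by
    apply hmax
    · exact T1.isPGroup'.map _
    · exact Subgroup.map_subtype_le _
    · intro a ha
      exact ⟨⟨a, h1 ha⟩, hT1 ha, rfl⟩
  refine ⟨g, g.2, fun a ha => hS ?_⟩
  refine ⟨g * ⟨a, h2 ha⟩ * g⁻¹, ?_, rfl⟩
  have h3 : (⟨a, h2 ha⟩ : D) ∈ (T2 : Subgroup D) := hT2 ha
  rw [← hg]
  exact Subgroup.smul_mem_pointwise_smul _ (MulAut.conj g) _ h3

namespace Input

variable {Q : Subgroup G} {z : G} {h : Large Q z} {inp : Input h}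

theorem Pm.conj {f g : h.V ≃ₗ[ZMod 2] h.V} {c d : Fin 4} (hg : inp.Pm g c) (hd : inp.Pm (f * inp.ξ c * f⁻¹) d) :
    inp.Pm (f * g * f⁻¹) d := by
  rcases hg with rfl | rfl
  · exact hd
  · have := hd.inv
    have e : f * (inp.ξ c)⁻¹ * f⁻¹ = (f * inp.ξ c * f⁻¹)⁻¹ := by group
    rwa [e]

end Input

namespace PreSetup

variable {Q : Subgroup G} {z : G} {x I J : Fin 4 → G} {y ρ : G} (P : PreSetup Q z x I J y ρ)

include P

/-- The main contradiction. -/
theorem bad_false [Finite G] {k : Fin 4} (hbad : ∀ g, g * x k = x k * g → g * z = z * g) : False := by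
  have hfact : Fact (Nat.Prime 3) := ⟨Nat.prime_three⟩
  set s := I 2 * I 3 with hs
  have hss : s * s = 1 := by
    calc s * s = I 2 * (I 3 * I 2) * I 3 := by rw [hs]; group
      _ = I 2 * (I 2 * I 3) * I 3 := by rw [P.fr.I_I 3 2 (by decide)]
      _ = (I 2 * I 2) * (I 3 * I 3) := by group
      _ = 1 := by rw [P.fr.I_sq, P.fr.I_sq, P.fr.z_sq]
  have hIz : ∀ k, Commute (I k) z := fun k => P.fr.I_z k
  have hsy : y * s = s * y := by
    have h1 : y * s * y⁻¹ = s := by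
      calc y * s * y⁻¹ = (y * I 2 * y⁻¹) * (y * I 3 * y⁻¹) := by rw [hs]; group
        _ = (I 2 * z) * (I 3 * z) := by rw [P.inv.yI, P.inv.yI]
        _ = I 2 * (z * I 3) * z := by group
        _ = I 2 * (I 3 * z) * z := by rw [(hIz 3).eq]
        _ = I 2 * I 3 * (z * z) := by group
        _ = s := by rw [P.fr.z_sq, mul_one]
    rwa [mul_inv_eq_iff_eq_mul] at h1
  have hxs : ∀ k, k = 0 ∨ k = 1 → Commute (x k) s := by
    rintro k (rfl | rfl)
    · exact (show Commute (x 0) (I 2) from P.fr.x_I' 0 2 (by decide)).mul_right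
        (show Commute (x 0) (I 3) from P.fr.x_I' 0 3 (by decide))
    · exact (show Commute (x 1) (I 2) from P.fr.x_I' 1 2 (by decide)).mul_right
        (show Commute (x 1) (I 3) from P.fr.x_I' 1 3 (by decide))
  have hrz : ρ * z = y * ρ := by
    have := P.rz
    rwa [mul_inv_eq_iff_eq_mul] at this
  set s' := ρ⁻¹ * s * ρ with hs'
  have hs'z : s' * z = z * s' := by
    calc s' * z = ρ⁻¹ * s * (ρ * z) := by rw [hs']; group
      _ = ρ⁻¹ * (s * y) * ρ := by rw [hrz]; group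
      _ = ρ⁻¹ * (y * s) * ρ := by rw [hsy]
      _ = ρ⁻¹ * (y * ρ) * ρ⁻¹ * s * ρ := by group
      _ = z * s' := by rw [← hrz, hs']; group
  have hs's' : s' * s' = 1 := by
    calc s' * s' = ρ⁻¹ * (s * s) * ρ := by rw [hs']; group
      _ = 1 := by rw [hss]; group
  -- elements of the centraliser of `z`
  let C := Subgroup.centralizer ({z} : Set G)
  let X : Fin 4 → C := fun m => ⟨x m, P.fr.x_mem m⟩
  let S : C := ⟨s', Subgroup.mem_centralizer_singleton_iff.2 hs'z⟩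
  have hSS : S * S = 1 := Subtype.ext hs's'
  have hSinv : S⁻¹ = S := inv_eq_of_mul_eq_one_left hSS
  let A : C →* (P.fr.large.V ≃ₗ[ZMod 2] P.fr.large.V) := P.fr.large.act
  have hAX : ∀ m, A (X m) = P.fr.input.ξ m := fun m => rfl
  let V : Fin 4 → C := fun m => S * X m * S⁻¹
  have hAV : ∀ m, A (V m) = A S * P.fr.input.ξ m * (A S)⁻¹ := by
    intro m
    show A (S * X m * S⁻¹) = _
    rw [map_mul, map_mul, map_inv, hAX]
  have hPm : ∀ m, ∃ n, n ≠ m ∧ P.fr.input.Pm (A (V m)) n := by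
    intro m
    obtain ⟨n, hn, q, hq, h⟩ := P.swap 2 3 (by decide) m
    refine ⟨n, hn, ?_⟩
    have hqC : q ∈ Subgroup.centralizer ({z} : Set G) :=
      Subgroup.mem_centralizer_singleton_iff.2 (P.fr.large.comm_z q hq)
    have hAq : A ⟨q, hqC⟩ = 1 := P.fr.large.act_mem ⟨q, hqC⟩ hq
    rcases h with h | h
    · left
      have h1 : V m = X n * ⟨q, hqC⟩ := Subtype.ext h
      rw [h1, map_mul, hAq, mul_one, hAX]
    · right
      have h1 : V m = (X n)⁻¹ * ⟨q, hqC⟩ := Subtype.ext h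
      rw [h1, map_mul, hAq, mul_one, map_inv, hAX]
  have hASS : A S * A S = 1 := by rw [← map_mul, hSS, map_one]
  have hASinv : (A S)⁻¹ = A S := inv_eq_of_mul_eq_one_left hASS
  obtain ⟨n0, hn0, h0⟩ := hPm 0
  obtain ⟨j, hj0, hjn⟩ := fin4_d 0 n0
  obtain ⟨nj, hnj, hj⟩ := hPm j
  have hxj : ∀ d, P.fr.input.Pm (A S * (A (V j)) * (A S)⁻¹) d → j = d := by
    intro d hd
    have e : A S * (A (V j)) * (A S)⁻¹ = P.fr.input.ξ j := by
      rw [hAV j]
      calc A S * (A S * P.fr.input.ξ j * (A S)⁻¹) * (A S)⁻¹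
          = (A S * A S) * P.fr.input.ξ j * (A S * A S)⁻¹ := by group
        _ = P.fr.input.ξ j := by rw [hASS]; group
    rw [e] at hd
    exact (show P.fr.input.Pm (P.fr.input.ξ j) j from Or.inl rfl).unique hd
  have hx0 : ∀ d, P.fr.input.Pm (A S * (A (V 0)) * (A S)⁻¹) d → 0 = d := by
    intro d hd
    have e : A S * (A (V 0)) * (A S)⁻¹ = P.fr.input.ξ 0 := by
      rw [hAV 0]
      calc A S * (A S * P.fr.input.ξ 0 * (A S)⁻¹) * (A S)⁻¹
          = (A S * A S) * P.fr.input.ξ 0 * (A S * A S)⁻¹ := by group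
        _ = P.fr.input.ξ 0 := by rw [hASS]; group
    rw [e] at hd
    exact (show P.fr.input.Pm (P.fr.input.ξ 0) 0 from Or.inl rfl).unique hd
  have h0' : P.fr.input.Pm (A S * P.fr.input.ξ 0 * (A S)⁻¹) n0 := by rw [← hAV]; exact h0
  have hnj0 : nj ≠ 0 := by
    rintro rfl
    exact hjn (hxj n0 (Input.Pm.conj hj h0'))
  have hnjn : nj ≠ n0 := by
    rintro rfl
    obtain ⟨l, hl⟩ := P.fr.input.norm (A S) ⟨_, rfl⟩ nj
    have e1 := hxj l (Input.Pm.conj hj hl)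
    have e2 := hx0 l (Input.Pm.conj h0 hl)
    exact hj0 (e1.trans e2.symm)
  -- commutation
  have hXcube : ∀ m, X m * X m * X m = 1 := fun m => Subtype.ext (P.fr.x_cube m)
  have hVcube : ∀ m, V m * V m * V m = 1 := by
    intro m
    calc S * X m * S⁻¹ * (S * X m * S⁻¹) * (S * X m * S⁻¹) = S * (X m * X m * X m) * S⁻¹ := by group
      _ = 1 := by rw [hXcube]; group
  have hVX : ∀ m n l, P.fr.input.Pm (A (V m)) n → n ≠ l → Commute (V m) (X l) := by
    intro m n l hmn hnl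
    have hz : (V m : G) * z = z * (V m : G) := Subgroup.mem_centralizer_singleton_iff.1 (V m).2
    have h1 : (V m : G) * x l = x l * (V m : G) :=
      P.fr.comm_x hz (congrArg Subtype.val (hVcube m)) (hmn.comm l) (hmn.u hnl) (hmn.v hnl)
    exact Subtype.ext h1
  have hXX : ∀ m l, Commute (X m) (X l) := fun m l => Subtype.ext (P.fr.xx m l)
  have c1 : Commute (V 0) (X 0) := hVX 0 n0 0 h0 hn0
  have c2 : Commute (V 0) (X j) := hVX 0 n0 j h0 (Ne.symm hjn)
  have c3 : Commute (V j) (X 0) := hVX j nj 0 hj hnj0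
  have c4 : Commute (V j) (X j) := hVX j nj j hj hnj
  have c5 : Commute (V 0) (V j) := by
    have : Commute (X 0) (X j) := hXX 0 j
    show S * X 0 * S⁻¹ * (S * X j * S⁻¹) = S * X j * S⁻¹ * (S * X 0 * S⁻¹)
    calc S * X 0 * S⁻¹ * (S * X j * S⁻¹) = S * (X 0 * X j) * S⁻¹ := by group
      _ = S * (X j * X 0) * S⁻¹ := by rw [this.eq]
      _ = _ := by group
  set w := X 0 * V 0 with hw
  set w' := X j * V j with hw'
  have hww' : Commute w w' :=
    ((hXX 0 j).mul_right c3.symm).mul_left (c2.mul_right c5)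
  have hcube : ∀ a b : C, Commute a b → a * a * a = 1 → b * b * b = 1 → (a * b) * (a * b) * (a * b) = 1 := by
    intro a b hab ha hb
    have : (a * b) ^ 3 = 1 := by
      rw [hab.mul_pow, pow_three', pow_three', ha, hb, one_mul]
    rwa [pow_three'] at this
  have hw3 : w * w * w = 1 := hcube _ _ c1.symm (hXcube 0) (hVcube 0)
  have hw'3 : w' * w' * w' = 1 := hcube _ _ c4.symm (hXcube j) (hVcube j)
  have hSV : ∀ m, Commute (V m) (X m) → Commute S (X m * V m) := by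
    intro m hm
    have h1 : S * (X m * V m) * S⁻¹ = X m * V m := by
      calc S * (X m * V m) * S⁻¹ = (S * X m * S⁻¹) * (S * V m * S⁻¹) := by group
        _ = V m * (S * (S * X m * S⁻¹) * S⁻¹) := rfl
        _ = V m * ((S * S) * X m * (S * S)⁻¹) := by group
        _ = V m * X m := by rw [hSS]; group
        _ = X m * V m := hm.eq
    rwa [mul_inv_eq_iff_eq_mul] at h1
  have hSw : Commute S w := hSV 0 c1
  have hSw' : Commute S w' := hSV j c4
  let E : Fin 3 × Fin 3 → C := fun ab => w ^ (ab.1 : ℕ) * w' ^ (ab.2 : ℕ)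
  -- action on the vectors
  have hAw : A w = P.fr.input.ξ 0 * A (V 0) := by rw [hw, map_mul, hAX]
  have hAw' : A w' = P.fr.input.ξ j * A (V j) := by rw [hw', map_mul, hAX]
  have hAE : ∀ ab, A (E ab) = A w ^ (ab.1 : ℕ) * A w' ^ (ab.2 : ℕ) := by
    intro ab
    show A (w ^ (ab.1 : ℕ) * w' ^ (ab.2 : ℕ)) = _
    rw [map_mul, map_pow, map_pow]
  have hAE' : ∀ ab, A (E ab) = A w' ^ (ab.2 : ℕ) * A w ^ (ab.1 : ℕ) := by
    intro ab
    rw [hAE]
    have : Commute (A w) (A w') := hww'.map A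
    exact (this.pow_pow _ _).eq
  have hself : ∀ m, P.fr.input.Pm (P.fr.input.ξ m) m := fun m => Or.inl rfl
  have hwfix : ∀ m, 0 ≠ m → n0 ≠ m → (A w) (P.fr.input.u m) = P.fr.input.u m := by
    intro m h1 h2
    rw [hAw]
    show P.fr.input.ξ 0 (A (V 0) (P.fr.input.u m)) = _
    rw [h0.u h2, (hself 0).u h1]
  have hw'fix : ∀ m, j ≠ m → nj ≠ m → (A w') (P.fr.input.u m) = P.fr.input.u m := by
    intro m h1 h2
    rw [hAw']
    show P.fr.input.ξ j (A (V j) (P.fr.input.u m)) = _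
    rw [hj.u h2, (hself j).u h1]
  have act0 : ∀ ab, A (E ab) (P.fr.input.u 0) = (P.fr.input.ξ 0 ^ (ab.1 : ℕ)) (P.fr.input.u 0) := by
    intro ab
    rw [hAE]
    show (A w ^ (ab.1 : ℕ)) ((A w' ^ (ab.2 : ℕ)) (P.fr.input.u 0)) = _
    rw [Input.pow_apply_of_fix (hw'fix 0 hj0 hnj0), hAw]
    exact Input.pow_mul_apply (h0.comm 0).symm (h0.u hn0) _
  have actn : ∀ ab, A (E ab) (P.fr.input.u n0) = (A (V 0) ^ (ab.1 : ℕ)) (P.fr.input.u n0) := by
    intro ab
    rw [hAE]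
    show (A w ^ (ab.1 : ℕ)) ((A w' ^ (ab.2 : ℕ)) (P.fr.input.u n0)) = _
    rw [Input.pow_apply_of_fix (hw'fix n0 hjn hnjn), hAw, ← h0.comm 0]
    exact Input.pow_mul_apply (h0.comm 0) ((hself 0).u (Ne.symm hn0)) _
  have actj : ∀ ab, A (E ab) (P.fr.input.u j) = (P.fr.input.ξ j ^ (ab.2 : ℕ)) (P.fr.input.u j) := by
    intro ab
    rw [hAE']
    show (A w' ^ (ab.2 : ℕ)) ((A w ^ (ab.1 : ℕ)) (P.fr.input.u j)) = _
    rw [Input.pow_apply_of_fix (hwfix j (Ne.symm hj0) (Ne.symm hjn)), hAw']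
    exact Input.pow_mul_apply (hj.comm j).symm (hj.u hnj) _
  have actnj : ∀ ab, A (E ab) (P.fr.input.u nj) = (A (V j) ^ (ab.2 : ℕ)) (P.fr.input.u nj) := by
    intro ab
    rw [hAE']
    show (A w' ^ (ab.2 : ℕ)) ((A w ^ (ab.1 : ℕ)) (P.fr.input.u nj)) = _
    rw [Input.pow_apply_of_fix (hwfix nj (Ne.symm hnj0) (Ne.symm hnjn)), hAw', ← hj.comm j]
    exact Input.pow_mul_apply (hj.comm j) ((hself j).u (Ne.symm hnj)) _
  have hEinj : Function.Injective E := by
    intro ab cd h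
    have e1 : (P.fr.input.ξ 0 ^ (ab.1 : ℕ)) (P.fr.input.u 0) = (P.fr.input.ξ 0 ^ (cd.1 : ℕ)) (P.fr.input.u 0) := by
      rw [← act0, ← act0, h]
    have e2 : (P.fr.input.ξ j ^ (ab.2 : ℕ)) (P.fr.input.u j) = (P.fr.input.ξ j ^ (cd.2 : ℕ)) (P.fr.input.u j) := by
      rw [← actj, ← actj, h]
    exact Prod.ext (Fin.ext ((hself 0).pow_inj ab.1.2 cd.1.2 e1)) (Fin.ext ((hself j).pow_inj ab.2.2 cd.2.2 e2))
  -- Sylow
  have hES : ∀ ab, Commute S (E ab) := fun ab => (hSw.pow_right _).mul_right (hSw'.pow_right _)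
  set b1 := ρ * (w : G) * ρ⁻¹ with hb1
  set b2 := ρ * (w' : G) * ρ⁻¹ with hb2
  have hsr : s = ρ * s' * ρ⁻¹ := by rw [hs']; group
  have hconjcomm : ∀ a b : G, Commute a b → Commute (ρ * a * ρ⁻¹) (ρ * b * ρ⁻¹) := by
    intro a b hab
    show ρ * a * ρ⁻¹ * (ρ * b * ρ⁻¹) = ρ * b * ρ⁻¹ * (ρ * a * ρ⁻¹)
    calc ρ * a * ρ⁻¹ * (ρ * b * ρ⁻¹) = ρ * (a * b) * ρ⁻¹ := by group
      _ = ρ * (b * a) * ρ⁻¹ := by rw [hab.eq]
      _ = _ := by group
  have hSw1 : Commute s' (w : G) := congrArg Subtype.val hSw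
  have hSw2 : Commute s' (w' : G) := congrArg Subtype.val hSw'
  have hb1s : Commute b1 s := by
    rw [hsr]; exact hconjcomm _ _ hSw1.symm
  have hb2s : Commute b2 s := by
    rw [hsr]; exact hconjcomm _ _ hSw2.symm
  have hb12 : Commute b1 b2 := hconjcomm _ _ (congrArg Subtype.val hww')
  have hb13 : b1 * b1 * b1 = 1 := by
    have h1 : (w : G) * w * w = 1 := congrArg Subtype.val hw3
    calc b1 * b1 * b1 = ρ * ((w : G) * w * w) * ρ⁻¹ := by rw [hb1]; group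
      _ = 1 := by rw [h1]; group
  have hb23 : b2 * b2 * b2 = 1 := by
    have h1 : (w' : G) * w' * w' = 1 := congrArg Subtype.val hw'3
    calc b2 * b2 * b2 = ρ * ((w' : G) * w' * w') * ρ⁻¹ := by rw [hb2]; group
      _ = 1 := by rw [h1]; group
  obtain ⟨g, hgD, hg⟩ : ∃ g ∈ Subgroup.centralizer ({s} : Set G), ∀ a ∈ Subgroup.closure ({b1, b2} : Set G),
      g * a * g⁻¹ ∈ Subgroup.closure ({x 0, x 1} : Set G) := by
    refine sylow_conj (p := 3) _ _ _ ?_ ?_ ?_ ?_ ?_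
    · rw [Subgroup.closure_le]
      rintro a (rfl | rfl)
      · exact Subgroup.mem_centralizer_singleton_iff.2 (hxs 0 (Or.inl rfl)).eq
      · exact Subgroup.mem_centralizer_singleton_iff.2 (hxs 1 (Or.inr rfl)).eq
    · rw [Subgroup.closure_le]
      rintro a (rfl | rfl)
      · exact Subgroup.mem_centralizer_singleton_iff.2 hb1s.eq
      · exact Subgroup.mem_centralizer_singleton_iff.2 hb2s.eq
    · rintro ⟨a, ha⟩
      exact ⟨1, Subtype.ext (by
        rw [pow_one]; exact closure_two_cube (P.fr.xx 0 1) (P.fr.x_cube 0) (P.fr.x_cube 1) ha)⟩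
    · rintro ⟨a, ha⟩
      exact ⟨1, Subtype.ext (by
        rw [pow_one]; exact closure_two_cube hb12.eq hb13 hb23 ha)⟩
    · intro T hT hTD hPT
      exact P.max hbad T hT (fun g hg => Subgroup.mem_centralizer_singleton_iff.1 (hTD hg)) hPT
  have hEG : ∀ ab, (E ab : G) = (w : G) ^ (ab.1 : ℕ) * (w' : G) ^ (ab.2 : ℕ) := fun ab => rfl
  have hmem : ∀ ab : Fin 3 × Fin 3, g * (ρ * (E ab : G) * ρ⁻¹) * g⁻¹ ∈ Subgroup.closure ({x 0, x 1} : Set G) := by
    intro ab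
    apply hg
    have e : ρ * (E ab : G) * ρ⁻¹ = b1 ^ (ab.1 : ℕ) * b2 ^ (ab.2 : ℕ) := by
      rw [hb1, hb2, conj_pow, conj_pow, hEG]; group
    rw [e]
    exact mul_mem (pow_mem (Subgroup.subset_closure (by simp)) _) (pow_mem (Subgroup.subset_closure (by simp)) _)
  have hex : ∀ ab : Fin 3 × Fin 3, ∃ cd : Fin 3 × Fin 3,
      g * (ρ * (E ab : G) * ρ⁻¹) * g⁻¹ = x 0 ^ (cd.1 : ℕ) * x 1 ^ (cd.2 : ℕ) := by
    intro ab
    obtain ⟨i, j, h⟩ := mem_closure_two (P.fr.xx 0 1) (P.fr.x_cube 0) (P.fr.x_cube 1) (hmem ab)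
    exact ⟨(i, j), h⟩
  choose φ hφ using hex
  have hφinj : Function.Injective φ := by
    intro ab cd h
    apply hEinj
    have h1 : g * (ρ * (E ab : G) * ρ⁻¹) * g⁻¹ = g * (ρ * (E cd : G) * ρ⁻¹) * g⁻¹ := by
      rw [hφ ab, hφ cd, h]
    have h2 := mul_left_cancel (mul_right_cancel h1)
    exact Subtype.ext (mul_left_cancel (mul_right_cancel h2))
  obtain ⟨ab, hab⟩ := (Finite.injective_iff_surjective.1 hφinj) (1, 0)
  have hx : g * (ρ * (E ab : G) * ρ⁻¹) * g⁻¹ = x 0 := by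
    rw [hφ ab, hab]
    show x 0 ^ 1 * x 1 ^ 0 = x 0
    rw [pow_one, pow_zero, mul_one]
  have hEz : (E ab : G) * z = z * (E ab : G) := Subgroup.mem_centralizer_singleton_iff.1 (E ab).2
  have hx' : x 0 = (g * ρ) * (E ab : G) * (g * ρ)⁻¹ := by rw [← hx]; group
  have hcz : (g * ρ) * z * (g * ρ)⁻¹ = z := by
    apply P.unique_z hbad 0
    rw [hx']
    calc (g * ρ) * z * (g * ρ)⁻¹ * ((g * ρ) * (E ab : G) * (g * ρ)⁻¹)
        = (g * ρ) * (z * (E ab : G)) * (g * ρ)⁻¹ := by group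
      _ = (g * ρ) * ((E ab : G) * z) * (g * ρ)⁻¹ := by rw [hEz]
      _ = _ := by group
  have hcz' : (g * ρ) * z = z * (g * ρ) := by rwa [mul_inv_eq_iff_eq_mul] at hcz
  let c : C := ⟨g * ρ, Subgroup.mem_centralizer_singleton_iff.2 hcz'⟩
  have hXE : X 0 = c * E ab * c⁻¹ := Subtype.ext hx'
  have hEX : E ab = c⁻¹ * X 0 * c⁻¹⁻¹ := by rw [hXE]; group
  obtain ⟨l, hl⟩ := P.fr.input.norm (A c⁻¹) ⟨_, rfl⟩ 0
  have hlE : P.fr.input.Pm (A (E ab)) l := by
    have e : A (E ab) = A c⁻¹ * P.fr.input.ξ 0 * (A c⁻¹)⁻¹ := by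
      conv_lhs => rw [hEX]
      rw [map_mul, map_mul, map_inv A c⁻¹, hAX]
    rw [e]; exact hl
  by_cases ha : (ab.1 : ℕ) = 0
  · by_cases hb : (ab.2 : ℕ) = 0
    · have h1 : E ab = 1 := by
        show w ^ (ab.1 : ℕ) * w' ^ (ab.2 : ℕ) = 1
        rw [ha, hb, pow_zero, pow_zero, mul_one]
      apply hlE.ne
      rw [h1, map_one]; rfl
    · have e1 : l = j := by
        by_contra hne
        apply (hself j).pow_ne ab.2.2 hb
        rw [← actj]
        exact hlE.u hne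
      have e2 : l = nj := by
        by_contra hne
        apply hj.pow_ne ab.2.2 hb
        rw [← actnj]
        exact hlE.u hne
      exact hnj (e2.symm.trans e1)
  · have e1 : l = 0 := by
      by_contra hne
      apply (hself 0).pow_ne ab.1.2 ha
      rw [← act0]
      exact hlE.u hne
    have e2 : l = n0 := by
      by_contra hne
      apply h0.pow_ne ab.1.2 ha
      rw [← actn]
      exact hlE.u hne
    exact hn0 (e2.symm.trans e1)

/-- **`PreSetup → Setup`.** -/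
theorem setup [Finite G] : Setup Q z x I J y ρ where
  fr := P.fr
  inv := P.inv
  rz := P.rz
  ry := P.ry
  r3 := P.r3
  iso := P.iso
  nb := by
    intro k
    by_contra hcon
    push Not at hcon
    exact P.bad_false hcon

end PreSetup

end Cfsg.Agent.TypeD4Three
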