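import Mathlib

/-!
# S1763, case [P]: the abstract closing argument `M = G` (helper948, after helper754's #4412)

`z` is an involution with centralizer of odd index, `C_G(z) ≤ M` and `z ^ g ∈ M` only for `g ∈ M`.
`In s w` ("`w` is inner at `s`"), `W s w` ("`w` has weight two at `s`") and `S s w v` ("`w, v, w v` have weight two
with the same support at `s`") are predicates invariant under conjugation, with the properties listed in `Data`.
-/

set_option autoImplicit false

namespace Cfsg.Agent.TypeD4Three.Closing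

variable {G : Type*} [Group G]

/-- conjugation, `cj g x = g x g⁻¹` -/
def cj (g x : G) : G := g * x * g⁻¹

theorem cj_mul (g x y : G) : cj g x * cj g y = cj g (x * y) := by
  unfold cj; group

theorem cj_one (g : G) : cj g 1 = 1 := by unfold cj; group

theorem cj_inj (g : G) {x y : G} : cj g x = cj g y ↔ x = y := by
  unfold cj
  constructor
  · intro h
    exact mul_left_cancel (mul_right_cancel h)
  · rintro rfl; rfl

theorem cj_eq_one (g : G) {x : G} : cj g x = 1 ↔ x = 1 := by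
  constructor
  · intro h
    exact (cj_inj g).1 (h.trans (cj_one g).symm)
  · rintro rfl
    exact cj_one g

theorem cj_surj (g x : G) : ∃ y, cj g y = x := ⟨g⁻¹ * x * g, by unfold cj; group⟩

theorem cj_cj (g h x : G) : cj g (cj h x) = cj (g * h) x := by unfold cj; group

theorem commute_cj (g : G) {x y : G} : Commute (cj g x) (cj g y) ↔ Commute x y := by
  unfold Commute SemiconjBy
  rw [cj_mul, cj_mul, cj_inj]

theorem isConj_cj (g : G) {z x : G} : IsConj z (cj g x) ↔ IsConj z x := by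
  constructor
  · rintro h
    exact h.trans (isConj_iff.2 ⟨g⁻¹, by unfold cj; group⟩)
  · intro h
    exact h.trans (isConj_iff.2 ⟨g, rfl⟩)

/-- the hypotheses of the closing argument -/
structure Data (z : G) (In W : G → G → Prop) (S : G → G → G → Prop) : Prop where
  z_ne : z ≠ 1
  z_sq : z * z = 1
  odd : Odd (Subgroup.centralizer ({z} : Set G)).index
  In_conj : ∀ g s w, In s w → In (g * s * g⁻¹) (g * w * g⁻¹)
  W_conj : ∀ g s w, W s w → W (g * s * g⁻¹) (g * w * g⁻¹)
  S_conj : ∀ g s w v, S s w v → S (g * s * g⁻¹) (g * w * g⁻¹) (g * v * g⁻¹)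
  In_mul : ∀ w w', In z w → In z w' → In z (w * w')
  star : ∀ t, IsConj z t → Commute z t → In z t
  con : ∀ s, IsConj z s → ∀ w, w * w = 1 → Commute z w → Commute s w → In z w → In s w
  exW : ∃ w, W z w
  W_ne : ∀ w, W z w → w ≠ 1
  W_sq : ∀ w, W z w → w * w = 1
  W_comm : ∀ w, W z w → Commute z w
  W_not : ∀ w, W z w → ¬ IsConj z w
  W_not' : ∀ w, W z w → ¬ IsConj z (z * w)
  W_in : ∀ w, W z w → In z w
  inv : ∀ w, In z w → w * w = 1 → w ≠ 1 →
    IsConj z w ∨ W z w ∨ (IsConj z (z * w) ∧ ∃ a, IsConj z a ∧ Commute a z ∧ W a w)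
  beta : ∀ w, W z w → ∃ y, IsConj z y ∧ Commute y z ∧ Commute y w ∧ IsConj z (y * w)
  c1 : ∀ w, W z w → ∀ x, IsConj z x → Commute z x → Commute w x → x ≠ z → ¬ IsConj z (x * w) →
    IsConj z (z * x) ∨ IsConj z (z * x * w)
  c2 : ∀ w, W z w → ∀ y, IsConj z y → Commute z y → Commute w y → IsConj z (y * w) →
    ¬ IsConj z (z * y) → ¬ IsConj z (z * y * w) → ∃ x, IsConj z x ∧ Commute x z ∧ S x w (z * y)
  S_comm : ∀ w v, S z w v → Commute z w ∧ Commute z v ∧ Commute w v
  S_sq : ∀ w v, S z w v → w * w = 1 ∧ v * v = 1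
  S_not : ∀ w v, S z w v → ¬ IsConj z (z * w) ∧ ¬ IsConj z (z * v) ∧ ¬ IsConj z (z * (w * v))
  S_c : ∀ w v, S z w v → ∀ x, IsConj z x → Commute z x → Commute w x → Commute v x → x ≠ z →
    IsConj z (z * x) ∨ IsConj z (z * x * w) ∨ IsConj z (z * x * v) ∨ IsConj z (z * x * (w * v))

variable {z : G} {In W : G → G → Prop} {S : G → G → G → Prop}

namespace Data

variable (D : Data z In W S)

include D

theorem In_cj (g : G) {s w : G} : In (cj g s) (cj g w) ↔ In s w := by
  constructor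
  · intro h
    have := D.In_conj g⁻¹ _ _ h
    have e : ∀ x : G, g⁻¹ * cj g x * g⁻¹⁻¹ = x := by intro x; unfold cj; group
    rwa [e, e] at this
  · exact D.In_conj g s w

theorem W_cj (g : G) {s w : G} : W (cj g s) (cj g w) ↔ W s w := by
  constructor
  · intro h
    have := D.W_conj g⁻¹ _ _ h
    have e : ∀ x : G, g⁻¹ * cj g x * g⁻¹⁻¹ = x := by intro x; unfold cj; group
    rwa [e, e] at this
  · exact D.W_conj g s w

theorem S_cj (g : G) {s w v : G} : S (cj g s) (cj g w) (cj g v) ↔ S s w v := by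
  constructor
  · intro h
    have := D.S_conj g⁻¹ _ _ _ h
    have e : ∀ x : G, g⁻¹ * cj g x * g⁻¹⁻¹ = x := by intro x; unfold cj; group
    rwa [e, e, e] at this
  · exact D.S_conj g s w v

/-! ### the hypotheses at an arbitrary conjugate of `z` -/

theorem sq {s : G} (hs : IsConj z s) : s * s = 1 := by
  obtain ⟨g, hg⟩ := isConj_iff.1 hs
  rw [← hg]
  calc g * z * g⁻¹ * (g * z * g⁻¹) = g * (z * z) * g⁻¹ := by group
    _ = 1 := by rw [D.z_sq]; group

theorem ne {s : G} (hs : IsConj z s) : s ≠ 1 := by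
  rintro rfl
  exact D.z_ne (isConj_one_left.1 hs)

theorem star' {s t : G} (hs : IsConj z s) (ht : IsConj z t) (h : Commute s t) : In s t := by
  obtain ⟨g, hg⟩ := isConj_iff.1 hs
  obtain rfl : cj g z = s := hg
  obtain ⟨t, rfl⟩ := cj_surj g t
  rw [isConj_cj] at ht
  rw [commute_cj] at h
  rw [D.In_cj]
  exact D.star t ht h

theorem In_mul' {s w w' : G} (hs : IsConj z s) (h : In s w) (h' : In s w') : In s (w * w') := by
  obtain ⟨g, hg⟩ := isConj_iff.1 hs
  obtain rfl : cj g z = s := hg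
  obtain ⟨w, rfl⟩ := cj_surj g w
  obtain ⟨w', rfl⟩ := cj_surj g w'
  rw [D.In_cj] at h h'
  rw [cj_mul, D.In_cj]
  exact D.In_mul _ _ h h'

theorem con' {s s' w : G} (hs : IsConj z s) (hs' : IsConj z s') (hw : w * w = 1) (h : Commute s w)
    (h' : Commute s' w) (hin : In s w) : In s' w := by
  obtain ⟨g, hg⟩ := isConj_iff.1 hs
  obtain rfl : cj g z = s := hg
  obtain ⟨w, rfl⟩ := cj_surj g w
  obtain ⟨s', rfl⟩ := cj_surj g s'
  rw [commute_cj] at h h'
  rw [isConj_cj] at hs'
  rw [cj_mul, cj_eq_one] at hw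
  rw [D.In_cj] at hin
  rw [D.In_cj]
  exact D.con _ hs' _ hw h h' hin

theorem W_all {s w : G} (hs : IsConj z s) (h : W s w) : w ≠ 1 ∧ w * w = 1 ∧ Commute s w ∧
    ¬ IsConj z w ∧ ¬ IsConj z (s * w) ∧ In s w := by
  obtain ⟨g, hg⟩ := isConj_iff.1 hs
  obtain rfl : cj g z = s := hg
  obtain ⟨w, rfl⟩ := cj_surj g w
  rw [D.W_cj] at h
  rw [cj_mul, cj_mul, isConj_cj, isConj_cj, commute_cj, D.In_cj, cj_eq_one, Ne, cj_eq_one]
  exact ⟨D.W_ne _ h, D.W_sq _ h, D.W_comm _ h, D.W_not _ h, D.W_not' _ h, D.W_in _ h⟩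

theorem inv' {s w : G} (hs : IsConj z s) (h : In s w) (hw : w * w = 1) (hw1 : w ≠ 1) :
    IsConj z w ∨ W s w ∨ (IsConj z (s * w) ∧ ∃ a, IsConj z a ∧ Commute a s ∧ W a w) := by
  obtain ⟨g, hg⟩ := isConj_iff.1 hs
  obtain rfl : cj g z = s := hg
  obtain ⟨w, rfl⟩ := cj_surj g w
  rw [D.In_cj] at h
  rw [cj_mul, cj_eq_one] at hw
  rw [Ne, cj_eq_one] at hw1
  rw [D.W_cj, cj_mul, isConj_cj, isConj_cj]
  rcases D.inv w h hw hw1 with h1 | h1 | ⟨h1, a, h2, h3, h4⟩
  · exact Or.inl h1
  · exact Or.inr (Or.inl h1)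
  · exact Or.inr (Or.inr ⟨h1, cj g a, (isConj_cj g).2 h2, (commute_cj g).2 h3, (D.W_cj g).2 h4⟩)

theorem beta' {s w : G} (hs : IsConj z s) (h : W s w) :
    ∃ y, IsConj z y ∧ Commute y s ∧ Commute y w ∧ IsConj z (y * w) := by
  obtain ⟨g, hg⟩ := isConj_iff.1 hs
  obtain rfl : cj g z = s := hg
  obtain ⟨w, rfl⟩ := cj_surj g w
  rw [D.W_cj] at h
  obtain ⟨y, h1, h2, h3, h4⟩ := D.beta w h
  exact ⟨cj g y, (isConj_cj g).2 h1, (commute_cj g).2 h2, (commute_cj g).2 h3,
    by rw [cj_mul, isConj_cj]; exact h4⟩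

theorem c1' {s w : G} (hs : IsConj z s) (h : W s w) {x : G} (hx : IsConj z x) (h1 : Commute s x)
    (h2 : Commute w x) (h3 : x ≠ s) (h4 : ¬ IsConj z (x * w)) :
    IsConj z (s * x) ∨ IsConj z (s * x * w) := by
  obtain ⟨g, hg⟩ := isConj_iff.1 hs
  obtain rfl : cj g z = s := hg
  obtain ⟨w, rfl⟩ := cj_surj g w
  obtain ⟨x, rfl⟩ := cj_surj g x
  rw [D.W_cj] at h
  rw [commute_cj] at h1 h2
  rw [isConj_cj] at hx
  rw [Ne, cj_inj] at h3
  rw [cj_mul, isConj_cj] at h4
  rw [cj_mul, cj_mul, isConj_cj, isConj_cj]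
  exact D.c1 w h x hx h1 h2 h3 h4

theorem c2' {s w : G} (hs : IsConj z s) (h : W s w) {y : G} (hy : IsConj z y) (h1 : Commute s y)
    (h2 : Commute w y) (h3 : IsConj z (y * w)) (h4 : ¬ IsConj z (s * y))
    (h5 : ¬ IsConj z (s * y * w)) : ∃ x, IsConj z x ∧ Commute x s ∧ S x w (s * y) := by
  obtain ⟨g, hg⟩ := isConj_iff.1 hs
  obtain rfl : cj g z = s := hg
  obtain ⟨w, rfl⟩ := cj_surj g w
  obtain ⟨y, rfl⟩ := cj_surj g y
  rw [D.W_cj] at h
  rw [commute_cj] at h1 h2
  rw [isConj_cj] at hy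
  rw [cj_mul, isConj_cj] at h3 h4
  rw [cj_mul, cj_mul, isConj_cj] at h5
  obtain ⟨x, x1, x2, x3⟩ := D.c2 w h y hy h1 h2 h3 h4 h5
  exact ⟨cj g x, (isConj_cj g).2 x1, (commute_cj g).2 x2, by rw [cj_mul, D.S_cj]; exact x3⟩

theorem S_all {s w v : G} (hs : IsConj z s) (h : S s w v) : Commute s w ∧ Commute s v ∧ Commute w v ∧
    w * w = 1 ∧ v * v = 1 ∧ ¬ IsConj z (s * w) ∧ ¬ IsConj z (s * v) ∧ ¬ IsConj z (s * (w * v)) := by
  obtain ⟨g, hg⟩ := isConj_iff.1 hs
  obtain rfl : cj g z = s := hg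
  obtain ⟨w, rfl⟩ := cj_surj g w
  obtain ⟨v, rfl⟩ := cj_surj g v
  rw [D.S_cj] at h
  obtain ⟨a1, a2, a3⟩ := D.S_comm _ _ h
  obtain ⟨b1, b2⟩ := D.S_sq _ _ h
  obtain ⟨c1, c2, c3⟩ := D.S_not _ _ h
  simp only [cj_mul, isConj_cj, commute_cj, cj_eq_one]
  exact ⟨a1, a2, a3, b1, b2, c1, c2, c3⟩

theorem S_c' {s w v : G} (hs : IsConj z s) (h : S s w v) {x : G} (hx : IsConj z x)
    (h1 : Commute s x) (h2 : Commute w x) (h3 : Commute v x) (h4 : x ≠ s) :
    IsConj z (s * x) ∨ IsConj z (s * x * w) ∨ IsConj z (s * x * v) ∨ IsConj z (s * x * (w * v)) := by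
  obtain ⟨g, hg⟩ := isConj_iff.1 hs
  obtain rfl : cj g z = s := hg
  obtain ⟨w, rfl⟩ := cj_surj g w
  obtain ⟨v, rfl⟩ := cj_surj g v
  obtain ⟨x, rfl⟩ := cj_surj g x
  rw [D.S_cj] at h
  rw [isConj_cj] at hx
  rw [commute_cj] at h1 h2 h3
  rw [Ne, cj_inj] at h4
  simp only [cj_mul, isConj_cj]
  exact D.S_c w v h x hx h1 h2 h3 h4

end Data

/-! ### dihedral groups -/

section dihedral

variable {x y : G}

theorem pow_mul_self (hx : x * x = 1) (hy : y * y = 1) (l : ℕ) :
    (x * y) ^ l * x = x * ((x * y) ^ l)⁻¹ := by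
  have hx' : x⁻¹ = x := inv_eq_of_mul_eq_one_left hx
  have hy' : y⁻¹ = y := inv_eq_of_mul_eq_one_left hy
  induction l with
  | zero => simp
  | succ l ih =>
    calc (x * y) ^ (l + 1) * x = x * y * ((x * y) ^ l * x) := by rw [pow_succ', mul_assoc]
      _ = x * y * (x * ((x * y) ^ l)⁻¹) := by rw [ih]
      _ = x * ((x * y)⁻¹ * ((x * y) ^ l)⁻¹) := by
        rw [mul_inv_rev, hx', hy']; simp only [mul_assoc]
      _ = x * ((x * y) ^ (l + 1))⁻¹ := by rw [← mul_inv_rev, ← pow_succ]

theorem conj_pow (hx : x * x = 1) (hy : y * y = 1) (l : ℕ) :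
    x * (x * y) ^ l * x = ((x * y) ^ l)⁻¹ := by
  rw [mul_assoc, pow_mul_self hx hy, ← mul_assoc, hx, one_mul]

theorem conj_pow' (hx : x * x = 1) (hy : y * y = 1) (l : ℕ) :
    y * (x * y) ^ l * y = ((x * y) ^ l)⁻¹ := by
  have h : ∀ l : ℕ, (x * y) ^ l * y = y * ((x * y) ^ l)⁻¹ := by
    have hx' : x⁻¹ = x := inv_eq_of_mul_eq_one_left hx
    have hy' : y⁻¹ = y := inv_eq_of_mul_eq_one_left hy
    intro l
    induction l with
    | zero => simp
    | succ l ih =>
      calc (x * y) ^ (l + 1) * y = x * y * ((x * y) ^ l * y) := by rw [pow_succ', mul_assoc]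
        _ = x * y * (y * ((x * y) ^ l)⁻¹) := by rw [ih]
        _ = y * (y * x * (y * y) * ((x * y) ^ l)⁻¹) := by
          rw [show x * y * (y * ((x * y) ^ l)⁻¹) = x * (y * y) * ((x * y) ^ l)⁻¹ by
            simp only [mul_assoc], hy, mul_one,
            show y * (y * x * 1 * ((x * y) ^ l)⁻¹) = y * y * (x * ((x * y) ^ l)⁻¹) by
            simp only [mul_assoc, mul_one], hy, one_mul]
        _ = y * ((x * y)⁻¹ * ((x * y) ^ l)⁻¹) := by
          rw [hy, mul_one, mul_inv_rev, hx', hy']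
        _ = y * ((x * y) ^ (l + 1))⁻¹ := by rw [← mul_inv_rev, ← pow_succ]
  rw [mul_assoc, h, ← mul_assoc, hy, one_mul]

/-- commuting with everything that commutes with `x` and `y` -/
def Bi (x y k : G) : Prop := ∀ g, Commute g x → Commute g y → Commute g k

theorem bi_pow (l : ℕ) : Bi x y ((x * y) ^ l) := fun _ h h' => (h.mul_right h').pow_right l

/-- `x r^j` is conjugate to `x` or `y`. -/
theorem mul_pow (hx : x * x = 1) (hy : y * y = 1) (j : ℕ) :
    (Even j ∧ ∃ k, Bi x y k ∧ x * (x * y) ^ j = k⁻¹ * x * k) ∨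
      (Odd j ∧ ∃ k, Bi x y k ∧ x * (x * y) ^ j = k⁻¹ * y * k) := by
  rcases Nat.even_or_odd j with h | h
  · left
    refine ⟨h, ?_⟩
    obtain ⟨l, rfl⟩ := h
    refine ⟨(x * y) ^ l, bi_pow l, ?_⟩
    rw [pow_add, ← mul_assoc]
    congr 1
    have := conj_pow hx hy l
    calc x * (x * y) ^ l = x * (x * y) ^ l * (x * x) := by rw [hx, mul_one]
      _ = ((x * y) ^ l)⁻¹ * x := by rw [← mul_assoc, this]
  · right
    refine ⟨h, ?_⟩
    obtain ⟨l, rfl⟩ := h
    refine ⟨(x * y) ^ l, bi_pow l, ?_⟩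
    have e : x * (x * y) ^ (2 * l + 1) = y * (x * y) ^ l * (x * y) ^ l := by
      rw [pow_succ', two_mul, pow_add]
      calc x * (x * y * ((x * y) ^ l * (x * y) ^ l)) = (x * x) * y * (x * y) ^ l * (x * y) ^ l := by
            simp only [mul_assoc]
        _ = y * (x * y) ^ l * (x * y) ^ l := by rw [hx, one_mul]
    rw [e]
    congr 1
    have := conj_pow' hx hy l
    calc y * (x * y) ^ l = y * (x * y) ^ l * (y * y) := by rw [hy, mul_one]
      _ = ((x * y) ^ l)⁻¹ * y := by rw [← mul_assoc, this]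

/-- the dichotomy modulo `F` -/
theorem dichotomy [Finite G] (hx : x * x = 1) (hy : y * y = 1) (F : G → Prop) (h1 : F 1) :
    (∃ k f, F f ∧ Bi x y k ∧ x * f = k⁻¹ * y * k) ∨
    ∃ u, ¬ F u ∧ F (u * u) ∧ x * u * x = u⁻¹ ∧ y * u * y = u⁻¹ ∧ Bi x y u ∧
      ∃ k, Bi x y k ∧ (x * u = k⁻¹ * x * k ∨ x * u = k⁻¹ * y * k) := by
  classical
  have hex : ∃ n : ℕ, 0 < n ∧ F ((x * y) ^ n) :=
    ⟨orderOf (x * y), orderOf_pos _, by rw [pow_orderOf_eq_one]; exact h1⟩
  obtain ⟨hn, hF⟩ := Nat.find_spec hex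
  rcases mul_pow hx hy (Nat.find hex) with ⟨he, -⟩ | ⟨ho, k, hk, hk'⟩
  · right
    obtain ⟨m, hm⟩ := he
    have hm0 : 0 < m := by omega
    have hmn : m < Nat.find hex := by omega
    refine ⟨(x * y) ^ m, fun h => Nat.find_min hex hmn ⟨hm0, h⟩, ?_, conj_pow hx hy m,
      conj_pow' hx hy m, bi_pow m, ?_⟩
    · rw [← pow_add, ← hm]; exact hF
    · rcases mul_pow hx hy m with ⟨-, k, hk, hk'⟩ | ⟨-, k, hk, hk'⟩
      · exact ⟨k, hk, Or.inl hk'⟩
      · exact ⟨k, hk, Or.inr hk'⟩
  · left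
    exact ⟨k, _, hF, hk, hk'⟩

end dihedral

/-! ### homes -/

section homes

variable {M : Subgroup G}

/-- The subgroup `M` controls the fusion of `z`. -/
structure Ctl (M : Subgroup G) (z : G) : Prop where
  cent : ∀ c, Commute c z → c ∈ M
  fus : ∀ g, g * z * g⁻¹ ∈ M → g ∈ M

namespace Ctl

variable (C : Ctl M z)

include C

theorem fix_iff (g : G) (q : G ⧸ M) : (g * z * g⁻¹) • q = q ↔ q = (g : G ⧸ M) := by
  obtain ⟨h, rfl⟩ := QuotientGroup.mk_surjective q
  constructor
  · intro hh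
    have h1 : ((g * z * g⁻¹ * h : G) : G ⧸ M) = (h : G ⧸ M) := hh
    rw [QuotientGroup.eq] at h1
    have h2 : (h⁻¹ * g) * z * (h⁻¹ * g)⁻¹ ∈ M := by
      have := M.inv_mem h1
      have e : ((g * z * g⁻¹ * h)⁻¹ * h)⁻¹ = (h⁻¹ * g) * z * (h⁻¹ * g)⁻¹ := by group
      rwa [e] at this
    exact QuotientGroup.eq.2 (C.fus _ h2)
  · intro hh
    rw [hh]
    show ((g * z * g⁻¹ * g : G) : G ⧸ M) = (g : G ⧸ M)
    rw [QuotientGroup.eq]
    have h1 : z ∈ M := C.cent z (Commute.refl z)
    have e : (g * z * g⁻¹ * g)⁻¹ * g = z⁻¹ := by group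
    rw [e]
    exact M.inv_mem h1

theorem exists_home {s : G} (hs : IsConj z s) : ∃ q : G ⧸ M, s • q = q := by
  obtain ⟨g, hg⟩ := isConj_iff.1 hs
  exact ⟨g, by rw [← hg]; exact (C.fix_iff g _).2 rfl⟩

theorem unique {s : G} (hs : IsConj z s) {q q' : G ⧸ M} (h : s • q = q) (h' : s • q' = q') :
    q = q' := by
  obtain ⟨g, hg⟩ := isConj_iff.1 hs
  rw [← hg] at h h'
  rw [(C.fix_iff g q).1 h, (C.fix_iff g q').1 h']

theorem fix_of_comm {s g : G} (hs : IsConj z s) (h : Commute g s) {q : G ⧸ M} (hq : s • q = q) :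
    g • q = q := by
  refine C.unique hs ?_ hq
  rw [← mul_smul, ← h.eq, mul_smul, hq]

end Ctl

/-- same home -/
def SH (M : Subgroup G) (x y : G) : Prop := ∀ q : G ⧸ M, x • q = q → y • q = q

theorem SH.trans {x y w : G} (h : SH M x y) (h' : SH M y w) : SH M x w := fun q hq => h' q (h q hq)

theorem SH.symm (C : Ctl M z) {x y : G} (hx : IsConj z x) (hy : IsConj z y) (h : SH M x y) :
    SH M y x := by
  intro q hq
  obtain ⟨q', hq'⟩ := C.exists_home hx
  have := C.unique hy (h q' hq') hq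
  rw [← this]
  exact hq'

theorem sh_of_comm (C : Ctl M z) {x y : G} (hx : IsConj z x) (h : Commute y x) : SH M x y :=
  fun _ hq => C.fix_of_comm hx h hq

theorem sh_link (C : Ctl M z) {x y u : G} (hx : IsConj z x) (hu : IsConj z u) (h : Commute u x)
    (h' : Commute y u) : SH M x y :=
  (sh_of_comm C hx h).trans (sh_of_comm C hu h')

variable [Finite G] (D : Data z In W S) (C : Ctl M z)

include D C

theorem conj_mem_iff {k x : G} : IsConj z (k⁻¹ * x * k) ↔ IsConj z x := by
  have := isConj_cj (z := z) k⁻¹ (x := x)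
  unfold cj at this
  rwa [inv_inv] at this

/-- (4a) -/
theorem four_a {x w v y : G} (hx : IsConj z x) (hS : S x w v) (hy : IsConj z y) (h1 : Commute w y)
    (h2 : Commute v y) (h3 : IsConj z (y * w)) : SH M x y := by
  obtain ⟨a1, a2, a3, b1, b2, c1, c2, c3⟩ := D.S_all hx hS
  have hxx := D.sq hx
  have hyy := D.sq hy
  have hn : ∀ f, (f = 1 ∨ f = w ∨ f = v ∨ f = w * v) → IsConj z (x * f) → f = 1 := by
    rintro f (h | h | h | h) hf
    · exact h
    · rw [h] at hf; exact absurd hf c1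
    · rw [h] at hf; exact absurd hf c2
    · rw [h] at hf; exact absurd hf c3
  rcases dichotomy hxx hyy (fun g => g = 1 ∨ g = w ∨ g = v ∨ g = w * v) (Or.inl rfl) with
    ⟨k, f, hf, hk, hk'⟩ | ⟨u, hu, huu, hux, huy, hbu, k, hk, hk'⟩
  · exfalso
    have h4 : IsConj z (x * f) := by rw [hk', conj_mem_iff D C]; exact hy
    have h5 := hn f hf h4
    rw [h5, mul_one] at hk'
    have hkw : Commute w k := hk w a1.symm h1
    apply c1
    have e : x * w = k⁻¹ * (y * w) * k := by
      rw [hk']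
      calc k⁻¹ * y * k * w = k⁻¹ * y * (k * w) := by group
        _ = k⁻¹ * y * (w * k) := by rw [hkw.eq]
        _ = k⁻¹ * (y * w) * k := by group
    rw [e, conj_mem_iff D C]
    exact h3
  · have h4 : IsConj z (x * u) := by
      rcases hk' with hk' | hk' <;> rw [hk', conj_mem_iff D C]
      · exact hx
      · exact hy
    have h5 : IsConj z (x * (u * u)) := by
      have e : x * (u * u) = (x * u) * x * (x * u)⁻¹ := by
        have hux' : u⁻¹ = x * u * x := hux.symm
        have hxi : x⁻¹ = x := inv_eq_of_mul_eq_one_left hxx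
        have hu2 : x * u⁻¹ * x = u := by
          rw [hux']
          calc x * (x * u * x) * x = (x * x) * u * (x * x) := by group
            _ = u := by rw [hxx]; group
        rw [mul_inv_rev, hxi]
        calc x * (u * u) = x * (u * (x * u⁻¹ * x)) := by rw [hu2]
          _ = x * u * x * (u⁻¹ * x) := by group
      rw [e]
      exact hx.trans (isConj_iff.2 ⟨x * u, rfl⟩)
    have h6 := hn _ huu h5
    have hui : u⁻¹ = u := inv_eq_of_mul_eq_one_left h6
    have hcx : Commute x u := by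
      rw [hui] at hux
      show x * u = u * x
      calc x * u = x * u * (x * x) := by rw [hxx, mul_one]
        _ = x * u * x * x := by group
        _ = u * x := by rw [hux]
    have hcy : Commute y u := by
      rw [hui] at huy
      show y * u = u * y
      calc y * u = y * u * (y * y) := by rw [hyy, mul_one]
        _ = y * u * y * y := by group
        _ = u * y := by rw [huy]
    have hwu : Commute w u := hbu w a1.symm h1
    have hvu : Commute v u := hbu v a2.symm h2
    have hu1 : u ≠ 1 := fun h => hu (Or.inl h)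
    have e0 : x * (x * u) = u := by rw [← mul_assoc, hxx, one_mul]
    have h7 := D.S_c' hx hS h4 ((Commute.refl x).mul_right hcx) (a1.symm.mul_right hwu)
      (a2.symm.mul_right hvu) (fun h => hu1 (mul_eq_left.1 h))
    rw [e0] at h7
    rcases h7 with h7 | h7 | h7 | h7
    · exact sh_link C hx h7 hcx.symm hcy
    · exact sh_link C hx h7 (hcx.symm.mul_left a1.symm) (hcy.mul_right h1.symm)
    · exact sh_link C hx h7 (hcx.symm.mul_left a2.symm) (hcy.mul_right h2.symm)
    · exact sh_link C hx h7 (hcx.symm.mul_left (a1.symm.mul_left a2.symm))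
        (hcy.mul_right (h1.symm.mul_right h2.symm))

/-- (4b) -/
theorem four_b {x w y : G} (hx : IsConj z x) (hW : W x w) (hy : IsConj z y) (h1 : Commute w y)
    (h3 : IsConj z (y * w)) : SH M x y := by
  obtain ⟨w1, w2, a1, -, c1, -⟩ := D.W_all hx hW
  have hxx := D.sq hx
  have hyy := D.sq hy
  have hn : ∀ f, (f = 1 ∨ f = w) → IsConj z (x * f) → f = 1 := by
    rintro f (h | h) hf
    · exact h
    · rw [h] at hf; exact absurd hf c1
  rcases dichotomy hxx hyy (fun g => g = 1 ∨ g = w) (Or.inl rfl) with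
    ⟨k, f, hf, hk, hk'⟩ | ⟨u, hu, huu, hux, huy, hbu, k, hk, hk'⟩
  · exfalso
    have h4 : IsConj z (x * f) := by rw [hk', conj_mem_iff D C]; exact hy
    have h5 := hn f hf h4
    rw [h5, mul_one] at hk'
    have hkw : Commute w k := hk w a1.symm h1
    apply c1
    have e : x * w = k⁻¹ * (y * w) * k := by
      rw [hk']
      calc k⁻¹ * y * k * w = k⁻¹ * y * (k * w) := by group
        _ = k⁻¹ * y * (w * k) := by rw [hkw.eq]
        _ = k⁻¹ * (y * w) * k := by group
    rw [e, conj_mem_iff D C]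
    exact h3
  · have h4 : IsConj z (x * u) := by
      rcases hk' with hk' | hk' <;> rw [hk', conj_mem_iff D C]
      · exact hx
      · exact hy
    have h5 : IsConj z (x * (u * u)) := by
      have e : x * (u * u) = (x * u) * x * (x * u)⁻¹ := by
        have hux' : u⁻¹ = x * u * x := hux.symm
        have hxi : x⁻¹ = x := inv_eq_of_mul_eq_one_left hxx
        have hu2 : x * u⁻¹ * x = u := by
          rw [hux']
          calc x * (x * u * x) * x = (x * x) * u * (x * x) := by group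
            _ = u := by rw [hxx]; group
        rw [mul_inv_rev, hxi]
        calc x * (u * u) = x * (u * (x * u⁻¹ * x)) := by rw [hu2]
          _ = x * u * x * (u⁻¹ * x) := by group
      rw [e]
      exact hx.trans (isConj_iff.2 ⟨x * u, rfl⟩)
    have h6 := hn _ huu h5
    have hui : u⁻¹ = u := inv_eq_of_mul_eq_one_left h6
    have hcx : Commute x u := by
      rw [hui] at hux
      show x * u = u * x
      calc x * u = x * u * (x * x) := by rw [hxx, mul_one]
        _ = x * u * x * x := by group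
        _ = u * x := by rw [hux]
    have hcy : Commute y u := by
      rw [hui] at huy
      show y * u = u * y
      calc y * u = y * u * (y * y) := by rw [hyy, mul_one]
        _ = y * u * y * y := by group
        _ = u * y := by rw [huy]
    have hwu : Commute w u := hbu w a1.symm h1
    have hu1 : u ≠ 1 := fun h => hu (Or.inl h)
    have e0 : x * (x * u) = u := by rw [← mul_assoc, hxx, one_mul]
    by_cases k1 : IsConj z u
    · exact sh_link C hx k1 hcx.symm hcy
    by_cases k2 : IsConj z (u * w)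
    · exact sh_link C hx k2 (hcx.symm.mul_left a1.symm) (hcy.mul_right h1.symm)
    rcases hk' with hk' | hk'
    · exfalso
      have hkw : Commute w k := hk w a1.symm h1
      have h8 : ¬ IsConj z (x * u * w) := by
        have e : x * u * w = k⁻¹ * (x * w) * k := by
          rw [hk']
          calc k⁻¹ * x * k * w = k⁻¹ * x * (k * w) := by group
            _ = k⁻¹ * x * (w * k) := by rw [hkw.eq]
            _ = k⁻¹ * (x * w) * k := by group
        rw [e, conj_mem_iff D C]
        exact c1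
      have h7 := D.c1' hx hW h4 ((Commute.refl x).mul_right hcx) (a1.symm.mul_right hwu)
        (fun h => hu1 (mul_eq_left.1 h)) h8
      rw [e0] at h7
      rcases h7 with h7 | h7
      · exact k1 h7
      · exact k2 h7
    · have hkw : Commute w k := hk w a1.symm h1
      have h8 : IsConj z (x * u * w) := by
        have e : x * u * w = k⁻¹ * (y * w) * k := by
          rw [hk']
          calc k⁻¹ * y * k * w = k⁻¹ * y * (k * w) := by group
            _ = k⁻¹ * y * (w * k) := by rw [hkw.eq]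
            _ = k⁻¹ * (y * w) * k := by group
        rw [e, conj_mem_iff D C]
        exact h3
      obtain ⟨x', x1, x2, x3⟩ := D.c2' hx hW h4 ((Commute.refl x).mul_right hcx)
        (a1.symm.mul_right hwu) h8 (by rw [e0]; exact k1) (by rw [e0]; exact k2)
      rw [e0] at x3
      exact (sh_of_comm C hx x2).trans (four_a D C x1 x3 hy h1 hcy.symm h3)

/-- inner involutions whose product with `x` is a conjugate of `z`, commuting with a conjugate `y` -/
theorem of_in {x c : G} (hx : IsConj z x) (hxc : IsConj z (x * c)) (hc : Commute x c)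
    : In x c := by
  have h1 : In x (x * c) := D.star' hx hxc ((Commute.refl x).mul_right hc)
  have h2 : In x x := D.star' hx hx (Commute.refl x)
  have h3 := D.In_mul' hx h2 h1
  rwa [← mul_assoc, D.sq hx, one_mul] at h3

/-- (4c) -/
theorem four_c {x y : G} (hx : IsConj z x) (hy : IsConj z y) (h : ¬ SH M x y) :
    Odd (orderOf (x * y)) := by
  by_contra hodd
  rw [Nat.not_odd_iff_even] at hodd
  apply h
  obtain ⟨m, hm⟩ := hodd
  have hxx := D.sq hx
  have hyy := D.sq hy
  have hpos := orderOf_pos (x * y)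
  set c := (x * y) ^ m with hc
  have hcc : c * c = 1 := by rw [hc, ← pow_add, ← hm, pow_orderOf_eq_one]
  have hc1 : c ≠ 1 := by
    intro h'
    have := orderOf_dvd_of_pow_eq_one (hc ▸ h' : (x * y) ^ m = 1)
    have := Nat.le_of_dvd (by omega) this
    omega
  have hui : c⁻¹ = c := inv_eq_of_mul_eq_one_left hcc
  have hcx : Commute x c := by
    have hux := conj_pow hxx hyy m
    rw [← hc, hui] at hux
    show x * c = c * x
    calc x * c = x * c * (x * x) := by rw [hxx, mul_one]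
      _ = x * c * x * x := by group
      _ = c * x := by rw [hux]
  have hcy : Commute y c := by
    have huy := conj_pow' hxx hyy m
    rw [← hc, hui] at huy
    show y * c = c * y
    calc y * c = y * c * (y * y) := by rw [hyy, mul_one]
      _ = y * c * y * y := by group
      _ = c * y := by rw [huy]
  have hxc : IsConj z (x * c) := by
    rcases mul_pow hxx hyy m with ⟨-, k, hk, hk'⟩ | ⟨-, k, hk, hk'⟩ <;>
      rw [hc, hk', conj_mem_iff D C] <;> assumption
  have hyc : IsConj z (y * c) := by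
    have e : y * c = x * (x * y) ^ (m + 1) := by
      rw [pow_succ', hc]
      calc y * (x * y) ^ m = (x * x) * y * (x * y) ^ m := by rw [hxx, one_mul]
        _ = _ := by simp only [mul_assoc]
    rw [e]
    rcases mul_pow hxx hyy (m + 1) with ⟨-, k, hk, hk'⟩ | ⟨-, k, hk, hk'⟩ <;>
      rw [hk', conj_mem_iff D C] <;> assumption
  rcases D.inv' hx (of_in D C hx hxc hcx) hcc hc1 with h1 | h1 | ⟨-, a, ha, hax, haW⟩
  · exact sh_link C hx h1 hcx.symm hcy
  · exact absurd hxc (D.W_all hx h1).2.2.2.2.1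
  · exact (sh_of_comm C hx hax).trans (four_b D C ha haW hy hcy.symm hyc)

/-- an involution fixing `q` commutes with a conjugate of `z` fixing `q` -/
theorem exists_comm {w : G} (hw : w * w = 1) {q : G ⧸ M} (hq : w • q = q) :
    ∃ y, IsConj z y ∧ Commute y w ∧ y • q = q := by
  obtain ⟨g, rfl⟩ := QuotientGroup.mk_surjective q
  have hw' : g⁻¹ * w * g ∈ M := by
    have h1 : ((w * g : G) : G ⧸ M) = (g : G ⧸ M) := hq
    rw [QuotientGroup.eq] at h1
    have := M.inv_mem h1
    have e : ((w * g)⁻¹ * g)⁻¹ = g⁻¹ * w * g := by group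
    rwa [e] at this
  have hle : Subgroup.centralizer ({z} : Set G) ≤ M := by
    intro c hc
    exact C.cent c (Subgroup.mem_centralizer_singleton_iff.1 hc)
  have hrel : Odd ((Subgroup.centralizer ({z} : Set G)).subgroupOf M).index := by
    have h1 := Subgroup.relIndex_mul_index hle
    have h2 := D.odd
    rw [← h1] at h2
    exact (Nat.odd_mul.1 h2).1
  let T := M ⧸ (Subgroup.centralizer ({z} : Set G)).subgroupOf M
  have : Fintype T := Fintype.ofFinite T
  let σ : Equiv.Perm T := MulAction.toPermHom M T ⟨_, hw'⟩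
  have hσ : σ ^ 2 ^ 1 = 1 := by
    rw [pow_one, ← map_pow]
    have : (⟨_, hw'⟩ : M) ^ 2 = 1 := by
      apply Subtype.ext
      show (g⁻¹ * w * g) ^ 2 = 1
      rw [pow_two]
      calc g⁻¹ * w * g * (g⁻¹ * w * g) = g⁻¹ * (w * w) * g := by group
        _ = 1 := by rw [hw]; group
    rw [this, map_one]
  have hcard : ¬ 2 ∣ Fintype.card T := by
    rw [← Nat.card_eq_fintype_card]
    have h1 : Odd (Nat.card T) := hrel
    rwa [← even_iff_two_dvd, Nat.not_even_iff_odd]
  have : Fact (Nat.Prime 2) := ⟨Nat.prime_two⟩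
  obtain ⟨t, ht⟩ := Equiv.Perm.exists_fixed_point_of_prime hcard hσ
  obtain ⟨h, rfl⟩ := QuotientGroup.mk_surjective t
  have h1 : (((⟨_, hw'⟩ : M) * h : M) : T) = (h : T) := ht
  rw [QuotientGroup.eq, Subgroup.mem_subgroupOf, Subgroup.mem_centralizer_singleton_iff] at h1
  have h2 : (((⟨_, hw'⟩ : M) * h)⁻¹ * h : M) = ((h : G)⁻¹ * (g⁻¹ * w * g) * h)⁻¹ := by
    show (g⁻¹ * w * g * h)⁻¹ * (h : G) = _
    group
  rw [h2] at h1
  have h3 : Commute ((h : G)⁻¹ * (g⁻¹ * w * g) * h) z := by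
    have : Commute ((h : G)⁻¹ * (g⁻¹ * w * g) * h)⁻¹ z := h1
    have := this.inv_left
    rwa [inv_inv] at this
  refine ⟨g * h * z * (g * h)⁻¹, isConj_iff.2 ⟨g * h, rfl⟩, ?_, ?_⟩
  · have h4 := (commute_cj (g * h)).2 h3.symm
    have e : cj (g * h) ((h : G)⁻¹ * (g⁻¹ * w * g) * h) = w := by unfold cj; group
    rw [e] at h4
    exact h4
  · rw [C.fix_iff]
    rw [QuotientGroup.eq]
    have : g⁻¹ * (g * h) = (h : G) := by group
    rw [this]
    exact h.2

theorem conj_of_odd {x y : G} (hxx : x * x = 1) (hyy : y * y = 1) (h : Odd (orderOf (x * y))) :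
    ∃ k, Bi x y k ∧ x = k⁻¹ * y * k := by
  rcases mul_pow hxx hyy (orderOf (x * y)) with ⟨he, -⟩ | ⟨-, k, hk, hk'⟩
  · exact absurd h (Nat.not_odd_iff_even.2 he)
  · rw [pow_orderOf_eq_one, mul_one] at hk'
    exact ⟨k, hk, hk'⟩

/-- (4d) -/
theorem four_d {x w : G} (hx : IsConj z x) (hW : W x w) {q : G ⧸ M} (hq : w • q = q) :
    x • q = q := by
  by_contra hne
  obtain ⟨w1, w2, a1, -, c1, -⟩ := D.W_all hx hW
  obtain ⟨y, hy, hyw, hyq⟩ := exists_comm D C w2 hq
  have hxy : ¬ SH M x y := by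
    intro h
    exact hne ((SH.symm C hx hy h) q hyq)
  have hxx := D.sq hx
  have hyy := D.sq hy
  obtain ⟨k, hk, hk'⟩ := conj_of_odd D C hxx hyy (four_c D C hx hy hxy)
  have hWy : W y w := by
    have h1 := D.W_conj k _ _ hW
    have hkw : Commute w k := hk w a1.symm hyw.symm
    have e1 : k * x * k⁻¹ = y := by rw [hk']; group
    have e2 : k * w * k⁻¹ = w := by rw [← hkw.eq]; group
    rwa [e1, e2] at h1
  obtain ⟨x1, b1, b2, b3, b4⟩ := D.beta' hx hW
  have hx1y : ¬ SH M x1 y := fun h => hxy ((sh_of_comm C hx b2).trans h)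
  obtain ⟨l, hl, hl'⟩ := conj_of_odd D C (D.sq b1) hyy (four_c D C b1 hy hx1y)
  have hlw : Commute w l := hl w b3.symm hyw.symm
  apply (D.W_all hy hWy).2.2.2.2.1
  rw [← conj_mem_iff D C (k := l)]
  have e : l⁻¹ * (y * w) * l = x1 * w := by
    rw [hl']
    calc l⁻¹ * (y * w) * l = l⁻¹ * y * (w * l) := by group
      _ = l⁻¹ * y * (l * w) := by rw [hlw.eq]
      _ = l⁻¹ * y * l * w := by group
  rw [e]
  exact b4

/-- **The closing argument.** -/
theorem closing : M = ⊤ := by
  by_contra hne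
  obtain ⟨g, hg⟩ : ∃ g, g ∉ M := by
    by_contra hcon
    push Not at hcon
    exact hne (eq_top_iff.2 fun g _ => hcon g)
  obtain ⟨w, hw⟩ := D.exW
  have hz : IsConj z z := IsConj.refl z
  have hx : IsConj z (g * z * g⁻¹) := isConj_iff.2 ⟨g, rfl⟩
  obtain ⟨w1, w2, a1, n1, c1, -⟩ := D.W_all hz hw
  have hzM : z • ((1 : G) : G ⧸ M) = ((1 : G) : G ⧸ M) := by
    have h1 : (1 : G) * z * 1⁻¹ = z := by group
    have := (C.fix_iff 1 ((1 : G) : G ⧸ M)).2 rfl
    rwa [h1] at this
  have hgM : (g * z * g⁻¹) • (g : G ⧸ M) = (g : G ⧸ M) := (C.fix_iff g _).2 rfl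
  have hne' : ((1 : G) : G ⧸ M) ≠ (g : G ⧸ M) := by
    intro h
    rw [QuotientGroup.eq] at h
    apply hg
    have e : (1 : G)⁻¹ * g = g := by group
    rwa [e] at h
  set x := g * z * g⁻¹ with hxdef
  have hxx := D.sq hx
  rcases Nat.even_or_odd (orderOf (x * w)) with he | ho
  · obtain ⟨m, hm⟩ := he
    have hpos := orderOf_pos (x * w)
    set c := (x * w) ^ m with hc
    have hcc : c * c = 1 := by rw [hc, ← pow_add, ← hm, pow_orderOf_eq_one]
    have hcne : c ≠ 1 := by
      intro h'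
      have := orderOf_dvd_of_pow_eq_one (hc ▸ h' : (x * w) ^ m = 1)
      have := Nat.le_of_dvd (by omega) this
      omega
    have hui : c⁻¹ = c := inv_eq_of_mul_eq_one_left hcc
    have hcx : Commute x c := by
      have hux := conj_pow hxx w2 m
      rw [← hc, hui] at hux
      show x * c = c * x
      calc x * c = x * c * (x * x) := by rw [hxx, mul_one]
        _ = x * c * x * x := by group
        _ = c * x := by rw [hux]
    have hcw : Commute w c := by
      have huy := conj_pow' hxx w2 m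
      rw [← hc, hui] at huy
      show w * c = c * w
      calc w * c = w * c * (w * w) := by rw [w2, mul_one]
        _ = w * c * w * w := by group
        _ = c * w := by rw [huy]
    -- `c` fixes both homes
    have f1 : c • (g : G ⧸ M) = (g : G ⧸ M) := C.fix_of_comm hx hcx.symm hgM
    have f2 : c • ((1 : G) : G ⧸ M) = ((1 : G) : G ⧸ M) := by
      have h1 : w • (c • ((1 : G) : G ⧸ M)) = c • ((1 : G) : G ⧸ M) := by
        rw [← mul_smul, hcw.eq, mul_smul, C.fix_of_comm hz a1.symm hzM]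
      have h2 := four_d D C hz hw h1
      exact C.unique hz h2 hzM
    have hin : In x c := by
      rcases mul_pow hxx w2 m with ⟨-, k, hk, hk'⟩ | ⟨-, k, hk, hk'⟩
      · apply of_in D C hx _ hcx
        rw [hc, hk', conj_mem_iff D C]; exact hx
      · -- `x c` is conjugate to `w`
        rw [← hc] at hk'
        have h1 := D.W_conj k⁻¹ _ _ hw
        rw [inv_inv, ← hk'] at h1
        have h2 : IsConj z (k⁻¹ * z * k) := (conj_mem_iff D C).2 hz
        obtain ⟨d1, d2, d3, d4, d5, d6⟩ := D.W_all h2 h1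
        have h3 : In x (x * c) := D.con' h2 hx d2 d3 ((Commute.refl x).mul_right hcx) d6
        have h4 : In x x := D.star' hx hx (Commute.refl x)
        have h5 := D.In_mul' hx h4 h3
        rwa [← mul_assoc, hxx, one_mul] at h5
    rcases D.inv' hx hin hcc hcne with h1 | h1 | ⟨-, a, ha, hax, haW⟩
    · exact hne' (C.unique h1 f2 f1)
    · exact hne' (C.unique hx (four_d D C hx h1 f2) hgM)
    · exact hne' (C.unique ha (four_d D C ha haW f2) (four_d D C ha haW f1))
  · obtain ⟨k, -, hk'⟩ := conj_of_odd D C hxx w2 ho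
    apply n1
    rw [← conj_mem_iff D C (k := k), ← hk']
    exact hx

end homes

end Cfsg.Agent.TypeD4Three.Closing
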