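import Cfsg.Agent.TypeD4Three.InstS
import Cfsg.Agent.TypeD4Three.Closing

/-!
# S1763, case [P]: `M = G` (helper948)

`eq_top`: a subgroup containing `C_G(z)` and `A` (for one pair) is the whole group.
-/

set_option autoImplicit false

namespace Cfsg.Agent.TypeD4Three.Inst

open Cfsg.Agent.Co2Type.Quad Cfsg.Agent.LargeExtra.Base Cfsg.Agent.LargeExtra.Local
open Cfsg.Agent.TypeD4Three.StarModel Cfsg.Agent.TypeD4Three.StarFrame Cfsg.Agent.TypeD4Three.StarEdge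
open Cfsg.Agent.TypeD4Three.LocIface Cfsg.Agent.TypeD4Three.InstModel Cfsg.Agent.TypeD4Three.Star
open Cfsg.Agent.TypeD4Three.InstBase Cfsg.Agent.TypeD4Three.InstFix Cfsg.Agent.TypeD4Three.InstCon
open Cfsg.Agent.TypeD4Three.InstSwap Cfsg.Agent.TypeD4Three.InstS Cfsg.Agent.TypeD4Three.Closing

variable {G : Type*} [Group G] {Q : Subgroup G} {z : G} {lz : Large Q z} {F : Frame lz}

theorem exists_W1 (F : Frame lz) : ∃ w, W1 F w := by
  obtain ⟨r, hr⟩ := lz.pr_surjective (F.sg 0 (1, 0) + F.sg 1 (1, 0))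
  refine ⟨r, r.2, ?_⟩
  show isTwo (F.φ (lz.pr r))
  rw [hr, map_add, F.φ_sg, F.φ_sg]
  refine ⟨0, 1, by decide, fun j => ?_⟩
  rw [Pi.add_apply]
  fin_cases j <;> decide

/-- the instance of the closing argument -/
theorem data [Finite G] (H : Hyp F) (L : Loc F) : Data z (In F) (Wt F) (St F) where
  z_ne := lz.z_ne
  z_sq := lz.z_sq
  odd := Cfsg.Agent.LargeExtra.TwoCentral.odd_index lz
  In_conj g s w h := in_conj g h
  W_conj g s w h := Wt_conj g h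
  S_conj g s w v h := St_conj g h
  In_mul w w' h h' := in_mul h h'
  star t ht hc := in_z.2 (star H ht hc.eq.symm)
  con s hs w hw hzw hsw hin := con H L hs hw hzw.eq.symm hsw.eq.symm hin
  exW := by
    obtain ⟨w, hw⟩ := exists_W1 F
    exact ⟨w, Wt_z.2 hw⟩
  W_ne w hw := by
    rintro rfl
    exact (Wt_z.1 hw).ne
  W_sq w hw := (Wt_z.1 hw).sq L
  W_comm w hw := by
    obtain ⟨hwQ, -⟩ := Wt_z.1 hw
    exact (lz.comm_z w hwQ).symm
  W_not w hw := (Wt_z.1 hw).not_isConj L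
  W_not' w hw := (Wt_z.1 hw).mul_z.not_isConj L
  W_in w hw := by
    obtain ⟨hwQ, -⟩ := Wt_z.1 hw
    exact in_z.2 (F.Q_le_C1 hwQ)
  inv w hin hww hw1 := by
    rcases inv H L (in_z.1 hin) hww hw1 with h | h | ⟨-, h, a, ha, haz, haw⟩
    · exact Or.inl h
    · exact Or.inr (Or.inl (Wt_z.2 h))
    · exact Or.inr (Or.inr ⟨h, a, ha, haz, haw⟩)
  beta w hw := by
    obtain ⟨y, h1, h2, h3, h4⟩ := beta H (Wt_z.1 hw)
    exact ⟨y, h1, h2, h3, h4⟩
  c1 w hw x hx hzx hwx hne hxw := c1 H L (Wt_z.1 hw) hx hzx.eq hwx.eq hne hxw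
  c2 w hw y hy hzy hwy hyw h1 _ := by
    obtain ⟨a, h1, h2, h3⟩ := c2 H L (Wt_z.1 hw) hy hzy.eq hwy.eq hyw h1
    exact ⟨a, h1, h2, h3⟩
  S_comm w v h := by
    obtain ⟨hwQ, hvQ, hS⟩ := St_z.1 h
    obtain ⟨i1, i2, i3, i4⟩ := isS_all _ _ hS
    refine ⟨(lz.comm_z w hwQ).symm, (lz.comm_z v hvQ).symm, ?_⟩
    refine (lz.b_pr ⟨w, hwQ⟩ ⟨v, hvQ⟩).1 ?_
    rw [F.hb]; exact i4
  S_sq w v h := by
    obtain ⟨hwQ, hvQ, hS⟩ := St_z.1 h
    obtain ⟨i1, i2, i3, i4⟩ := isS_all _ _ hS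
    exact ⟨sq_of_two L (x := ⟨w, hwQ⟩) i1, sq_of_two L (x := ⟨v, hvQ⟩) i2⟩
  S_not w v h := by
    obtain ⟨hwQ, hvQ, hS⟩ := St_z.1 h
    obtain ⟨i1, i2, i3, i4⟩ := isS_all _ _ hS
    refine ⟨?_, ?_, ?_⟩
    · exact (W1.mul_z (F := F) ⟨hwQ, i1⟩).not_isConj L
    · exact (W1.mul_z (F := F) ⟨hvQ, i2⟩).not_isConj L
    · refine (W1.mul_z (F := F) (w := w * v) ⟨mul_mem hwQ hvQ, ?_⟩).not_isConj L
      have : lz.pr ⟨w * v, mul_mem hwQ hvQ⟩ = lz.pr ⟨w, hwQ⟩ + lz.pr ⟨v, hvQ⟩ :=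
        lz.pr_mul ⟨w, hwQ⟩ ⟨v, hvQ⟩
      rw [this, map_add]
      exact i3
  S_c w v h x hx hzx hwx hvx hne := S_c H L (St_z.1 h) hx hzx.eq hwx.eq hvx.eq hne

/-! ### fusion in `M` -/

/-- `t ∈ M` an involution: some `M`-conjugate lies in `C_G(z)` -/
theorem exists_conj_cent [Finite G] (lz : Large Q z) {M : Subgroup G} (hC : ∀ c, c * z = z * c → c ∈ M)
    {t : G} (htM : t ∈ M) (ht : t * t = 1) : ∃ m ∈ M, (m⁻¹ * t * m) * z = z * (m⁻¹ * t * m) := by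
  have hle : Subgroup.centralizer ({z} : Set G) ≤ M := by
    intro c hc
    exact hC c (Subgroup.mem_centralizer_singleton_iff.1 hc)
  have hrel : Odd ((Subgroup.centralizer ({z} : Set G)).subgroupOf M).index := by
    have h1 := Subgroup.relIndex_mul_index hle
    have h2 := Cfsg.Agent.LargeExtra.TwoCentral.odd_index lz
    rw [← h1] at h2
    exact (Nat.odd_mul.1 h2).1
  have htt : (⟨t, htM⟩ : M) * ⟨t, htM⟩ = 1 := Subtype.ext ht
  obtain ⟨q, hq⟩ := exists_fix (T := M ⧸ (Subgroup.centralizer ({z} : Set G)).subgroupOf M) hrel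
    (fun q => (⟨t, htM⟩ : M) • q) (fun q => by
      show (⟨t, htM⟩ : M) • (⟨t, htM⟩ : M) • q = q
      rw [← mul_smul, htt, one_smul])
  obtain ⟨m, rfl⟩ := QuotientGroup.mk_surjective q
  have h1 : (((⟨t, htM⟩ : M) * m : M) : M ⧸ (Subgroup.centralizer ({z} : Set G)).subgroupOf M) =
    (m : M ⧸ (Subgroup.centralizer ({z} : Set G)).subgroupOf M) := hq
  rw [QuotientGroup.eq, Subgroup.mem_subgroupOf, Subgroup.mem_centralizer_singleton_iff] at h1
  have h2 : (((⟨t, htM⟩ : M) * m)⁻¹ * m : M) = ((m : G)⁻¹ * t * m)⁻¹ := by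
    show (t * m)⁻¹ * (m : G) = _
    group
  rw [h2] at h1
  refine ⟨m, m.2, ?_⟩
  have h3 : Commute ((m : G)⁻¹ * t * m)⁻¹ z := h1
  have h4 := h3.inv_left
  rw [inv_inv] at h4
  exact h4.eq

theorem ctl [Finite G] (H : Hyp F) (L : Loc F) {A : Subgroup G} {a : G} (p : Pair Q z A a)
    {M : Subgroup G} (hC : ∀ c, c * z = z * c → c ∈ M) (hA : A ≤ M) : Ctl M z where
  cent c hc := hC c hc.eq
  fus := by
    have hQM : Q ≤ M := fun x hx => hC x (lz.comm_z x hx)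
    -- `a` is conjugate to `z` in `M`
    have h0 : ∃ m ∈ M, a = m * z * m⁻¹ := by
      obtain ⟨y, hy, hyz⟩ := exists_not_comm p.la p.z_mem lz.z_ne p.ne.symm
      obtain ⟨q, hq, hqa⟩ := exists_not_comm lz p.a_mem p.la.z_ne p.ne
      refine ⟨q⁻¹ * y, mul_mem (inv_mem (hQM hq)) (hA hy), ?_⟩
      have hya : y * a = a * y := p.la.comm_z y hy
      have e1 : y * z * y⁻¹ = z * a := by
        rw [hyz]
        calc z * y * a * y⁻¹ = z * (y * a) * y⁻¹ := by group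
          _ = z * a := by rw [hya]; group
      have hqz : q * z = z * q := lz.comm_z q hq
      have e2 : q * a * q⁻¹ = z * a := by
        rw [hqa]
        calc a * q * z * q⁻¹ = a * (q * z) * q⁻¹ := by group
          _ = a * z := by rw [hqz]; group
          _ = z * a := p.comm_za
      calc a = q⁻¹ * (q * a * q⁻¹) * q := by group
        _ = q⁻¹ * (y * z * y⁻¹) * q := by rw [e2, e1]
        _ = q⁻¹ * y * z * (q⁻¹ * y)⁻¹ := by group
    obtain ⟨m0, hm0, ha⟩ := h0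
    -- conjugates in `Q`
    have hQ : ∀ t ∈ Q, IsConj z t → ∃ m ∈ M, t = m * z * m⁻¹ := by
      intro t ht hzt
      by_cases hne : t = z
      · exact ⟨1, M.one_mem, by rw [hne]; group⟩
      · have h1 := full_of_isConj L (x := ⟨t, ht⟩) hzt hne
        obtain ⟨c, hcz, hc⟩ := L.trans ⟨a, p.a_mem⟩ ⟨t, ht⟩ (fun k => L.full p k) h1
        refine ⟨c * m0, mul_mem (hC c hcz) hm0, ?_⟩
        have hc' : c * a * c⁻¹ = t := hc
        rw [← hc', ha]; group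
    -- conjugates in `C(z)`
    have hCz : ∀ t, t * z = z * t → IsConj z t → ∃ m ∈ M, t = m * z * m⁻¹ := by
      intro t htz ht
      by_cases htQ : t ∈ Q
      · exact hQ t htQ ht
      have htC : t ∈ F.C1 := star H ht htz
      obtain ⟨B, b, q, hB⟩ := H.invol htC (sq_of_isConj lz ht) htQ
      obtain ⟨c, hcz, hc⟩ := L.trans ⟨a, p.a_mem⟩ ⟨b, q.a_mem⟩ (fun k => L.full p k)
        (fun k => L.full q k)
      have hc' : c * a * c⁻¹ = b := hc
      have h1 : InQ Q z b t := (inQ_pair q).2 hB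
      have h2 := inQ_conj (c * m0)⁻¹ h1
      have e1 : (c * m0)⁻¹ * b * ((c * m0)⁻¹)⁻¹ = z := by
        rw [← hc', ha]; group
      rw [e1, inQ_z lz] at h2
      have h3 : IsConj z ((c * m0)⁻¹ * t * ((c * m0)⁻¹)⁻¹) :=
        ht.trans (isConj_iff.2 ⟨_, rfl⟩)
      obtain ⟨m, hm, h4⟩ := hQ _ h2 h3
      refine ⟨c * m0 * m, mul_mem (mul_mem (hC c hcz) hm0) hm, ?_⟩
      calc t = (c * m0) * ((c * m0)⁻¹ * t * ((c * m0)⁻¹)⁻¹) * (c * m0)⁻¹ := by group
        _ = (c * m0) * (m * z * m⁻¹) * (c * m0)⁻¹ := by rw [h4]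
        _ = _ := by group
    intro g hg
    have hconj : IsConj z (g * z * g⁻¹) := isConj_iff.2 ⟨g, rfl⟩
    obtain ⟨m, hm, h1⟩ := exists_conj_cent lz hC hg (sq_of_isConj lz hconj)
    obtain ⟨m', hm', h2⟩ := hCz _ h1 ((isConj_conj m).2 hconj)
    have h3 : (m * m')⁻¹ * g ∈ M := by
      apply hC
      calc (m * m')⁻¹ * g * z = m'⁻¹ * (m⁻¹ * (g * z * g⁻¹) * m) * m⁻¹ * g := by group
        _ = m'⁻¹ * (m' * z * m'⁻¹) * m⁻¹ * g := by rw [h2]
        _ = z * ((m * m')⁻¹ * g) := by group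
    have e : g = (m * m') * ((m * m')⁻¹ * g) := by group
    rw [e]
    exact mul_mem (mul_mem hm hm') h3

/-- **The closing theorem.** -/
theorem eq_top [Finite G] (H : Hyp F) (L : Loc F) {A : Subgroup G} {a : G} (p : Pair Q z A a)
    (M : Subgroup G) (hC : ∀ c, c * z = z * c → c ∈ M) (hA : A ≤ M) : M = ⊤ :=
  closing (data H L) (ctl H L p hC hA)

end Cfsg.Agent.TypeD4Three.Inst
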