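import Cfsg.Agent.TypeD4Three.Star

/-!
# S1763, case [P]: the local facts used for the instance of the closing argument (helper948)

`Chart F p`: coordinates of `V = Q / ⟨z⟩` with the same planes as `F`, adapted to the pair `p = (A, a)`:
`ã = (1,0)` in each plane, explicit `D̃` and `X`.
`Loc F`: each pair has a chart; full vectors are exactly those of conjugates of `z`; `q` is the parity of the weight.
-/

set_option autoImplicit false

namespace Cfsg.Agent.TypeD4Three.LocIface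

open Cfsg.Agent.Co2Type.Quad Cfsg.Agent.LargeExtra.Base Cfsg.Agent.LargeExtra.Local
open Cfsg.Agent.TypeD4Three.StarModel Cfsg.Agent.TypeD4Three.StarFrame Cfsg.Agent.TypeD4Three.StarEdge

variable {G : Type*} [Group G] {Q : Subgroup G} {z : G} {lz : Large Q z}

/-- Coordinates adapted to a pair. -/
structure Chart (F : Frame lz) {A : Subgroup G} {a : G} (p : Pair Q z A a) where
  ψ : lz.V ≃+ (Fin 4 → W)
  hb : ∀ v w, lz.b v w = ∑ k, om (ψ v k) (ψ w k)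
  zero : ∀ v k, ψ v k = 0 ↔ F.φ v k = 0
  va : ∀ k, ψ (lz.pr ⟨a, p.a_mem⟩) k = (1, 0)
  D : ∀ v, v ∈ p.D ↔ ∃ (s : Fin 4 → ZMod 2) (e : ZMod 2), ∑ k, s k = 0 ∧ ∀ k, ψ v k = (s k, e)
  X : ∀ f : lz.V ≃ₗ[ZMod 2] lz.V, f ∈ p.X → ∃ (π : Equiv.Perm (Fin 4)) (e : ZMod 2), isV π ∧
    ∀ v k, ψ (f v) (π k) = ((ψ v k).1 + e * (ψ v k).2, (ψ v k).2)

/-- The local facts. -/
structure Loc (F : Frame lz) : Prop where
  q_wt : ∀ v, lz.q v = ∑ k, (if F.φ v k = 0 then (0 : ZMod 2) else 1)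
  full : ∀ {A : Subgroup G} {a : G} (p : Pair Q z A a) (k : Fin 4), F.φ (lz.pr ⟨a, p.a_mem⟩) k ≠ 0
  chart : ∀ {A : Subgroup G} {a : G} (p : Pair Q z A a), Nonempty (Chart F p)
  trans : ∀ x y : Q, (∀ k, F.φ (lz.pr x) k ≠ 0) → (∀ k, F.φ (lz.pr y) k ≠ 0) →
    ∃ c : G, c * z = z * c ∧ c * x * c⁻¹ = y

end Cfsg.Agent.TypeD4Three.LocIface
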