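import Cfsg.Agent.TypeD4Three.LocalStar
import Cfsg.Agent.TypeD4Three.LocIface

/-!
# S1763, case [P] : the instance of helper948's `Loc` (helper951)
-/

set_option autoImplicit false

namespace Cfsg.Agent.TypeD4Three.LocInst

open Cfsg.Agent.Co2Type.Quad Cfsg.Agent.TypeD4Three.Coords Cfsg.Agent.LargeExtra.Base
open Cfsg.Agent.TypeD4Three.Local Cfsg.Agent.TypeD4Three.LocalStar

variable {G : Type*} [Group G] {Q A : Subgroup G} {z a : G} (p : Pair Q z A a)

/-- the support does not depend on the orientation -/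
theorem supp_eq {h : Large Q z} {inp inp' : Input h}
    (hξ : ∀ k, inp'.ξ k = inp.ξ k ∨ inp'.ξ k = (inp.ξ k)⁻¹) (w : h.V) (k : Fin 4) :
    phi inp' w k = 0 ↔ phi inp w k = 0 := by
  rw [← not_iff_not, ← Ne, ← Ne, ← ne_iff, ← ne_iff]
  rcases hξ k with h | h
  · rw [h]
  · rw [h]
    constructor
    · intro h1 h2
      apply h1
      have : (inp.ξ k)⁻¹ w = w := by
        conv_lhs => rw [← h2]
        exact (inp.ξ k).symm_apply_apply w
      exact this
    · intro h1 h2
      apply h1
      have h3 : (inp.ξ k)⁻¹ w = w := h2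
      conv_lhs => rw [← h3]
      exact (inp.ξ k).apply_symm_apply w

/-- the chart of a pair -/
theorem chart [Finite G] {inp : Input p.lz} (hA : Adapted p inp) {A' : Subgroup G} {a' : G}
    (p' : Pair Q z A' a') : Nonempty (LocIface.Chart (frame p hA) p') := by
  obtain ⟨inp', hξ, hA'⟩ := exists_adapted p' inp
  refine ⟨⟨phiE inp', b_eq inp', fun v k => supp_eq hξ v k, fun k => ?_, fun v => ?_, fun f hf => ?_⟩⟩
  · exact congrFun hA'.va k
  · rw [hA'.D]
    constructor
    · rintro ⟨h1, h2⟩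
      exact ⟨fun k => (phi inp' v k).1, (phi inp' v 0).2, h2, fun k => Prod.ext rfl (h1 k)⟩
    · rintro ⟨s, e, h1, h2⟩
      have h3 : phi inp' v = fun k => (s k, e) := funext h2
      rw [h3]
      exact ⟨fun _ => rfl, h1⟩
  · obtain ⟨π, hπ, e, H⟩ := (X_iff_rep p' hA' f).1 hf
    exact ⟨π, e, (V4_iff π).1 hπ, fun v k => H.2 v k⟩

/-- **The local facts.** -/
theorem loc [Finite G] {inp : Input p.lz} (hA : Adapted p inp) : LocIface.Loc (frame p hA) where
  q_wt v := by
    rw [q_eq inp]
    exact Finset.sum_congr rfl fun k _ => qW_eq _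
  full p' k := full_phi p' inp k
  chart p' := chart p hA p'
  trans x y hx hy := by
    obtain ⟨c, -, hc⟩ := conj_full inp x.2 y.2 hx hy
    exact ⟨c, Subgroup.mem_centralizer_singleton_iff.1 c.2, hc⟩

/-- everything, from an `Input` and a pair -/
theorem exists_all [Finite G] (inp : Input p.lz) : ∃ F : StarFrame.Frame p.lz,
    StarEdge.Hyp F ∧ LocIface.Loc F := by
  obtain ⟨inp', -, hA⟩ := exists_adapted p inp
  exact ⟨frame p hA, hyp p hA, loc p hA⟩

end Cfsg.Agent.TypeD4Three.LocInst
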