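import Cfsg.Agent.TypeD4Three.SetupFrame

/-!
# S1763, case [P] : construction of the set-up (helper951)

`exists_presetup` : an `Input` and a pair give a `PreSetup`.
-/

set_option autoImplicit false

namespace Cfsg.Agent.TypeD4Three.SetupOf

open Cfsg.Agent.Co2Type.Quad Cfsg.Agent.TypeD4Three.Coords Cfsg.Agent.TypeD4Three.Local Cfsg.Agent.LargeExtra.Base

variable {G : Type*} [Group G]

/-! ### elements of the four planes -/

section planes

variable {Q : Subgroup G} {z : G} {x I J : Fin 4 → G} (F : Frame Q z x I J)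

/-- `c` is one of `I k`, `J k`, `I k * J k` -/
def Pl (I J : Fin 4 → G) (k : Fin 4) (c : G) : Prop := c = I k ∨ c = J k ∨ c = I k * J k

/-- `I 0 J 0, J 1, J 2, J 3` -/
def KK (I J : Fin 4 → G) (k : Fin 4) : G := if k = 0 then I k * J k else J k

/-- `J 0, I 1 J 1, I 2 J 2, I 3 J 3` -/
def LL (I J : Fin 4 → G) (k : Fin 4) : G := if k = 0 then J k else I k * J k

/-- `(x 0)⁻¹, x 1, x 2, x 3` -/
def rr (x : Fin 4 → G) (k : Fin 4) : G := if k = 0 then (x k)⁻¹ else x k

theorem pl_I (k : Fin 4) : Pl I J k (I k) := Or.inl rfl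

theorem pl_J (k : Fin 4) : Pl I J k (J k) := Or.inr (Or.inl rfl)

theorem pl_KK (k : Fin 4) : Pl I J k (KK I J k) := by
  unfold KK
  split_ifs
  · exact Or.inr (Or.inr rfl)
  · exact pl_J k

theorem pl_LL (k : Fin 4) : Pl I J k (LL I J k) := by
  unfold LL
  split_ifs
  · exact pl_J k
  · exact Or.inr (Or.inr rfl)

include F

theorem pl_mem {k : Fin 4} {c : G} (h : Pl I J k c) : c ∈ Q := by
  rcases h with rfl | rfl | rfl
  · exact F.I_mem k
  · exact F.J_mem k
  · exact Q.mul_mem (F.I_mem k) (F.J_mem k)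

theorem pl_z {k : Fin 4} {c : G} (h : Pl I J k c) : c * z = z * c := F.large.comm_z c (pl_mem F h)

theorem pl_comm {k l : Fin 4} (hkl : k ≠ l) {c d : G} (hc : Pl I J k c) (hd : Pl I J l d) : c * d = d * c := by
  have h1 : Commute (I k) d := by
    have a1 : Commute (I k) (I l) := F.I_I k l hkl
    have a2 : Commute (I k) (J l) := F.I_J k l hkl
    rcases hd with rfl | rfl | rfl
    · exact a1
    · exact a2
    · exact a1.mul_right a2
  have h2 : Commute (J k) d := by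
    have a1 : Commute (J k) (I l) := (F.I_J l k hkl.symm).symm
    have a2 : Commute (J k) (J l) := F.J_J k l hkl
    rcases hd with rfl | rfl | rfl
    · exact a1
    · exact a2
    · exact a1.mul_right a2
  rcases hc with rfl | rfl | rfl
  · exact h1
  · exact h2
  · exact h1.mul_left h2

theorem pl_sq {k : Fin 4} {c : G} (hc : Pl I J k c) : c * c = z := by
  rcases hc with rfl | rfl | rfl
  · exact F.I_sq k
  · exact F.J_sq k
  · have h1 : J k * z = z * J k := F.J_z k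
    calc I k * J k * (I k * J k) = I k * (J k * I k) * J k := by group
      _ = (I k * I k) * (J k * z) * J k := by rw [F.J_I]; group
      _ = z * z * (J k * J k) := by rw [F.I_sq, h1]; group
      _ = z := by rw [F.J_sq, F.z_sq, one_mul]

theorem KK_I (k : Fin 4) : KK I J k * I k = I k * KK I J k * z := by
  unfold KK
  split_ifs
  · rw [mul_assoc (I k) (J k) (I k), F.J_I]; group
  · exact F.J_I k

theorem LL_I (k : Fin 4) : LL I J k * I k = I k * LL I J k * z := by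
  unfold LL
  split_ifs
  · exact F.J_I k
  · rw [mul_assoc (I k) (J k) (I k), F.J_I]; group

theorem I_KK (k : Fin 4) : I k * KK I J k = LL I J k * (if k = 0 then z else 1) := by
  unfold KK LL
  split_ifs with h
  · rw [← mul_assoc, F.I_sq, F.J_z]
  · rw [mul_one]

theorem x_IJ (k : Fin 4) : x k * (I k * J k) * (x k)⁻¹ = I k := by
  have h1 : J k * z = z * J k := F.J_z k
  calc x k * (I k * J k) * (x k)⁻¹ = (x k * I k * (x k)⁻¹) * (x k * J k * (x k)⁻¹) := by group
    _ = J k * I k * J k := by rw [F.x_I, F.x_J]; group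
    _ = I k * (J k * z) * J k := by rw [F.J_I]; group
    _ = I k * z * (J k * J k) := by rw [h1]; group
    _ = I k * (z * z) := by rw [F.J_sq]; group
    _ = I k := by rw [F.z_sq, mul_one]

omit F in
theorem inv_conj {u v w : G} (h : u * v * u⁻¹ = w) : u⁻¹ * w * u⁻¹⁻¹ = v := by rw [← h]; group

theorem rr_I (k : Fin 4) : rr x k * I k * (rr x k)⁻¹ = KK I J k := by
  unfold rr KK
  split_ifs
  · exact inv_conj (x_IJ F k)
  · exact F.x_I k

theorem rr_K (k : Fin 4) : rr x k * KK I J k * (rr x k)⁻¹ = LL I J k := by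
  unfold rr KK LL
  split_ifs
  · exact inv_conj (F.x_J k)
  · exact F.x_J k

theorem rr_L (k : Fin 4) : rr x k * LL I J k * (rr x k)⁻¹ = I k := by
  unfold rr LL
  split_ifs
  · exact inv_conj (F.x_I k)
  · exact x_IJ F k

theorem rr_rr (i j : Fin 4) : rr x i * rr x j = rr x j * rr x i := by
  have h : Commute (x i) (x j) := F.xx i j
  unfold rr
  split_ifs
  · exact h.inv_left.inv_right.eq
  · exact h.inv_left.eq
  · exact h.inv_right.eq
  · exact h.eq

theorem rr_cube (k : Fin 4) : rr x k * rr x k * rr x k = 1 := by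
  unfold rr
  split_ifs
  · have h1 : (x k)⁻¹ * (x k)⁻¹ * (x k)⁻¹ = (x k * x k * x k)⁻¹ := by group
    rw [h1, F.x_cube, inv_one]
  · exact F.x_cube k

theorem rr_z (k : Fin 4) : rr x k * z = z * rr x k := by
  have h : Commute (x k) z := F.x_z k
  unfold rr
  split_ifs
  · exact h.inv_left.eq
  · exact h.eq

theorem rr_pl {k l : Fin 4} (hkl : l ≠ k) {c : G} (hc : Pl I J k c) : rr x l * c = c * rr x l := by
  have h1 : Commute (x l) (I k) := F.x_I' l k hkl
  have h2 : Commute (x l) (J k) := F.x_J' l k hkl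
  have h3 : Commute (x l) c := by
    rcases hc with rfl | rfl | rfl
    · exact h1
    · exact h2
    · exact h1.mul_right h2
  unfold rr
  split_ifs
  · exact h3.inv_left.eq
  · exact h3.eq

/-- `r` -/
theorem r_I (k : Fin 4) : prod4 (rr x) * I k * (prod4 (rr x))⁻¹ = KK I J k := by
  rw [prod4_conj_single (rr_rr F) (fun l hl => rr_pl F hl (pl_I (J := J) k)), rr_I F]

theorem r_K (k : Fin 4) : prod4 (rr x) * KK I J k * (prod4 (rr x))⁻¹ = LL I J k := by
  rw [prod4_conj_single (rr_rr F) (fun l hl => rr_pl F hl (pl_KK k)), rr_K F]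

theorem r_L (k : Fin 4) : prod4 (rr x) * LL I J k * (prod4 (rr x))⁻¹ = I k := by
  rw [prod4_conj_single (rr_rr F) (fun l hl => rr_pl F hl (pl_LL k)), rr_L F]

theorem r_z : prod4 (rr x) * z = z * prod4 (rr x) := prod4_comm (rr_z F)

theorem r_cube : prod4 (rr x) * prod4 (rr x) * prod4 (rr x) = 1 := by
  rw [← prod4_mul, ← prod4_mul]
  · simp only [rr_cube F, prod4, mul_one]
  · intro k l _
    have h : Commute (rr x k) (rr x l) := rr_rr F k l
    exact (h.mul_left h).eq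
  · intro k l _
    exact rr_rr F k l

theorem r_conj_z : prod4 (rr x) * z * (prod4 (rr x))⁻¹ = z := by rw [r_z F]; group

theorem r_a : prod4 (rr x) * (prod4 I * z) * (prod4 (rr x))⁻¹ = prod4 (KK I J) * z := by
  have h1 : prod4 (rr x) * (prod4 I * z) * (prod4 (rr x))⁻¹ =
    (prod4 (rr x) * prod4 I * (prod4 (rr x))⁻¹) * (prod4 (rr x) * z * (prod4 (rr x))⁻¹) := by group
  rw [h1, r_conj_z F, prod4_conj]
  simp only [r_I F]

theorem r_b : prod4 (rr x) * (prod4 (KK I J) * z) * (prod4 (rr x))⁻¹ = prod4 (LL I J) * z := by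
  have h1 : prod4 (rr x) * (prod4 (KK I J) * z) * (prod4 (rr x))⁻¹ =
    (prod4 (rr x) * prod4 (KK I J) * (prod4 (rr x))⁻¹) * (prod4 (rr x) * z * (prod4 (rr x))⁻¹) := by group
  rw [h1, r_conj_z F, prod4_conj]
  simp only [r_K F]

theorem prod4_z {w : Fin 4 → G} (hw : ∀ k, Pl I J k (w k)) : prod4 w * z = z * prod4 w :=
  prod4_comm fun k => pl_z F (hw k)

theorem prod4_const : prod4 (fun _ => z) = 1 := by
  show z * z * z * z = 1
  rw [mul_assoc (z * z), F.z_sq, one_mul]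

theorem ab : prod4 I * z * (prod4 (KK I J) * z) = prod4 (LL I J) * z := by
  have h1 : prod4 I * z * (prod4 (KK I J) * z) = prod4 I * prod4 (KK I J) := by
    calc prod4 I * z * (prod4 (KK I J) * z) = prod4 I * (z * prod4 (KK I J)) * z := by group
      _ = prod4 I * prod4 (KK I J) * (z * z) := by rw [← prod4_z F pl_KK]; group
      _ = _ := by rw [F.z_sq, mul_one]
  rw [h1, ← prod4_mul]
  · simp only [I_KK F]
    rw [prod4_mul]
    · congr 1
      show z * 1 * 1 * 1 = z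
      rw [mul_one, mul_one, mul_one]
    · intro k l _
      show LL I J k * (if l = 0 then z else 1) = (if l = 0 then z else 1) * LL I J k
      split_ifs
      · exact pl_z F (pl_LL k)
      · rw [mul_one, one_mul]
  · intro k l hkl
    exact pl_comm F hkl (pl_I k) (pl_KK l)

theorem bb : prod4 (KK I J) * z * (prod4 (KK I J) * z) = 1 := by
  have h1 : prod4 (KK I J) * z * (prod4 (KK I J) * z) = prod4 (KK I J) * prod4 (KK I J) := by
    calc prod4 (KK I J) * z * (prod4 (KK I J) * z) = prod4 (KK I J) * (z * prod4 (KK I J)) * z := by group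
      _ = prod4 (KK I J) * prod4 (KK I J) * (z * z) := by rw [← prod4_z F pl_KK]; group
      _ = _ := by rw [F.z_sq, mul_one]
  rw [h1, ← prod4_mul]
  · have h2 : ∀ k, KK I J k * KK I J k = z := fun k => pl_sq F (pl_KK k)
    simp only [h2]
    exact prod4_const F
  · intro k l hkl
    exact pl_comm F hkl (pl_KK k) (pl_KK l)

theorem ba : prod4 (KK I J) * prod4 I = prod4 I * prod4 (KK I J) := by
  rw [← prod4_mul, ← prod4_mul]
  · simp only [KK_I F]
    rw [prod4_mul, prod4_const F, mul_one]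
    intro k l _
    have h1 : Commute (I k) z := F.I_z k
    have h2 : Commute (KK I J k) z := pl_z F (pl_KK k)
    exact (h1.mul_left h2).eq
  · intro k l hkl
    exact pl_comm F hkl (pl_I k) (pl_KK l)
  · intro k l hkl
    exact pl_comm F hkl (pl_KK k) (pl_I l)

/-- `b` inverts the `I k` -/
theorem b_I (k : Fin 4) : (prod4 (KK I J) * z) * I k * (prod4 (KK I J) * z)⁻¹ = I k * z := by
  have hKK : ∀ i j, KK I J i * KK I J j = KK I J j * KK I J i := by
    intro i j
    by_cases h : i = j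
    · rw [h]
    · exact pl_comm F h (pl_KK i) (pl_KK j)
  have h1 : (prod4 (KK I J) * z) * I k * (prod4 (KK I J) * z)⁻¹ =
      prod4 (KK I J) * (z * I k) * z⁻¹ * (prod4 (KK I J))⁻¹ := by group
  rw [h1, ← F.I_z]
  have h2 : prod4 (KK I J) * (I k * z) * z⁻¹ * (prod4 (KK I J))⁻¹ = prod4 (KK I J) * I k * (prod4 (KK I J))⁻¹ := by
    group
  rw [h2, prod4_conj_single (k := k) hKK (fun l hl => pl_comm F hl (pl_KK l) (pl_I k)), KK_I F]
  have h3 : KK I J k * z = z * KK I J k := pl_z F (pl_KK k)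
  calc I k * KK I J k * z * (KK I J k)⁻¹ = I k * (KK I J k * z) * (KK I J k)⁻¹ := by group
    _ = _ := by rw [h3]; group

/-- `a` and `LL k` -/
theorem a_LL (k : Fin 4) : (prod4 I * z) * LL I J k * (prod4 I * z)⁻¹ = LL I J k * z := by
  have hII : ∀ i j, I i * I j = I j * I i := by
    intro i j
    by_cases h : i = j
    · rw [h]
    · exact F.I_I i j h
  have h1 : (prod4 I * z) * LL I J k * (prod4 I * z)⁻¹ =
      prod4 I * (z * LL I J k) * z⁻¹ * (prod4 I)⁻¹ := by group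
  rw [h1, ← pl_z F (pl_LL k)]
  have h2 : prod4 I * (LL I J k * z) * z⁻¹ * (prod4 I)⁻¹ = prod4 I * LL I J k * (prod4 I)⁻¹ := by
    group
  rw [h2, prod4_conj_single (k := k) hII (fun l hl => pl_comm F hl (pl_I l) (pl_LL k))]
  have h3 : LL I J k * z = z * LL I J k := pl_z F (pl_LL k)
  have h4 : I k * LL I J k = LL I J k * I k * z := by
    rw [LL_I F, mul_assoc, F.z_sq, mul_one]
  rw [h4]
  have h5 : I k * z = z * I k := F.I_z k
  calc LL I J k * I k * z * (I k)⁻¹ = LL I J k * (I k * z) * (I k)⁻¹ := by group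
    _ = _ := by rw [h5]; group

end planes

/-! ### the data -/

section dat

variable {Q A : Subgroup G} {z a : G}

/-- an adapted frame and an element swapping `(Q, z)` and `(A, a)` -/
structure Dat (p : Pair Q z A a) (x I J : Fin 4 → G) (g : G) : Prop where
  F : Frame Q z x I J
  hA : Adapted p F.input
  ha : a = prod4 I * z
  gz : g * z * g⁻¹ = a
  ga : g * a * g⁻¹ = z
  gA : ∀ u, u ∈ Q ↔ g * u * g⁻¹ ∈ A
  gQ : ∀ u, u ∈ A ↔ g * u * g⁻¹ ∈ Q

theorem mem_map_conj {B C : Subgroup G} {g : G} (h : B = C.map (MulAut.conj g).toMonoidHom) (u : G) :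
    u ∈ C ↔ g * u * g⁻¹ ∈ B := by
  rw [h]
  constructor
  · intro hu
    exact ⟨u, hu, rfl⟩
  · rintro ⟨v, hv, hvu⟩
    have h1 : g * v * g⁻¹ = g * u * g⁻¹ := hvu
    have h2 : v = u := mul_left_cancel (mul_right_cancel h1)
    rw [← h2]; exact hv

theorem exists_dat [Finite G] {h : Large Q z} (inp : Input h) (p : Pair Q z A a) :
    ∃ x I J g, Dat p x I J g := by
  obtain ⟨g, g1, g2, g3, g4⟩ := p.isConj
  obtain ⟨x, I, J, F, hA⟩ := exists_frame_adapted inp p
  -- the class of `a`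
  have h1 : p.lz.pr ⟨a, p.a_mem⟩ = p.lz.pr ⟨prod4 I, prod4_mem F.I_mem⟩ := by
    have h2 := Inv.pr_prod4 F F.I_mem
    have h3 := hA.sum_u p
    exact h3.symm.trans h2.symm
  rcases p.lz.pr_eq_pr.1 h1 with h2 | h2
  · -- change of sign
    obtain ⟨q, hq, hqJ, hq1, hq2⟩ := exists_sgn F (fun k => k = 0)
    obtain ⟨-, hA'⟩ := adapted_conjQ F hA hq hqJ
    refine ⟨_, _, _, g, ⟨conjQ F hq hqJ, hA', ?_, g1, g2, mem_map_conj g3, mem_map_conj g4⟩⟩
    have h3 : a = prod4 I := h2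
    rw [h3]
    show I 0 * I 1 * I 2 * I 3 = q * I 0 * q⁻¹ * (q * I 1 * q⁻¹) * (q * I 2 * q⁻¹) * (q * I 3 * q⁻¹) * z
    rw [hq1 0 rfl, hq2 1 (by decide), hq2 2 (by decide), hq2 3 (by decide)]
    have c1 : Commute z (I 1 * I 2 * I 3) := by
      have e1 : Commute z (I 1) := (F.I_z 1).symm
      have e2 : Commute z (I 2) := (F.I_z 2).symm
      have e3 : Commute z (I 3) := (F.I_z 3).symm
      exact (e1.mul_right e2).mul_right e3
    calc I 0 * I 1 * I 2 * I 3 = I 0 * (I 1 * I 2 * I 3) * (z * z) := by rw [F.z_sq]; group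
      _ = I 0 * ((I 1 * I 2 * I 3) * z) * z := by group
      _ = I 0 * (z * (I 1 * I 2 * I 3)) * z := by rw [c1.eq]
      _ = _ := by group
  · exact ⟨x, I, J, g, ⟨F, hA, h2, g1, g2, mem_map_conj g3, mem_map_conj g4⟩⟩

/-- `s` is an element of `D` not conjugate to `z` -/
structure Wt (z : G) (Q A : Subgroup G) (s : G) : Prop where
  mQ : s ∈ Q
  mA : s ∈ A
  nc : ∀ g', g' * z * g'⁻¹ ≠ s
  ne : s ≠ 1

theorem wt_check : ∀ c : Fin 4 → W, (∀ k, (c k).2 = (c 0).2) → ∑ k, (c k).1 = 0 → c ≠ 0 → (∃ k, c k = 0) →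
    ∃ m n : Fin 4, m ≠ n ∧ c = fun l => if l = m ∨ l = n then (1, 0) else 0 := by
  decide +kernel

theorem other : ∀ m n : Fin 4, ∃ q, q ≠ m ∧ q ≠ n := by decide

variable {p : Pair Q z A a} {x I J : Fin 4 → G} {g : G}

theorem exists_wt [Finite G] (F : Frame Q z x I J) (hA : Adapted p F.input) {s : G} (hs : Wt z Q A s) :
    ∃ m n, m ≠ n ∧ (s = I m * I n ∨ s = I m * I n * z) := by
  have h1 : p.lz.pr ⟨s, hs.mQ⟩ ∈ p.D := (p.pr_mem_D _).2 hs.mA
  obtain ⟨h2, h3⟩ := (hA.D _).1 h1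
  have hsz : s ≠ z := fun h => hs.nc 1 (by rw [h]; group)
  have h4 : phi F.input (p.lz.pr ⟨s, hs.mQ⟩) ≠ 0 := by
    intro h
    have h5 : p.lz.pr ⟨s, hs.mQ⟩ = 0 := phi_inj F.input (h.trans (phi_zero F.input).symm)
    rcases p.lz.pr_eq_zero.1 h5 with h6 | h6
    · exact hs.ne h6
    · exact hsz h6
  have h5 : ∃ k, phi F.input (p.lz.pr ⟨s, hs.mQ⟩) k = 0 := by
    by_contra hcon
    push Not at hcon
    obtain ⟨g', hg'⟩ := conj_of_full p F.input hs.mQ hcon
    exact hs.nc g' hg'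
  obtain ⟨m, n, hmn, h6⟩ := wt_check _ h2 h3 h4 h5
  refine ⟨m, n, hmn, ?_⟩
  have h7 : p.lz.pr ⟨s, hs.mQ⟩ = p.lz.pr ⟨I m * I n, Q.mul_mem (F.I_mem m) (F.I_mem n)⟩ := by
    have h8 : p.lz.pr ⟨I m * I n, Q.mul_mem (F.I_mem m) (F.I_mem n)⟩ = F.input.u m + F.input.u n :=
      p.lz.pr_mul ⟨I m, F.I_mem m⟩ ⟨I n, F.I_mem n⟩
    apply phi_inj (F.input : Input p.lz)
    rw [h8, h6]
    funext l
    rw [phi_pair p F.input hmn]
  exact p.lz.pr_eq_pr.1 h7

theorem wt_of [Finite G] (F : Frame Q z x I J) (hA : Adapted p F.input) {s : G} {m n : Fin 4} (hmn : m ≠ n)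
    (hs : s = I m * I n ∨ s = I m * I n * z) : Wt z Q A s := by
  have hsQ : s ∈ Q := by
    rcases hs with rfl | rfl
    · exact Q.mul_mem (F.I_mem m) (F.I_mem n)
    · exact Q.mul_mem (Q.mul_mem (F.I_mem m) (F.I_mem n)) F.large.z_mem
  have hpr : p.lz.pr ⟨s, hsQ⟩ = F.input.u m + F.input.u n := by
    have h8 : p.lz.pr ⟨I m * I n, Q.mul_mem (F.I_mem m) (F.I_mem n)⟩ = F.input.u m + F.input.u n :=
      p.lz.pr_mul ⟨I m, F.I_mem m⟩ ⟨I n, F.I_mem n⟩
    rw [← h8]
    exact p.lz.pr_eq_pr.2 hs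
  have hphi : ∀ l, phi F.input (p.lz.pr ⟨s, hsQ⟩) l = if l = m ∨ l = n then (1, 0) else 0 := by
    intro l; rw [hpr]; exact phi_pair p F.input hmn l
  have hne : p.lz.pr ⟨s, hsQ⟩ ≠ 0 := by
    intro h
    have h1 := hphi m
    rw [h, phi_zero, if_pos (Or.inl rfl)] at h1
    have h2 : (0 : W) = (1, 0) := h1
    exact absurd h2 (by decide)
  refine ⟨hsQ, ?_, ?_, fun h => hne (p.lz.pr_eq_zero.2 (Or.inl h))⟩
  · have h1 : p.lz.pr ⟨s, hsQ⟩ ∈ p.D := by
      rw [hA.D]
      constructor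
      · intro k
        rw [hphi, hphi]
        split_ifs <;> rfl
      · simp only [hphi]
        exact pair_sum m n hmn
    exact (p.pr_mem_D _).1 h1
  · intro g' hg'
    obtain ⟨q, hq1, hq2⟩ := other m n
    have hsz : s ≠ z := fun h => hne (p.lz.pr_eq_zero.2 (Or.inr h))
    apply full_of_conj (h := p.lz) F.input hsQ hg' hsz q
    rw [hphi, if_neg (by push Not; exact ⟨hq1, hq2⟩)]

theorem Wt.conj (D : Dat p x I J g) {s : G} (hs : Wt z Q A s) : Wt z Q A (g * s * g⁻¹) where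
  mQ := (D.gQ s).1 hs.mA
  mA := (D.gA s).1 hs.mQ
  nc g' h := hs.nc (g⁻¹ * g') (by rw [mul_inv_rev, inv_inv]; calc g⁻¹ * g' * z * (g'⁻¹ * g) = g⁻¹ * (g' * z * g'⁻¹) * g := by group
    _ = s := by rw [h]; group)
  ne h := hs.ne (by calc s = g⁻¹ * (g * s * g⁻¹) * g := by group
    _ = 1 := by rw [h]; group)

theorem Wt.conj_inv (D : Dat p x I J g) {s : G} (hs : Wt z Q A s) : Wt z Q A (g⁻¹ * s * g) where
  mQ := (D.gA _).2 (by have : g * (g⁻¹ * s * g) * g⁻¹ = s := by group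
                       rw [this]; exact hs.mA)
  mA := (D.gQ _).2 (by have : g * (g⁻¹ * s * g) * g⁻¹ = s := by group
                       rw [this]; exact hs.mQ)
  nc g' h := hs.nc (g * g') (by rw [mul_inv_rev]; calc g * g' * z * (g'⁻¹ * g⁻¹) = g * (g' * z * g'⁻¹) * g⁻¹ := by group
    _ = s := by rw [h]; group)
  ne h := hs.ne (by calc s = g * (g⁻¹ * s * g) * g⁻¹ := by group
    _ = 1 := by rw [h]; group)

/-! ### the elements `y` and `ρ` -/

/-- `y = g b g⁻¹` -/
def yy (z : G) (I J : Fin 4 → G) (g : G) : G := g * (prod4 (KK I J) * z) * g⁻¹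

/-- `ρ = g r g⁻¹` -/
def rh (x : Fin 4 → G) (g : G) : G := g * prod4 (rr x) * g⁻¹

section core

variable (D : Dat p x I J g)

include D

theorem g_inv_z : g⁻¹ * z * g = a := by
  have := D.ga
  calc g⁻¹ * z * g = g⁻¹ * (g * a * g⁻¹) * g := by rw [D.ga]
    _ = a := by group

theorem b_mem : prod4 (KK I J) * z ∈ Q :=
  Q.mul_mem (prod4_mem fun k => pl_mem D.F (pl_KK k)) D.F.large.z_mem

theorem y_mem : yy z I J g ∈ A := (D.gA _).1 (b_mem D)

theorem y_sq : yy z I J g * yy z I J g = 1 := by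
  unfold yy
  calc g * (prod4 (KK I J) * z) * g⁻¹ * (g * (prod4 (KK I J) * z) * g⁻¹) =
      g * (prod4 (KK I J) * z * (prod4 (KK I J) * z)) * g⁻¹ := by group
    _ = 1 := by rw [bb D.F]; group

theorem ba' : prod4 (KK I J) * z * a = a * (prod4 (KK I J) * z) := by
  rw [D.ha]
  have h1 := prod4_z D.F (pl_I (I := I) (J := J))
  have h2 := prod4_z D.F (pl_KK (I := I) (J := J))
  calc prod4 (KK I J) * z * (prod4 I * z) = prod4 (KK I J) * (z * prod4 I) * z := by group
    _ = prod4 (KK I J) * prod4 I * (z * z) := by rw [← h1]; group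
    _ = prod4 I * prod4 (KK I J) * (z * z) := by rw [ba D.F]
    _ = prod4 I * (prod4 (KK I J) * z) * z := by group
    _ = prod4 I * (z * prod4 (KK I J)) * z := by rw [h2]
    _ = _ := by group

theorem y_z : yy z I J g * z = z * yy z I J g := by
  unfold yy
  calc g * (prod4 (KK I J) * z) * g⁻¹ * z = g * (prod4 (KK I J) * z * (g⁻¹ * z * g)) * g⁻¹ := by group
    _ = g * (g⁻¹ * z * g * (prod4 (KK I J) * z)) * g⁻¹ := by rw [g_inv_z D, ba' D]
    _ = _ := by group

theorem rho_z : rh x g * z * (rh x g)⁻¹ = yy z I J g := by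
  unfold rh yy
  calc g * prod4 (rr x) * g⁻¹ * z * (g * prod4 (rr x) * g⁻¹)⁻¹ =
      g * (prod4 (rr x) * (g⁻¹ * z * g) * (prod4 (rr x))⁻¹) * g⁻¹ := by group
    _ = _ := by rw [g_inv_z D, D.ha, r_a D.F]

theorem rho_y : rh x g * yy z I J g * (rh x g)⁻¹ = z * yy z I J g := by
  unfold rh yy
  calc g * prod4 (rr x) * g⁻¹ * (g * (prod4 (KK I J) * z) * g⁻¹) * (g * prod4 (rr x) * g⁻¹)⁻¹ =
      g * (prod4 (rr x) * (prod4 (KK I J) * z) * (prod4 (rr x))⁻¹) * g⁻¹ := by group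
    _ = g * (prod4 I * z * (prod4 (KK I J) * z)) * g⁻¹ := by rw [r_b D.F, ab D.F]
    _ = g * (g⁻¹ * z * g * (prod4 (KK I J) * z)) * g⁻¹ := by rw [g_inv_z D, D.ha]
    _ = _ := by group

omit D in
theorem rho_cube (F : Frame Q z x I J) : rh x g * rh x g * rh x g = 1 := by
  unfold rh
  calc g * prod4 (rr x) * g⁻¹ * (g * prod4 (rr x) * g⁻¹) * (g * prod4 (rr x) * g⁻¹) =
      g * (prod4 (rr x) * prod4 (rr x) * prod4 (rr x)) * g⁻¹ := by group
    _ = 1 := by rw [r_cube F]; group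

omit D in
theorem b_pair (F : Frame Q z x I J) (m n : Fin 4) :
    (prod4 (KK I J) * z) * (I m * I n) * (prod4 (KK I J) * z)⁻¹ = I m * I n := by
  calc (prod4 (KK I J) * z) * (I m * I n) * (prod4 (KK I J) * z)⁻¹ =
      ((prod4 (KK I J) * z) * I m * (prod4 (KK I J) * z)⁻¹) *
      ((prod4 (KK I J) * z) * I n * (prod4 (KK I J) * z)⁻¹) := by group
    _ = I m * (z * I n) * z := by rw [b_I F, b_I F]; group
    _ = I m * I n * (z * z) := by rw [← F.I_z]; group
    _ = _ := by rw [F.z_sq, mul_one]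

theorem y_wt [Finite G] {s : G} (hs : Wt z Q A s) : yy z I J g * s * (yy z I J g)⁻¹ = s := by
  obtain ⟨m, n, hmn, h1⟩ := exists_wt D.F D.hA (hs.conj_inv D)
  have h2 : (prod4 (KK I J) * z) * (g⁻¹ * s * g) * (prod4 (KK I J) * z)⁻¹ = g⁻¹ * s * g := by
    have h3 := b_pair D.F m n
    rcases h1 with h1 | h1 <;> rw [h1]
    · exact h3
    · have h4 : (prod4 (KK I J) * z) * z = z * (prod4 (KK I J) * z) := D.F.large.comm_z _ (b_mem D)
      calc prod4 (KK I J) * z * (I m * I n * z) * (prod4 (KK I J) * z)⁻¹ =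
          (prod4 (KK I J) * z * (I m * I n) * (prod4 (KK I J) * z)⁻¹) *
          (prod4 (KK I J) * z * z * (prod4 (KK I J) * z)⁻¹) := by group
        _ = _ := by rw [h3, h4]; group
  unfold yy
  calc g * (prod4 (KK I J) * z) * g⁻¹ * s * (g * (prod4 (KK I J) * z) * g⁻¹)⁻¹ =
      g * (prod4 (KK I J) * z * (g⁻¹ * s * g) * (prod4 (KK I J) * z)⁻¹) * g⁻¹ := by group
    _ = s := by rw [h2]; group

omit D in
theorem perm_check1 : ∀ π : Equiv.Perm (Fin 4), (∀ k l, k ≠ l → π k = k ∨ π l = k) → π = 1 := by decide +kernel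

omit D in
theorem perm_check2 : (∀ k, ((if k = (0 : Fin 4) then ((1, 1) : W) else (0, 1))).2 =
    (if (0 : Fin 4) = 0 then ((1, 1) : W) else (0, 1)).2) ∧
    ∑ k : Fin 4, (if k = 0 then ((1, 1) : W) else (0, 1)).1 ≠ 0 := by decide

theorem phi_b (k : Fin 4) : phi D.F.input (p.lz.pr ⟨prod4 (KK I J) * z, b_mem D⟩) k =
    if k = 0 then (1, 1) else (0, 1) := by
  have h1 : p.lz.pr ⟨prod4 (KK I J) * z, b_mem D⟩ =
      p.lz.pr ⟨prod4 (KK I J), prod4_mem fun k => pl_mem D.F (pl_KK k)⟩ := p.lz.pr_eq_pr.2 (Or.inr rfl)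
  have h2 := Inv.pr_prod4 D.F (w := KK I J) (fun k => pl_mem D.F (pl_KK k))
  have h3 : ∀ k, D.F.large.pr ⟨KK I J k, pl_mem D.F (pl_KK k)⟩ =
      D.F.input.v k + (if k = 0 then D.F.input.u k else 0) := by
    intro k
    by_cases hk : k = 0
    · have e1 : D.F.large.pr ⟨KK I J k, pl_mem D.F (pl_KK k)⟩ =
        D.F.large.pr ⟨I k * J k, Q.mul_mem (D.F.I_mem k) (D.F.J_mem k)⟩ := by
        congr 2
        unfold KK
        rw [if_pos hk]
      have e2 : D.F.large.pr ⟨I k * J k, Q.mul_mem (D.F.I_mem k) (D.F.J_mem k)⟩ = D.F.input.u k + D.F.input.v k :=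
        D.F.large.pr_mul ⟨I k, D.F.I_mem k⟩ ⟨J k, D.F.J_mem k⟩
      rw [e1, e2, if_pos hk, add_comm]
    · have e1 : D.F.large.pr ⟨KK I J k, pl_mem D.F (pl_KK k)⟩ = D.F.input.v k := by
        show _ = D.F.large.pr ⟨J k, D.F.J_mem k⟩
        congr 2
        unfold KK
        rw [if_neg hk]
      rw [e1, if_neg hk, add_zero]
  rw [h1, h2, phi_sum, Finset.sum_apply, Finset.sum_eq_single k]
  · rw [h3, phi_add, Pi.add_apply, phi_v, Pi.single_eq_same]
    by_cases hk : k = 0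
    · rw [if_pos hk, if_pos hk, phi_u, Pi.single_eq_same]; decide
    · rw [if_neg hk, if_neg hk, phi_zero]; rfl
  · intro l _ hl
    rw [h3, phi_add, Pi.add_apply, phi_v, Pi.single_eq_of_ne (Ne.symm hl)]
    split_ifs
    · rw [phi_u, Pi.single_eq_of_ne (Ne.symm hl), add_zero]
    · rw [phi_zero]; rfl
  · intro hk
    exact absurd (Finset.mem_univ k) hk

/-- the action of `y` -/
theorem act_y [Finite G] (hyC : yy z I J g ∈ Subgroup.centralizer ({z} : Set G)) (k : Fin 4) :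
    p.lz.act ⟨yy z I J g, hyC⟩ (D.F.input.u k) = D.F.input.u k ∧
    p.lz.act ⟨yy z I J g, hyC⟩ (D.F.input.v k) = D.F.input.v k + D.F.input.u k := by
  have hfin := D.F.finiteQ
  have hX : p.lz.act ⟨yy z I J g, hyC⟩ ∈ p.X := p.mem_X.2 ⟨_, y_mem D, rfl⟩
  obtain ⟨π, hπ, e, H⟩ := (X_iff p D.hA _).1 hX
  have h1 : ∀ k l, k ≠ l → π k = k ∨ π l = k := by
    intro k l hkl
    have hw := wt_of D.F D.hA (s := I k * I l) hkl (Or.inl rfl)
    have h2 := y_wt D hw
    have h3 : p.lz.act ⟨yy z I J g, hyC⟩ (p.lz.pr ⟨I k * I l, hw.mQ⟩) = p.lz.pr ⟨I k * I l, hw.mQ⟩ := by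
      rw [p.lz.act_pr]
      exact congrArg _ (Subtype.ext h2)
    have h4 : p.lz.pr ⟨I k * I l, hw.mQ⟩ = D.F.input.u k + D.F.input.u l :=
      p.lz.pr_mul ⟨I k, D.F.I_mem k⟩ ⟨I l, D.F.I_mem l⟩
    rw [h4, map_add, (H k).1, (H l).1] at h3
    have h5 := congrFun (congrArg (phi D.F.input) h3) k
    rw [phi_pair p D.F.input hkl, if_pos (Or.inl rfl)] at h5
    by_contra hcon
    push Not at hcon
    rw [phi_add, phi_u, phi_u, Pi.add_apply, Pi.single_eq_of_ne hcon.1.symm, Pi.single_eq_of_ne hcon.2.symm] at h5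
    exact absurd h5 (by decide)
  have h2 : π = 1 := perm_check1 π h1
  subst h2
  have he : e = 1 := by
    by_contra he
    have he0 : e = 0 := by
      have : ∀ e : ZMod 2, e ≠ 1 → e = 0 := by decide
      exact this e he
    have h3 : p.lz.act ⟨yy z I J g, hyC⟩ = 1 := by
      apply D.F.input.ext_equiv
      · intro k
        have := (H k).1
        rw [Equiv.Perm.one_apply] at this
        exact this
      · intro k
        have := (H k).2
        rw [Equiv.Perm.one_apply, he0, zero_smul, add_zero] at this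
        exact this
    have h4 : yy z I J g ∈ Q := p.lz.mem_of_act ⟨_, hyC⟩ h3
    have h5 : prod4 (KK I J) * z ∈ A := (D.gQ _).2 h4
    have h6 : p.lz.pr ⟨prod4 (KK I J) * z, b_mem D⟩ ∈ p.D := (p.pr_mem_D _).2 h5
    have h7 := ((D.hA.D _).1 h6).2
    simp only [phi_b D] at h7
    exact perm_check2.2 h7
  have h3 := H k
  rw [Equiv.Perm.one_apply, he, one_smul] at h3
  exact h3

/-- the action of `ρ⁻¹ s ρ` -/
theorem act_s [Finite G] {s : G} (hs : Wt z Q A s) :
    ∃ hz : ((rh x g)⁻¹ * s * rh x g) * z = z * ((rh x g)⁻¹ * s * rh x g), ∃ π ∈ V4, π ≠ 1 ∧ ∃ e : ZMod 2,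
      Rep D.F.input (p.lz.act ⟨_, Subgroup.mem_centralizer_singleton_iff.2 hz⟩) π (fun _ => TP e) := by
  obtain ⟨m, n, hmn, h1⟩ := exists_wt D.F D.hA (hs.conj_inv D)
  -- `s2 = r⁻¹ g⁻¹ s g r`
  have hL : ∀ k, (prod4 (rr x))⁻¹ * I k * prod4 (rr x) = LL I J k := by
    intro k
    rw [← r_L D.F k]; group
  have hrz : (prod4 (rr x))⁻¹ * z * prod4 (rr x) = z := by
    have := r_conj_z D.F
    calc (prod4 (rr x))⁻¹ * z * prod4 (rr x) = (prod4 (rr x))⁻¹ * (prod4 (rr x) * z * (prod4 (rr x))⁻¹) * prod4 (rr x) := by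
          rw [this]
      _ = z := by group
  have hs2 : (prod4 (rr x))⁻¹ * (g⁻¹ * s * g) * prod4 (rr x) = LL I J m * LL I J n ∨
      (prod4 (rr x))⁻¹ * (g⁻¹ * s * g) * prod4 (rr x) = LL I J m * LL I J n * z := by
    rcases h1 with h1 | h1
    · left
      rw [h1, ← hL m, ← hL n]; group
    · right
      rw [h1, ← hL m, ← hL n]
      conv_rhs => rw [← hrz]
      group
  generalize hs2d : (prod4 (rr x))⁻¹ * (g⁻¹ * s * g) * prod4 (rr x) = s2 at hs2
  have hs' : (rh x g)⁻¹ * s * rh x g = g * s2 * g⁻¹ := by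
    rw [← hs2d]; unfold rh; group
  have hs2Q : s2 ∈ Q := by
    have h3 : LL I J m * LL I J n ∈ Q := Q.mul_mem (pl_mem D.F (pl_LL m)) (pl_mem D.F (pl_LL n))
    rcases hs2 with h2 | h2 <;> rw [h2]
    · exact h3
    · exact Q.mul_mem h3 D.F.large.z_mem
  -- conjugation by `s2`: modulo `z` it is conjugation by `LL m * LL n`
  have hconj : ∀ w, w ∈ Q ∨ w = a → s2 * w * s2⁻¹ = LL I J m * LL I J n * w * (LL I J m * LL I J n)⁻¹ := by
    intro w hw
    have hwz : w * z = z * w := by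
      rcases hw with hw | rfl
      · exact D.F.large.comm_z w hw
      · exact p.lz.comm_z w p.a_mem
    rcases hs2 with h2 | h2 <;> rw [h2]
    calc LL I J m * LL I J n * z * w * (LL I J m * LL I J n * z)⁻¹ =
        LL I J m * LL I J n * (z * w) * z⁻¹ * (LL I J m * LL I J n)⁻¹ := by group
      _ = _ := by rw [← hwz]; group
  have hLa : ∀ k, LL I J k * a = a * LL I J k * z := by
    intro k
    have h3 := a_LL D.F k
    rw [← D.ha] at h3
    have h4 : a * LL I J k = LL I J k * z * a := by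
      rw [← h3]; group
    have h5 : z * a = a * z := (p.lz.comm_z a p.a_mem).symm
    have h6 : LL I J k * z = z * LL I J k := pl_z D.F (pl_LL k)
    rw [h4]
    calc LL I J k * a = LL I J k * (z * z) * a := by rw [D.F.z_sq, mul_one]
      _ = LL I J k * z * (z * a) := by group
      _ = LL I J k * z * (a * z) := by rw [h5]
      _ = _ := by group
  have hs2a : s2 * a * s2⁻¹ = a := by
    rw [hconj a (Or.inr rfl)]
    have h3 : LL I J m * LL I J n * a = a * (LL I J m * LL I J n) := by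
      have h6 : LL I J n * z = z * LL I J n := pl_z D.F (pl_LL n)
      calc LL I J m * LL I J n * a = LL I J m * (LL I J n * a) := by group
        _ = LL I J m * a * (LL I J n * z) := by rw [hLa]; group
        _ = a * LL I J m * (z * z) * LL I J n := by rw [hLa, h6]; group
        _ = _ := by rw [D.F.z_sq]; group
    rw [h3]; group
  have hz : ((rh x g)⁻¹ * s * rh x g) * z = z * ((rh x g)⁻¹ * s * rh x g) := by
    rw [hs']
    have h3 : s2 * a = a * s2 := by
      calc s2 * a = (s2 * a * s2⁻¹) * s2 := by group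
        _ = a * s2 := by rw [hs2a]
    calc g * s2 * g⁻¹ * z = g * (s2 * (g⁻¹ * z * g)) * g⁻¹ := by group
      _ = g * (g⁻¹ * z * g * s2) * g⁻¹ := by rw [g_inv_z D, h3]
      _ = _ := by group
  have hzC : (rh x g)⁻¹ * s * rh x g ∈ Subgroup.centralizer ({z} : Set G) :=
    Subgroup.mem_centralizer_singleton_iff.2 hz
  have hX : p.lz.act ⟨_, hzC⟩ ∈ p.X := by
    refine p.mem_X.2 ⟨_, ?_, rfl⟩
    show (rh x g)⁻¹ * s * rh x g ∈ A
    rw [hs']
    exact (D.gA _).1 hs2Q
  obtain ⟨π, hπ, e, H⟩ := (X_iff_rep p D.hA _).1 hX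
  refine ⟨hz, π, hπ, ?_, e, H⟩
  rintro rfl
  -- a pair which is moved
  obtain ⟨q, hq1, hq2⟩ := other m n
  have hw := (wt_of D.F D.hA (s := I m * I q) (Ne.symm hq1) (Or.inl rfl)).conj D
  have h3 : s2 * (I m * I q) * s2⁻¹ = I m * I q * z := by
    rw [hconj _ (Or.inl (Q.mul_mem (D.F.I_mem m) (D.F.I_mem q)))]
    have c1 : Commute (LL I J n) (I m) := pl_comm D.F hmn.symm (pl_LL n) (pl_I m)
    have c2 : Commute (LL I J n) (I q) := pl_comm D.F (Ne.symm hq2) (pl_LL n) (pl_I q)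
    have c3 : Commute (LL I J m) (I q) := pl_comm D.F (Ne.symm hq1) (pl_LL m) (pl_I q)
    have c4 : Commute z (I q) := (D.F.I_z q).symm
    have c5 : Commute z (LL I J m) := (pl_z D.F (pl_LL m)).symm
    calc LL I J m * LL I J n * (I m * I q) * (LL I J m * LL I J n)⁻¹ =
        LL I J m * (LL I J n * (I m * I q)) * (LL I J n)⁻¹ * (LL I J m)⁻¹ := by group
      _ = (LL I J m * I m) * I q * (LL I J m)⁻¹ := by rw [(c1.mul_right c2).eq]; group
      _ = I m * LL I J m * (z * I q) * (LL I J m)⁻¹ := by rw [LL_I D.F]; group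
      _ = I m * (LL I J m * I q) * z * (LL I J m)⁻¹ := by rw [c4.eq]; group
      _ = I m * I q * (LL I J m * z) * (LL I J m)⁻¹ := by rw [c3.eq]; group
      _ = _ := by rw [← c5.eq]; group
  have h4 : ((rh x g)⁻¹ * s * rh x g) * (g * (I m * I q) * g⁻¹) * ((rh x g)⁻¹ * s * rh x g)⁻¹ =
      (g * (I m * I q) * g⁻¹) * a := by
    rw [hs', ← D.gz]
    calc g * s2 * g⁻¹ * (g * (I m * I q) * g⁻¹) * (g * s2 * g⁻¹)⁻¹ = g * (s2 * (I m * I q) * s2⁻¹) * g⁻¹ := by group
      _ = _ := by rw [h3]; group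
  obtain ⟨i, j, hij, h5⟩ := exists_wt D.F D.hA hw
  have h6 : p.lz.act ⟨_, hzC⟩ (p.lz.pr ⟨g * (I m * I q) * g⁻¹, hw.mQ⟩) =
      p.lz.pr ⟨g * (I m * I q) * g⁻¹, hw.mQ⟩ + p.va := by
    rw [p.lz.act_pr]
    have h7 : p.lz.pr ⟨g * (I m * I q) * g⁻¹, hw.mQ⟩ + p.va =
        p.lz.pr ⟨(g * (I m * I q) * g⁻¹) * a, Q.mul_mem hw.mQ p.a_mem⟩ := (p.lz.pr_mul ⟨_, hw.mQ⟩ ⟨_, p.a_mem⟩).symm
    rw [h7]
    exact congrArg _ (Subtype.ext h4)
  have h7 : p.lz.pr ⟨g * (I m * I q) * g⁻¹, hw.mQ⟩ = D.F.input.u i + D.F.input.u j := by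
    have h8 : p.lz.pr ⟨I i * I j, Q.mul_mem (D.F.I_mem i) (D.F.I_mem j)⟩ = D.F.input.u i + D.F.input.u j :=
      p.lz.pr_mul ⟨I i, D.F.I_mem i⟩ ⟨I j, D.F.I_mem j⟩
    rw [← h8]
    exact p.lz.pr_eq_pr.2 h5
  rw [h7] at h6
  have h8 : ∀ l, phi D.F.input (p.lz.act ⟨_, hzC⟩ (D.F.input.u i + D.F.input.u j)) l =
      phi D.F.input (D.F.input.u i + D.F.input.u j) l := by
    intro l
    have h9 := H.2 (D.F.input.u i + D.F.input.u j) l
    rw [Equiv.Perm.one_apply] at h9
    rw [h9, phi_pair p D.F.input hij]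
    have key : ∀ e : ZMod 2, TP e (1, 0) = (1, 0) ∧ TP e 0 = 0 := by decide
    split_ifs
    · exact (key e).1
    · exact (key e).2
  have h9 : p.va = 0 := by
    have h10 : p.lz.act ⟨_, hzC⟩ (D.F.input.u i + D.F.input.u j) = D.F.input.u i + D.F.input.u j :=
      phi_inj D.F.input (funext h8)
    rw [h10] at h6
    exact left_eq_add.1 h6
  exact p.va_ne h9

end core

/-- an involution with the right action on `Q` inverts the `x k` -/
theorem inv_of (F : Frame Q z x I J) {y : G} (hy2 : y * y = 1) (hyz : y * z = z * y)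
    (hI : ∀ k, y * I k * y⁻¹ = I k * z) (hJ : ∀ k, y * J k * y⁻¹ = I k * J k * z) : Inv z x I J y := by
  refine ⟨hy2, hyz, fun k => ?_, hI, hJ⟩
  have hIz : ∀ k, Commute (I k) z := fun k => F.I_z k
  have hJz : ∀ k, Commute (J k) z := fun k => F.J_z k
  have hxz : ∀ k, Commute (x k) z := fun k => F.x_z k
  -- `X = y x y⁻¹`
  have hXz : Commute (y * x k * y⁻¹) z := by
    have h1 : Commute y z := hyz
    exact (h1.mul_left (hxz k)).mul_left h1.inv_left
  have zz : z * z = 1 := F.z_sq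
  -- the action of `X`
  have c1 : ∀ l, l ≠ k → Commute (y * x k * y⁻¹) (I l) := by
    intro l hl
    have h1 : Commute (x k) (I l) := F.x_I' k l hl.symm
    have h2 : Commute (y * x k * y⁻¹) (y * I l * y⁻¹) := by
      show y * x k * y⁻¹ * (y * I l * y⁻¹) = y * I l * y⁻¹ * (y * x k * y⁻¹)
      calc y * x k * y⁻¹ * (y * I l * y⁻¹) = y * (x k * I l) * y⁻¹ := by group
        _ = y * (I l * x k) * y⁻¹ := by rw [h1.eq]
        _ = _ := by group
    rw [hI] at h2
    have h3 : I l = I l * z * z := by rw [mul_assoc, zz, mul_one]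
    rw [h3]
    exact h2.mul_right hXz
  have c2 : ∀ l, l ≠ k → Commute (y * x k * y⁻¹) (J l) := by
    intro l hl
    have h1 : Commute (x k) (J l) := F.x_J' k l hl.symm
    have h2 : Commute (y * x k * y⁻¹) (y * J l * y⁻¹) := by
      show y * x k * y⁻¹ * (y * J l * y⁻¹) = y * J l * y⁻¹ * (y * x k * y⁻¹)
      calc y * x k * y⁻¹ * (y * J l * y⁻¹) = y * (x k * J l) * y⁻¹ := by group
        _ = y * (J l * x k) * y⁻¹ := by rw [h1.eq]
        _ = _ := by group
    rw [hJ] at h2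
    have h3 : J l = (I l)⁻¹ * (I l * J l * z) * z := by
      calc J l = J l * (z * z) := by rw [zz, mul_one]
        _ = _ := by group
    rw [h3]
    exact ((c1 l hl).inv_right.mul_right h2).mul_right hXz
  have d1 : (y * x k * y⁻¹) * I k * (y * x k * y⁻¹)⁻¹ = I k * J k := by
    have h1 : (y * x k * y⁻¹) * (y * I k * y⁻¹) * (y * x k * y⁻¹)⁻¹ = y * J k * y⁻¹ := by
      calc (y * x k * y⁻¹) * (y * I k * y⁻¹) * (y * x k * y⁻¹)⁻¹ = y * (x k * I k * (x k)⁻¹) * y⁻¹ := by group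
        _ = _ := by rw [F.x_I]
    rw [hI, hJ] at h1
    have h2 : (y * x k * y⁻¹) * (I k * z) * (y * x k * y⁻¹)⁻¹ = (y * x k * y⁻¹) * I k * (y * x k * y⁻¹)⁻¹ * z := by
      calc (y * x k * y⁻¹) * (I k * z) * (y * x k * y⁻¹)⁻¹ =
          (y * x k * y⁻¹) * I k * (z * (y * x k * y⁻¹)⁻¹) := by group
        _ = (y * x k * y⁻¹) * I k * ((y * x k * y⁻¹)⁻¹ * z) := by rw [hXz.inv_left.eq]
        _ = _ := by group
    rw [h2] at h1
    exact mul_right_cancel h1
  have d2 : (y * x k * y⁻¹) * (I k * J k) * (y * x k * y⁻¹)⁻¹ = J k := by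
    have h1 : (y * x k * y⁻¹) * (y * J k * y⁻¹) * (y * x k * y⁻¹)⁻¹ = y * (I k * J k) * y⁻¹ := by
      calc (y * x k * y⁻¹) * (y * J k * y⁻¹) * (y * x k * y⁻¹)⁻¹ = y * (x k * J k * (x k)⁻¹) * y⁻¹ := by group
        _ = _ := by rw [F.x_J]
    have h3 : y * (I k * J k) * y⁻¹ = J k * z := by
      calc y * (I k * J k) * y⁻¹ = (y * I k * y⁻¹) * (y * J k * y⁻¹) := by group
        _ = I k * z * (I k * J k * z) := by rw [hI, hJ]
        _ = I k * (z * I k) * J k * z := by group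
        _ = I k * (I k * z) * J k * z := by rw [(hIz k).eq]
        _ = (I k * I k) * z * J k * z := by group
        _ = z * z * J k * z := by rw [F.I_sq]
        _ = J k * z := by rw [zz, one_mul]
    rw [h3, hJ] at h1
    have h2 : (y * x k * y⁻¹) * (I k * J k * z) * (y * x k * y⁻¹)⁻¹ =
        (y * x k * y⁻¹) * (I k * J k) * (y * x k * y⁻¹)⁻¹ * z := by
      calc (y * x k * y⁻¹) * (I k * J k * z) * (y * x k * y⁻¹)⁻¹ =
          (y * x k * y⁻¹) * (I k * J k) * (z * (y * x k * y⁻¹)⁻¹) := by group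
        _ = (y * x k * y⁻¹) * (I k * J k) * ((y * x k * y⁻¹)⁻¹ * z) := by rw [hXz.inv_left.eq]
        _ = _ := by group
    rw [h2] at h1
    exact mul_right_cancel h1
  have d3 : (y * x k * y⁻¹) * J k * (y * x k * y⁻¹)⁻¹ = I k := by
    have h1 : (y * x k * y⁻¹) * J k * (y * x k * y⁻¹)⁻¹ =
        ((y * x k * y⁻¹) * I k * (y * x k * y⁻¹)⁻¹)⁻¹ * ((y * x k * y⁻¹) * (I k * J k) * (y * x k * y⁻¹)⁻¹) := by
      group
    rw [h1, d1, d2]
    -- `(I J)⁻¹ J = I`
    rw [inv_mul_eq_iff_eq_mul]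
    calc J k = J k * (z * z) := by rw [zz, mul_one]
      _ = J k * z * z := by group
      _ = z * (J k * z) := by rw [← mul_assoc z, ← (hJz k).eq]
      _ = I k * (I k * J k * z) := by rw [← F.I_sq k]; group
      _ = I k * (J k * I k) := by rw [F.J_I]
      _ = _ := by group
  -- `w = X x`
  have hw : (y * x k * y⁻¹) * x k = 1 ∨ (y * x k * y⁻¹) * x k = z := by
    apply F.eq_of_comm
    · exact (hXz.mul_left (hxz k)).eq
    · intro l
      by_cases hl : l = k
      · subst hl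
        calc y * x l * y⁻¹ * x l * I l = y * x l * y⁻¹ * (x l * I l * (x l)⁻¹) * (y * x l * y⁻¹)⁻¹ * (y * x l * y⁻¹ * x l) := by group
          _ = _ := by rw [F.x_I, d3]
      · have h1 : Commute (x k) (I l) := F.x_I' k l (Ne.symm hl)
        exact ((c1 l hl).mul_left h1).eq
    · intro l
      by_cases hl : l = k
      · subst hl
        calc y * x l * y⁻¹ * x l * J l = y * x l * y⁻¹ * (x l * J l * (x l)⁻¹) * (y * x l * y⁻¹)⁻¹ * (y * x l * y⁻¹ * x l) := by group
          _ = _ := by rw [F.x_J, d2]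
      · have h1 : Commute (x k) (J l) := F.x_J' k l (Ne.symm hl)
        exact ((c2 l hl).mul_left h1).eq
  rcases hw with hw | hw
  · exact eq_inv_of_mul_eq_one_left hw
  · exfalso
    have h1 : y * x k * y⁻¹ = z * (x k)⁻¹ := by rw [← hw]; group
    have h2 : (y * x k * y⁻¹) * (y * x k * y⁻¹) * (y * x k * y⁻¹) = 1 := by
      calc (y * x k * y⁻¹) * (y * x k * y⁻¹) * (y * x k * y⁻¹) = y * (x k * x k * x k) * y⁻¹ := by group
        _ = 1 := by rw [F.x_cube]; group
    rw [h1] at h2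
    have h3 : Commute z (x k)⁻¹ := (hxz k).symm.inv_right
    have h4 : z * (x k)⁻¹ * (z * (x k)⁻¹) * (z * (x k)⁻¹) = (z * z) * z * (x k * x k * x k)⁻¹ := by
      calc z * (x k)⁻¹ * (z * (x k)⁻¹) * (z * (x k)⁻¹) = z * ((x k)⁻¹ * z) * ((x k)⁻¹ * z) * (x k)⁻¹ := by group
        _ = z * (z * (x k)⁻¹) * (z * (x k)⁻¹) * (x k)⁻¹ := by rw [h3.eq]
        _ = z * z * ((x k)⁻¹ * z) * (x k)⁻¹ * (x k)⁻¹ := by group
        _ = z * z * (z * (x k)⁻¹) * (x k)⁻¹ * (x k)⁻¹ := by rw [h3.eq]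
        _ = _ := by group
    rw [h4, zz, F.x_cube, one_mul, inv_one, mul_one] at h2
    exact F.z_ne h2

/-- **The set-up.** -/
theorem exists_presetup [Finite G] {h : Large Q z} (inp : Input h) (p : Pair Q z A a) :
    ∃ x I J y ρ, PreSetup Q z x I J y ρ ∧ y ∈ A := by
  obtain ⟨x, I, J, g, D⟩ := exists_dat inp p
  have hyz := y_z D
  have hy2 := y_sq D
  have hyC : yy z I J g ∈ Subgroup.centralizer ({z} : Set G) := Subgroup.mem_centralizer_singleton_iff.2 hyz
  have hact := act_y D hyC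
  have hIz : ∀ k, Commute (I k) z := fun k => D.F.I_z k
  have hJz : ∀ k, Commute (J k) z := fun k => D.F.J_z k
  have zz : z * z = 1 := D.F.z_sq
  have hz' : yy z I J g * z * (yy z I J g)⁻¹ = z := by rw [hyz]; group
  -- exact forms
  have hI1 : ∀ k, yy z I J g * I k * (yy z I J g)⁻¹ = I k ∨ yy z I J g * I k * (yy z I J g)⁻¹ = I k * z := by
    intro k
    exact Input.act_coe_eq (x := ⟨I k, D.F.I_mem k⟩) (y := ⟨I k, D.F.I_mem k⟩) (hact k).1
  have hJ1 : ∀ k, yy z I J g * J k * (yy z I J g)⁻¹ = I k * J k ∨ yy z I J g * J k * (yy z I J g)⁻¹ = I k * J k * z := by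
    intro k
    have h1 : p.lz.pr (⟨I k, D.F.I_mem k⟩ * ⟨J k, D.F.J_mem k⟩) = D.F.input.v k + D.F.input.u k := by
      rw [p.lz.pr_mul, add_comm]; rfl
    exact Input.act_coe_eq (x := ⟨J k, D.F.J_mem k⟩) (y := ⟨I k, D.F.I_mem k⟩ * ⟨J k, D.F.J_mem k⟩)
      ((hact k).2.trans h1.symm)
  have hyy : ∀ w, yy z I J g * (yy z I J g * w * (yy z I J g)⁻¹) * (yy z I J g)⁻¹ = w := by
    intro w
    have h1 : yy z I J g * (yy z I J g * w * (yy z I J g)⁻¹) * (yy z I J g)⁻¹ =
      (yy z I J g * yy z I J g) * w * (yy z I J g * yy z I J g)⁻¹ := by group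
    rw [h1, hy2]; group
  have hI : ∀ k, yy z I J g * I k * (yy z I J g)⁻¹ = I k * z := by
    intro k
    rcases hI1 k with h1 | h1
    · exfalso
      have h2 := hyy (J k)
      rcases hJ1 k with h3 | h3
      · rw [h3] at h2
        have h4 : yy z I J g * (I k * J k) * (yy z I J g)⁻¹ =
          (yy z I J g * I k * (yy z I J g)⁻¹) * (yy z I J g * J k * (yy z I J g)⁻¹) := by group
        rw [h4, h1, h3, ← mul_assoc, D.F.I_sq] at h2
        exact D.F.z_ne (mul_eq_right.1 h2)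
      · rw [h3] at h2
        have h4 : yy z I J g * (I k * J k * z) * (yy z I J g)⁻¹ =
          (yy z I J g * I k * (yy z I J g)⁻¹) * (yy z I J g * J k * (yy z I J g)⁻¹) *
          (yy z I J g * z * (yy z I J g)⁻¹) := by group
        rw [h4, h1, h3, hz'] at h2
        have h5 : I k * (I k * J k * z) * z = (I k * I k) * J k * (z * z) := by group
        rw [h5, zz, mul_one, D.F.I_sq] at h2
        exact D.F.z_ne (mul_eq_right.1 h2)
    · exact h1
  -- change of signs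
  obtain ⟨q, hq, hqJ, hq1, hq2⟩ := exists_sgn D.F (fun k => yy z I J g * J k * (yy z I J g)⁻¹ = I k * J k)
  obtain ⟨hφ, hA'⟩ := adapted_conjQ D.F D.hA hq hqJ
  have F' := conjQ D.F hq hqJ
  have hqI : ∀ k, q * I k * q⁻¹ = I k ∨ q * I k * q⁻¹ = I k * z := by
    intro k
    by_cases hk : yy z I J g * J k * (yy z I J g)⁻¹ = I k * J k
    · right; exact hq1 k hk
    · left; exact hq2 k hk
  have hI' : ∀ k, yy z I J g * (q * I k * q⁻¹) * (yy z I J g)⁻¹ = q * I k * q⁻¹ * z := by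
    intro k
    rcases hqI k with h1 | h1 <;> rw [h1]
    · exact hI k
    · calc yy z I J g * (I k * z) * (yy z I J g)⁻¹ =
          (yy z I J g * I k * (yy z I J g)⁻¹) * (yy z I J g * z * (yy z I J g)⁻¹) := by group
        _ = _ := by rw [hI, hz']
  have hJ' : ∀ k, yy z I J g * J k * (yy z I J g)⁻¹ = q * I k * q⁻¹ * J k * z := by
    intro k
    by_cases hk : yy z I J g * J k * (yy z I J g)⁻¹ = I k * J k
    · rw [hq1 k hk, hk]
      calc I k * J k = I k * J k * (z * z) := by rw [zz, mul_one]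
        _ = I k * (J k * z) * z := by group
        _ = _ := by rw [(hJz k).eq]; group
    · rw [hq2 k hk]
      rcases hJ1 k with h3 | h3
      · exact absurd h3 hk
      · exact h3
  refine ⟨_, _, _, yy z I J g, rh x g, ⟨F', inv_of F' hy2 hyz hI' hJ', rho_z D, rho_y D, rho_cube D.F, ?_, ?_, ?_⟩,
    y_mem D⟩
  · intro g' k h1 h2
    exact iso F' hA' g' k h1 h2
  · intro k l
    exact trans F' hA' k l
  · intro k l hkl m
    have hw := wt_of F' hA' (s := q * I k * q⁻¹ * (q * I l * q⁻¹)) hkl (Or.inl rfl)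
    obtain ⟨hz, π, hπ, hπ1, e, H⟩ := act_s D hw
    have H' : Rep (F'.input : Input p.lz) (p.lz.act ⟨_, Subgroup.mem_centralizer_singleton_iff.2 hz⟩) π
        (fun _ => TP e) := by
      refine ⟨H.1, ?_⟩
      rw [hφ]
      exact H.2
    refine ⟨π m, V4_ne π hπ hπ1 m, ?_⟩
    rcases norm_idx F' hz H' m with ⟨r, hr, hr2⟩ | ⟨r, hr, hr2⟩
    · exact ⟨r, hr, Or.inl hr2⟩
    · exact ⟨r, hr, Or.inr hr2⟩

end dat

end Cfsg.Agent.TypeD4Three.SetupOf
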