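import Cfsg.Agent.TypeD4Three.Final
import Cfsg.Agent.TypeD4Three.SetupOf
import Cfsg.Agent.TypeD4Three.Bad
import Cfsg.Agent.TypeD4Three.Inst
import Cfsg.Agent.TypeD4Three.LocInst

/-!
# S1763, case [P] : assembly (helper754)
-/

set_option autoImplicit false

namespace Cfsg.Agent.TypeD4Three.Assembly

open Cfsg.Agent.Co2Type.Quad Cfsg.Agent.LargeExtra.Base Cfsg.Agent.TypeD4Three

variable {G : Type*} [Group G] {Q A : Subgroup G} {z a : G}

/-- `A ≤ M` for the normaliser `M` of the root group. -/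
theorem A_le [Finite G] {x I J : Fin 4 → G} {y ρ : G} (S : Setup Q z x I J y ρ) (p : Pair Q z A a) (hy : y ∈ A)
    {M : Subgroup G} (hC : ∀ c, c * z = z * c → c ∈ M) (hρ : ρ ∈ M) : A ≤ M := by
  intro w hw
  have hCy : ∀ c, c * y = y * c → c ∈ M := by
    intro c hc
    have h1 : (ρ⁻¹ * c * ρ) * z = z * (ρ⁻¹ * c * ρ) := S.back_z hc.symm
    have h2 := hC _ h1
    have h3 : c = ρ * (ρ⁻¹ * c * ρ) * ρ⁻¹ := by group
    rw [h3]
    exact M.mul_mem (M.mul_mem hρ h2) (M.inv_mem hρ)
  have hCzy : ∀ c, c * (z * y) = (z * y) * c → c ∈ M := by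
    intro c hc
    have h1 := S.rev.back_z hc.symm
    have h2 := hC _ h1
    have h3 : c = ρ⁻¹ * (ρ⁻¹⁻¹ * c * ρ⁻¹) * ρ := by group
    rw [h3]
    exact M.mul_mem (M.mul_mem (M.inv_mem hρ) h2) hρ
  have hzA : z ∈ A := p.z_mem
  rcases p.la.comm w hw z hzA with h1 | h1
  · exact hC w h1
  · rcases p.la.comm w hw y hy with h2 | h2
    · exact hCy w h2
    · apply hCzy
      have h3 : a * y = y * a := (p.la.comm_z y hy).symm
      calc w * (z * y) = (w * z) * y := by group
        _ = z * w * (a * y) := by rw [h1]; group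
        _ = z * (w * y) * a := by rw [h3]; group
        _ = z * y * w * (a * a) := by rw [h2]; group
        _ = z * y * w := by rw [p.la.z_sq, mul_one]

/-- All of the data of `Chev.recognize`. -/
theorem exists_chevData [Finite G] [IsSimpleGroup G] {h : Large Q z} (inp : Input h) (p : Pair Q z A a) :
    Nonempty (ChevData G) := by
  obtain ⟨x, I, J, y, ρ, P, hy⟩ := SetupOf.exists_presetup inp p
  have S := P.setup
  obtain ⟨F, H, L⟩ := LocInst.exists_all (p := p) inp
  have hC : ∀ c, c * z = z * c → c ∈ Subgroup.normalizer (RootGrp x I ρ : Set G) := fun c hc =>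
    S.cent_le_normalizer hc
  have hM := Inst.eq_top H L p (Subgroup.normalizer (RootGrp x I ρ : Set G)) hC
    (A_le S p hy hC S.rho_mem_normalizer)
  exact S.chevData (S.root_top hM)

end Cfsg.Agent.TypeD4Three.Assembly
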