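import Cfsg.Agent.TypeD4Three.PreSetup

/-!
# S1763, case [P] : lemmas for the exclusion of `C(x k) ≤ C(z)` (helper948)
-/

set_option autoImplicit false

namespace Cfsg.Agent.TypeD4Three

open Cfsg.Agent.Co2Type.Quad

variable {G : Type*} [Group G]

/-! ### powers of two commuting elements of order three -/

theorem mem_closure_two {a b : G} (hab : a * b = b * a) (ha : a * a * a = 1) (hb : b * b * b = 1) {g : G}
    (hg : g ∈ Subgroup.closure ({a, b} : Set G)) : ∃ i j : Fin 3, g = a ^ (i : ℕ) * b ^ (j : ℕ) := by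
  have hc : Commute a b := hab
  have key : ∃ i j : ℕ, g = a ^ i * b ^ j := by
    refine Subgroup.closure_induction (p := fun g _ => ∃ i j : ℕ, g = a ^ i * b ^ j) ?_ ?_ ?_ ?_ hg
    · rintro y (rfl | rfl)
      · exact ⟨1, 0, by rw [pow_one, pow_zero, mul_one]⟩
      · exact ⟨0, 1, by rw [pow_one, pow_zero, one_mul]⟩
    · exact ⟨0, 0, by rw [pow_zero, pow_zero, mul_one]⟩
    · rintro x y _ _ ⟨i, j, rfl⟩ ⟨k, l, rfl⟩
      refine ⟨i + k, j + l, ?_⟩
      have h1 : b ^ j * a ^ k = a ^ k * b ^ j := (hc.pow_pow k j).eq.symm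
      calc a ^ i * b ^ j * (a ^ k * b ^ l) = a ^ i * (b ^ j * a ^ k) * b ^ l := by group
        _ = a ^ i * (a ^ k * b ^ j) * b ^ l := by rw [h1]
        _ = a ^ (i + k) * b ^ (j + l) := by rw [pow_add, pow_add]; group
    · rintro x _ ⟨i, j, rfl⟩
      refine ⟨2 * i, 2 * j, ?_⟩
      have ha2 : ∀ n : ℕ, (a ^ n)⁻¹ = a ^ (2 * n) := by
        intro n
        rw [inv_eq_iff_mul_eq_one, ← pow_add, show n + 2 * n = 3 * n by ring, pow_mul, pow_three', ha, one_pow]
      have hb2 : ∀ n : ℕ, (b ^ n)⁻¹ = b ^ (2 * n) := by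
        intro n
        rw [inv_eq_iff_mul_eq_one, ← pow_add, show n + 2 * n = 3 * n by ring, pow_mul, pow_three', hb, one_pow]
      rw [mul_inv_rev, ha2, hb2]
      exact ((hc.pow_pow (2 * i) (2 * j)).eq).symm
  obtain ⟨i, j, rfl⟩ := key
  have hred : ∀ (c : G), c * c * c = 1 → ∀ n : ℕ, c ^ n = c ^ (n % 3) := by
    intro c hc3 n
    conv_lhs => rw [← Nat.div_add_mod n 3, pow_add, pow_mul, pow_three', hc3, one_pow, one_mul]
  exact ⟨⟨i % 3, Nat.mod_lt _ (by norm_num)⟩, ⟨j % 3, Nat.mod_lt _ (by norm_num)⟩, by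
    rw [hred a ha i, hred b hb j]⟩

theorem closure_two_cube {a b : G} (hab : a * b = b * a) (ha : a * a * a = 1) (hb : b * b * b = 1) {g : G}
    (hg : g ∈ Subgroup.closure ({a, b} : Set G)) : g ^ 3 = 1 := by
  obtain ⟨i, j, rfl⟩ := mem_closure_two hab ha hb hg
  have hc : Commute a b := hab
  rw [(hc.pow_pow _ _).mul_pow, ← pow_mul, ← pow_mul, mul_comm (i : ℕ) 3, mul_comm (j : ℕ) 3, pow_mul,
    pow_mul, pow_three', pow_three', ha, hb, one_pow, one_pow, one_mul]

/-! ### the automorphisms `ξ k ^ (±1)` -/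

namespace Input

variable {Q : Subgroup G} {z : G} {h : Large Q z} (inp : Input h)

/-- `f = ξ k` or its inverse -/
def Pm (f : h.V ≃ₗ[ZMod 2] h.V) (k : Fin 4) : Prop := f = inp.ξ k ∨ f = (inp.ξ k)⁻¹

theorem inv_apply_eq {f : h.V ≃ₗ[ZMod 2] h.V} {v : h.V} (hv : f v = v) : f⁻¹ v = v := by
  have h1 : f⁻¹ (f v) = v := f.symm_apply_apply v
  rwa [hv] at h1

variable {inp}

theorem Pm.inv {f : h.V ≃ₗ[ZMod 2] h.V} {k : Fin 4} (hf : inp.Pm f k) : inp.Pm f⁻¹ k := by
  rcases hf with rfl | rfl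
  · exact Or.inr rfl
  · exact Or.inl (inv_inv _)

theorem Pm.u {f : h.V ≃ₗ[ZMod 2] h.V} {k l : Fin 4} (hf : inp.Pm f k) (hkl : k ≠ l) : f (inp.u l) = inp.u l := by
  rcases hf with rfl | rfl
  · exact inp.ξ_u' k l hkl
  · exact inv_apply_eq (inp.ξ_u' k l hkl)

theorem Pm.v {f : h.V ≃ₗ[ZMod 2] h.V} {k l : Fin 4} (hf : inp.Pm f k) (hkl : k ≠ l) : f (inp.v l) = inp.v l := by
  rcases hf with rfl | rfl
  · exact inp.ξ_v' k l hkl
  · exact inv_apply_eq (inp.ξ_v' k l hkl)

theorem xi_u_ne (k : Fin 4) : inp.ξ k (inp.u k) ≠ inp.u k := by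
  intro h1
  rw [inp.ξ_u] at h1
  have h4 := inp.b_uv k
  rw [h1, h.b_self] at h4
  exact absurd h4 (by decide)

theorem Pm.ne {f : h.V ≃ₗ[ZMod 2] h.V} {k : Fin 4} (hf : inp.Pm f k) : f (inp.u k) ≠ inp.u k := by
  rcases hf with rfl | rfl
  · exact xi_u_ne k
  · intro h1
    apply xi_u_ne (inp := inp) k
    have h2 : inp.ξ k ((inp.ξ k)⁻¹ (inp.u k)) = inp.u k := (inp.ξ k).apply_symm_apply _
    rwa [h1] at h2

theorem Pm.unique {f : h.V ≃ₗ[ZMod 2] h.V} {k l : Fin 4} (hf : inp.Pm f k) (hf' : inp.Pm f l) : k = l := by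
  by_contra hne
  exact hf.ne (hf'.u (Ne.symm hne))

theorem Pm.comm {f : h.V ≃ₗ[ZMod 2] h.V} {k : Fin 4} (hf : inp.Pm f k) (l : Fin 4) :
    f * inp.ξ l = inp.ξ l * f := by
  have hc : Commute (inp.ξ k) (inp.ξ l) := inp.xi_comm k l
  rcases hf with rfl | rfl
  · exact hc.eq
  · exact hc.inv_left.eq

theorem Pm.cube {f : h.V ≃ₗ[ZMod 2] h.V} {k : Fin 4} (hf : inp.Pm f k) : f ^ 3 = 1 := by
  rcases hf with rfl | rfl
  · exact inp.xi_pow k
  · rw [inv_pow, inp.xi_pow, inv_one]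

theorem Pm.sq {f : h.V ≃ₗ[ZMod 2] h.V} {k : Fin 4} (hf : inp.Pm f k) : f ^ 2 = f⁻¹ := by
  rw [eq_inv_iff_mul_eq_one, ← pow_succ]
  exact hf.cube

theorem Pm.pow_ne {f : h.V ≃ₗ[ZMod 2] h.V} {k : Fin 4} (hf : inp.Pm f k) {n : ℕ} (hn : n < 3) (hn0 : n ≠ 0) :
    (f ^ n) (inp.u k) ≠ inp.u k := by
  have : n = 1 ∨ n = 2 := by omega
  rcases this with rfl | rfl
  · rw [pow_one]; exact hf.ne
  · rw [hf.sq]; exact hf.inv.ne

theorem Pm.pow_inj {f : h.V ≃ₗ[ZMod 2] h.V} {k : Fin 4} (hf : inp.Pm f k) {m n : ℕ} (hm : m < 3) (hn : n < 3)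
    (he : (f ^ m) (inp.u k) = (f ^ n) (inp.u k)) : m = n := by
  have key : ∀ m n : ℕ, m < 3 → n < 3 → m ≤ n → (f ^ m) (inp.u k) = (f ^ n) (inp.u k) → m = n := by
    intro m n hm hn hmn he
    by_contra hne
    apply hf.pow_ne (n := n - m) (by omega) (by omega)
    have h1 : (f ^ n) = f ^ m * f ^ (n - m) := by rw [← pow_add]; congr 1; omega
    rw [h1] at he
    exact ((f ^ m).injective he).symm
  rcases le_total m n with h1 | h1
  · exact key m n hm hn h1 he
  · exact (key n m hn hm h1 he.symm).symm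

/-- `(f h) ^ n` on a vector fixed by `h` -/
theorem pow_mul_apply {f g : h.V ≃ₗ[ZMod 2] h.V} (hfg : f * g = g * f) {v : h.V} (hv : g v = v) (n : ℕ) :
    ((f * g) ^ n) v = (f ^ n) v := by
  have hc : Commute f g := hfg
  rw [hc.mul_pow]
  have h1 : ∀ n : ℕ, (g ^ n) v = v := by
    intro n
    induction n with
    | zero => rfl
    | succ n ih =>
      rw [pow_succ]
      show (g ^ n) (g v) = v
      rw [hv, ih]
  show (f ^ n) ((g ^ n) v) = (f ^ n) v
  rw [h1]

theorem pow_apply_of_fix {g : h.V ≃ₗ[ZMod 2] h.V} {v : h.V} (hv : g v = v) (n : ℕ) : (g ^ n) v = v := by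
  induction n with
  | zero => rfl
  | succ n ih =>
    rw [pow_succ]
    show (g ^ n) (g v) = v
    rw [hv, ih]

/-- an automorphism stabilising the pair of planes `a, b` : its fourth power commutes with `ξ a` -/
theorem comm_four {f : h.V ≃ₗ[ZMod 2] h.V} {a b : Fin 4} (hab : a ≠ b) {l m : Fin 4}
    (hl : inp.Pm (f * inp.ξ a * f⁻¹) l) (hm : inp.Pm (f * inp.ξ b * f⁻¹) m) (hla : l = a ∨ l = b)
    (hmb : m = a ∨ m = b) : Commute (f * f * (f * f)) (inp.ξ a) := by
  have hl2 : inp.Pm (f * f * inp.ξ a * (f * f)⁻¹) a := by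
    have e : f * f * inp.ξ a * (f * f)⁻¹ = f * (f * inp.ξ a * f⁻¹) * f⁻¹ := by group
    rw [e]
    have step : ∀ (c d : Fin 4) (g : h.V ≃ₗ[ZMod 2] h.V), inp.Pm g c → inp.Pm (f * inp.ξ c * f⁻¹) d →
        inp.Pm (f * g * f⁻¹) d := by
      intro c d g hg hd
      rcases hg with rfl | rfl
      · exact hd
      · have := hd.inv
        have e : f * (inp.ξ c)⁻¹ * f⁻¹ = (f * inp.ξ c * f⁻¹)⁻¹ := by group
        rwa [e]
    rcases hla with rfl | rfl
    · exact step l l _ hl hl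
    · rcases hmb with rfl | rfl
      · exact step l m _ hl hm
      · exfalso
        -- `f ξ a f⁻¹` and `f ξ b f⁻¹` both at `m`
        have h1 : inp.ξ a = inp.ξ m ∨ inp.ξ a = (inp.ξ m)⁻¹ := by
          rcases hl with h1 | h1 <;> rcases hm with h2 | h2
          · left
            have : f * inp.ξ a * f⁻¹ = f * inp.ξ m * f⁻¹ := h1.trans h2.symm
            exact mul_left_cancel (mul_right_cancel this)
          · right
            have : f * inp.ξ a * f⁻¹ = f * (inp.ξ m)⁻¹ * f⁻¹ := by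
              rw [h1]
              calc inp.ξ m = (f * inp.ξ m * f⁻¹)⁻¹ := by rw [h2, inv_inv]
                _ = _ := by group
            exact mul_left_cancel (mul_right_cancel this)
          · right
            have : f * inp.ξ a * f⁻¹ = f * (inp.ξ m)⁻¹ * f⁻¹ := by
              rw [h1]
              calc (inp.ξ m)⁻¹ = (f * inp.ξ m * f⁻¹)⁻¹ := by rw [h2]
                _ = _ := by group
            exact mul_left_cancel (mul_right_cancel this)
          · left
            have : f * inp.ξ a * f⁻¹ = f * inp.ξ m * f⁻¹ := h1.trans h2.symm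
            exact mul_left_cancel (mul_right_cancel this)
        have h2 : inp.Pm (inp.ξ a) m := h1
        exact hab ((show inp.Pm (inp.ξ a) a from Or.inl rfl).unique h2)
  rcases hl2 with h1 | h1
  · have h2 : Commute (f * f) (inp.ξ a) := by
      show f * f * inp.ξ a = inp.ξ a * (f * f)
      rw [mul_inv_eq_iff_eq_mul] at h1; exact h1
    exact h2.mul_left h2
  · show f * f * (f * f) * inp.ξ a = inp.ξ a * (f * f * (f * f))
    have h2 : f * f * (f * f) * inp.ξ a * (f * f * (f * f))⁻¹ = inp.ξ a := by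
      calc f * f * (f * f) * inp.ξ a * (f * f * (f * f))⁻¹
          = (f * f) * (f * f * inp.ξ a * (f * f)⁻¹) * (f * f)⁻¹ := by group
        _ = (f * f) * (inp.ξ a)⁻¹ * (f * f)⁻¹ := by rw [h1]
        _ = (f * f * inp.ξ a * (f * f)⁻¹)⁻¹ := (conj_inv).symm
        _ = inp.ξ a := by rw [h1, inv_inv]
    rwa [mul_inv_eq_iff_eq_mul] at h2

end Input

/-! ### commutation with `x k` -/

namespace Frame

variable {Q : Subgroup G} {z : G} {x I J : Fin 4 → G} (F : Frame Q z x I J)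

include F

/-- an element of order three acting trivially on the plane `k` and commuting with `ξ k` commutes with `x k` -/
theorem comm_x {u : G} (huz : u * z = z * u) (hu : u * u * u = 1) {k : Fin 4}
    (hc : F.large.act ⟨u, Subgroup.mem_centralizer_singleton_iff.2 huz⟩ * F.input.ξ k =
      F.input.ξ k * F.large.act ⟨u, Subgroup.mem_centralizer_singleton_iff.2 huz⟩)
    (h1 : F.large.act ⟨u, Subgroup.mem_centralizer_singleton_iff.2 huz⟩ (F.input.u k) = F.input.u k)
    (h2 : F.large.act ⟨u, Subgroup.mem_centralizer_singleton_iff.2 huz⟩ (F.input.v k) = F.input.v k) :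
    u * x k = x k * u := by
  set f := F.large.act ⟨u, Subgroup.mem_centralizer_singleton_iff.2 huz⟩ with hf
  have hxi : (x k)⁻¹ * z = z * (x k)⁻¹ := by
    have : Commute (x k) z := F.x_z k
    exact this.inv_left.eq
  have hui : u⁻¹ * z = z * u⁻¹ := by
    have : Commute u z := huz
    exact this.inv_left.eq
  -- elements of `Q` over vectors fixed by `f`
  have hfixu : ∀ (q : G) (hq : q ∈ Q), f (F.large.pr ⟨q, hq⟩) = F.large.pr ⟨q, hq⟩ → u * q = q * u :=
    fun q hq h => F.comm_of_act huz hu hq h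
  have hfixx : ∀ (q : G) (hq : q ∈ Q), F.input.ξ k (F.large.pr ⟨q, hq⟩) = F.large.pr ⟨q, hq⟩ →
      x k * q = q * x k := fun q hq h => F.comm_of_act (F.x_z k) (F.x_cube k) hq h
  -- `κ = x u x⁻¹ u⁻¹`
  have key : ∀ (q : G) (hq : q ∈ Q), (f (F.large.pr ⟨q, hq⟩) = F.large.pr ⟨q, hq⟩ ∨
      F.input.ξ k (F.large.pr ⟨q, hq⟩) = F.large.pr ⟨q, hq⟩) →
      (x k * u * (x k)⁻¹ * u⁻¹) * q = q * (x k * u * (x k)⁻¹ * u⁻¹) := by
    rintro q hq (h | h)
    · -- `u` commutes with `q` and with `x⁻¹ q x`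
      have e1 : u * q = q * u := hfixu q hq h
      have hq' : (x k)⁻¹ * q * x k ∈ Q := by
        have := F.large.conj_mem (x k)⁻¹ hxi q hq
        rwa [inv_inv] at this
      have e2 : u * ((x k)⁻¹ * q * x k) = ((x k)⁻¹ * q * x k) * u := by
        apply hfixu _ hq'
        have h3 : F.large.pr ⟨(x k)⁻¹ * q * x k, hq'⟩ = (F.input.ξ k)⁻¹ (F.large.pr ⟨q, hq⟩) := by
          have h4 : F.input.ξ k (F.large.pr ⟨(x k)⁻¹ * q * x k, hq'⟩) = F.large.pr ⟨q, hq⟩ := by
            show F.large.act ⟨x k, F.x_mem k⟩ (F.large.pr ⟨(x k)⁻¹ * q * x k, hq'⟩) = F.large.pr ⟨q, hq⟩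
            rw [F.large.act_pr]
            refine congrArg _ (Subtype.ext ?_)
            show x k * ((x k)⁻¹ * q * x k) * (x k)⁻¹ = q
            group
          rw [← h4]
          exact ((F.input.ξ k).symm_apply_apply _).symm
        rw [h3]
        have h5 : Commute f (F.input.ξ k)⁻¹ := (show Commute f (F.input.ξ k) from hc).inv_right
        have h6 : (f * (F.input.ξ k)⁻¹) (F.large.pr ⟨q, hq⟩) = ((F.input.ξ k)⁻¹ * f) (F.large.pr ⟨q, hq⟩) := by
          rw [h5.eq]
        have h7 : f ((F.input.ξ k)⁻¹ (F.large.pr ⟨q, hq⟩)) = (F.input.ξ k)⁻¹ (f (F.large.pr ⟨q, hq⟩)) := h6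
        rw [h7, h]
      have e3 : u⁻¹ * q = q * u⁻¹ := (show Commute u q from e1).inv_left.eq
      calc x k * u * (x k)⁻¹ * u⁻¹ * q = x k * u * (x k)⁻¹ * (u⁻¹ * q) := by group
        _ = x k * u * (x k)⁻¹ * (q * u⁻¹) := by rw [e3]
        _ = x k * (u * ((x k)⁻¹ * q * x k)) * (x k)⁻¹ * u⁻¹ := by group
        _ = x k * (((x k)⁻¹ * q * x k) * u) * (x k)⁻¹ * u⁻¹ := by rw [e2]
        _ = q * (x k * u * (x k)⁻¹ * u⁻¹) := by group
    · -- `x` commutes with `q` and with `u⁻¹ q u`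
      have e1 : x k * q = q * x k := hfixx q hq h
      have hq' : u⁻¹ * q * u ∈ Q := by
        have := F.large.conj_mem u⁻¹ hui q hq
        rwa [inv_inv] at this
      have e2 : x k * (u⁻¹ * q * u) = (u⁻¹ * q * u) * x k := by
        apply hfixx _ hq'
        have h3 : F.large.pr ⟨u⁻¹ * q * u, hq'⟩ = f⁻¹ (F.large.pr ⟨q, hq⟩) := by
          have h4 : f (F.large.pr ⟨u⁻¹ * q * u, hq'⟩) = F.large.pr ⟨q, hq⟩ := by
            rw [hf, F.large.act_pr]
            refine congrArg _ (Subtype.ext ?_)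
            show u * (u⁻¹ * q * u) * u⁻¹ = q
            group
          rw [← h4]
          exact (f.symm_apply_apply _).symm
        rw [h3]
        have h5 : Commute (F.input.ξ k) f⁻¹ := (show Commute f (F.input.ξ k) from hc).symm.inv_right
        have h6 : (F.input.ξ k * f⁻¹) (F.large.pr ⟨q, hq⟩) = (f⁻¹ * F.input.ξ k) (F.large.pr ⟨q, hq⟩) := by
          rw [h5.eq]
        have h7 : F.input.ξ k (f⁻¹ (F.large.pr ⟨q, hq⟩)) = f⁻¹ (F.input.ξ k (F.large.pr ⟨q, hq⟩)) := h6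
        rw [h7, h]
      have e3 : (x k)⁻¹ * (u⁻¹ * q * u) = (u⁻¹ * q * u) * (x k)⁻¹ :=
        (show Commute (x k) (u⁻¹ * q * u) from e2).inv_left.eq
      calc x k * u * (x k)⁻¹ * u⁻¹ * q = x k * u * ((x k)⁻¹ * (u⁻¹ * q * u)) * u⁻¹ := by group
        _ = x k * u * ((u⁻¹ * q * u) * (x k)⁻¹) * u⁻¹ := by rw [e3]
        _ = x k * q * u * (x k)⁻¹ * u⁻¹ := by group
        _ = q * x k * u * (x k)⁻¹ * u⁻¹ := by rw [e1]
        _ = q * (x k * u * (x k)⁻¹ * u⁻¹) := by group
  have hκz : (x k * u * (x k)⁻¹ * u⁻¹) * z = z * (x k * u * (x k)⁻¹ * u⁻¹) := by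
    have c1 : Commute (x k) z := F.x_z k
    have c2 : Commute u z := huz
    exact (((c1.mul_left c2).mul_left c1.inv_left).mul_left c2.inv_left).eq
  have h3 := F.eq_of_comm hκz (fun l => key _ (F.I_mem l) (by
      by_cases hkl : k = l
      · subst hkl; left; exact h1
      · right; exact F.act_x_u' k l hkl)) (fun l => key _ (F.J_mem l) (by
      by_cases hkl : k = l
      · subst hkl; left; exact h2
      · right; exact F.act_x_v' k l hkl))
  rcases h3 with h3 | h3
  · have h4 : x k * u = u * x k := by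
      calc x k * u = (x k * u * (x k)⁻¹ * u⁻¹) * u * x k := by group
        _ = _ := by rw [h3, one_mul]
    exact h4.symm
  · exfalso
    have h4 : x k * u * (x k)⁻¹ = z * u := by rw [← h3]; group
    have h5 : (z * u) * (z * u) * (z * u) = 1 := by
      rw [← h4]
      calc x k * u * (x k)⁻¹ * (x k * u * (x k)⁻¹) * (x k * u * (x k)⁻¹) = x k * (u * u * u) * (x k)⁻¹ := by group
        _ = 1 := by rw [hu]; group
    have h6 : (z * u) * (z * u) * (z * u) = z := by
      calc (z * u) * (z * u) * (z * u) = z * (u * z) * u * z * u := by group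
        _ = z * (z * u) * u * z * u := by rw [huz]
        _ = (z * z) * u * (u * z) * u := by group
        _ = u * (z * u) * u := by rw [F.z_sq, huz]; group
        _ = (u * z) * u * u := by group
        _ = z * (u * u * u) := by rw [huz]; group
        _ = z := by rw [hu, mul_one]
    exact F.z_ne (h6.symm.trans h5)

end Frame

end Cfsg.Agent.TypeD4Three
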