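import Cfsg.Agent.TypeD4Three.BadBase

/-!
# S1763, case [P] : if `C(x k) ≤ C(z)`, then `⟨x 0, x 1⟩` is a Sylow 3-subgroup of `C(I 2 * I 3)` (helper948)
-/

set_option autoImplicit false

namespace Cfsg.Agent.TypeD4Three

open Cfsg.Agent.Co2Type.Quad

variable {G : Type*} [Group G]

theorem fin4_a : ∀ l : Fin 4, l ≠ 0 → l ≠ 1 → l = 2 ∨ l = 3 := by decide

theorem fin4_b : ∀ a b l : Fin 4, a ≠ b → (a = 0 ∨ a = 1) → (b = 0 ∨ b = 1) → (l = 0 ∨ l = 1) → l = a ∨ l = b := by
  decide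

theorem fin4_c : ∀ a b l : Fin 4, a ≠ b → ¬ (a = 0 ∨ a = 1) → ¬ (b = 0 ∨ b = 1) → ¬ (l = 0 ∨ l = 1) →
    l = a ∨ l = b := by
  decide

namespace PreSetup

variable {Q : Subgroup G} {z : G} {x I J : Fin 4 → G} {y ρ : G} (P : PreSetup Q z x I J y ρ)

include P

/-- If `C(x k) ≤ C(z)` for one `k`, then `z` is the only conjugate of `z` commuting with `x l`, for every `l`. -/
theorem unique_z {k : Fin 4} (hbad : ∀ g, g * x k = x k * g → g * z = z * g) (l : Fin 4) (g : G)
    (hg : (g * z * g⁻¹) * x l = x l * (g * z * g⁻¹)) : g * z * g⁻¹ = z := by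
  have hfin := P.fr.finiteQ
  -- `C(x l) ≤ C(z)`
  have key : ∀ t, t * x l = x l * t → t * z = z * t := by
    obtain ⟨c, hc, q, hq, h⟩ := P.trans k l
    have hxz : Commute (x l) z := P.fr.x_z l
    have hqz : q * z = z * q := P.fr.large.comm_z q hq
    have main : ∀ e : G, e * z = z * e → e ^ 3 = 1 → (∀ t, t * x l = x l * t → t * e = e * t) →
        c * x k * c⁻¹ = e * q → ∀ t, t * x l = x l * t → t * z = z * t := by
      intro e hez he3 hce h t ht
      have hu3 : (c * x k * c⁻¹) ^ 3 = 1 := by rw [conj_pow, P.fr.x_pow_three]; group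
      obtain ⟨q1, hq1, h1⟩ := conj_of_coset P.fr.card_not_three hu3 he3 (by
        intro q' hq'
        rw [h]
        have := P.fr.large.conj_mem e hez _ (mul_mem hq hq')
        have e1 : e * (q * q') * e⁻¹ = e * q * q' * e⁻¹ := by group
        rwa [e1] at this)
      have hq1z : Commute q1 z := P.fr.large.comm_z q1 hq1
      have hcz : Commute c z := hc
      have hd : Commute (q1⁻¹ * c) z := hq1z.inv_left.mul_left hcz
      have hex : e = (q1⁻¹ * c) * x k * (q1⁻¹ * c)⁻¹ := by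
        calc e = q1⁻¹ * (q1 * e * q1⁻¹) * q1 := by group
          _ = q1⁻¹ * (c * x k * c⁻¹) * q1 := by rw [h1]
          _ = _ := by group
      have hte := hce t ht
      set d := q1⁻¹ * c with hd'
      have h2 : (d⁻¹ * t * d) * x k = x k * (d⁻¹ * t * d) := by
        calc d⁻¹ * t * d * x k = d⁻¹ * (t * (d * x k * d⁻¹)) * d := by group
          _ = d⁻¹ * (d * x k * d⁻¹ * t) * d := by rw [← hex, hte]
          _ = _ := by group
      have h3 : Commute (d⁻¹ * t * d) z := hbad _ h2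
      have h4 : t = d * (d⁻¹ * t * d) * d⁻¹ := by group
      rw [h4]
      exact ((hd.mul_left h3).mul_left hd.inv_left).eq
    rcases h with h | h
    · exact main (x l) hxz.eq (P.fr.x_pow_three l) (fun t ht => ht) h
    · exact main (x l)⁻¹ hxz.inv_left.eq (by rw [inv_pow, P.fr.x_pow_three, inv_one])
        (fun t ht => (show Commute t (x l) from ht).inv_right.eq) h
  exact P.iso g l (key _ hg) hg

/-- `⟨x 0, x 1⟩` is a maximal 3-subgroup of `C(I 2 * I 3)`. -/
theorem max [Finite G] {k : Fin 4} (hbad : ∀ g, g * x k = x k * g → g * z = z * g) (S : Subgroup G)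
    (hS : IsPGroup 3 S) (hs : ∀ g ∈ S, g * (I 2 * I 3) = (I 2 * I 3) * g)
    (hP : Subgroup.closure {x 0, x 1} ≤ S) : S ≤ Subgroup.closure {x 0, x 1} := by
  have h3 : Fact (Nat.Prime 3) := ⟨Nat.prime_three⟩
  have hnil : Group.IsNilpotent S := hS.isNilpotent
  by_contra hne
  have hlt : (Subgroup.closure {x 0, x 1}).subgroupOf S < ⊤ := by
    rw [lt_top_iff_ne_top]
    intro h
    exact hne (Subgroup.subgroupOf_eq_top.1 h)
  obtain ⟨g', hg', hgn'⟩ := SetLike.exists_of_lt (Group.normalizerCondition_of_isNilpotent _ hlt)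
  obtain ⟨g, hgS⟩ := g'
  have hgn : g ∉ Subgroup.closure {x 0, x 1} := hgn'
  have hx0 : x 0 ∈ Subgroup.closure ({x 0, x 1} : Set G) := Subgroup.subset_closure (by simp)
  have hx1 : x 1 ∈ Subgroup.closure ({x 0, x 1} : Set G) := Subgroup.subset_closure (by simp)
  have hcz : ∀ a ∈ Subgroup.closure ({x 0, x 1} : Set G), Commute a z := by
    intro a ha
    obtain ⟨i, j, rfl⟩ := mem_closure_two (P.fr.xx 0 1) (P.fr.x_cube 0) (P.fr.x_cube 1) ha
    have c0 : Commute (x 0) z := P.fr.x_z 0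
    have c1 : Commute (x 1) z := P.fr.x_z 1
    exact (c0.pow_left _).mul_left (c1.pow_left _)
  -- `g` centralises `z`
  have hgz : g * z = z * g := by
    have h1 : g⁻¹ * x 0 * g ∈ Subgroup.closure ({x 0, x 1} : Set G) := by
      have h2 := (Subgroup.mem_normalizer_iff.1 (Subgroup.inv_mem _ hg')) ⟨x 0, hP hx0⟩
      have h4 : (⟨x 0, hP hx0⟩ : S) ∈ (Subgroup.closure {x 0, x 1}).subgroupOf S := hx0
      have h5 := h2.1 h4
      have h6 : (((⟨g, hgS⟩ : S)⁻¹ * ⟨x 0, hP hx0⟩ * (⟨g, hgS⟩ : S)⁻¹⁻¹ : S) : G) ∈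
        Subgroup.closure ({x 0, x 1} : Set G) := h5
      have e : (((⟨g, hgS⟩ : S)⁻¹ * ⟨x 0, hP hx0⟩ * (⟨g, hgS⟩ : S)⁻¹⁻¹ : S) : G) = g⁻¹ * x 0 * g := by
        show g⁻¹ * x 0 * g⁻¹⁻¹ = g⁻¹ * x 0 * g
        rw [inv_inv]
      rwa [e] at h6
    have h2 := (hcz _ h1).eq
    have h4 : (g * z * g⁻¹) * x 0 = x 0 * (g * z * g⁻¹) := by
      calc g * z * g⁻¹ * x 0 = g * (z * (g⁻¹ * x 0 * g)) * g⁻¹ := by group
        _ = g * (g⁻¹ * x 0 * g * z) * g⁻¹ := by rw [h2]
        _ = _ := by group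
    have h5 := P.unique_z hbad 0 g h4
    rwa [mul_inv_eq_iff_eq_mul] at h5
  -- `g` has odd order
  have hodd : Odd (orderOf g) := by
    obtain ⟨n, hn⟩ := hS ⟨g, hgS⟩
    have h1 : g ^ 3 ^ n = 1 := congrArg Subtype.val hn
    have h2 : orderOf g ∣ 3 ^ n := orderOf_dvd_of_pow_eq_one h1
    exact Odd.of_dvd_nat (Odd.pow (by decide)) h2
  set f := P.fr.large.act ⟨g, Subgroup.mem_centralizer_singleton_iff.2 hgz⟩ with hf
  -- `f` fixes `u 2 + u 3`
  have hfe : f (P.fr.input.u 2 + P.fr.input.u 3) = P.fr.input.u 2 + P.fr.input.u 3 := by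
    have e1 : P.fr.input.u 2 + P.fr.input.u 3 = P.fr.large.pr (⟨I 2, P.fr.I_mem 2⟩ * ⟨I 3, P.fr.I_mem 3⟩) :=
      rfl
    rw [e1, hf, P.fr.large.act_pr]
    refine congrArg _ (Subtype.ext ?_)
    show g * (I 2 * I 3) * g⁻¹ = I 2 * I 3
    rw [hs g hgS]; group
  have hnorm := P.fr.input.norm f ⟨_, rfl⟩
  have hPm : ∀ k, ∃ l, P.fr.input.Pm (f * P.fr.input.ξ k * f⁻¹) l := fun k => hnorm k
  -- fixing `u 2 + u 3`
  have hfix : ∀ (m : P.fr.large.V ≃ₗ[ZMod 2] P.fr.large.V) (l : Fin 4), P.fr.input.Pm m l →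
      (m (P.fr.input.u 2 + P.fr.input.u 3) = P.fr.input.u 2 + P.fr.input.u 3 ↔ l = 0 ∨ l = 1) := by
    intro m l hm
    rw [map_add]
    constructor
    · intro h
      by_contra hcon
      push Not at hcon
      have : l = 2 ∨ l = 3 := fin4_a l hcon.1 hcon.2
      rcases this with rfl | rfl
      · rw [hm.u (l := 3) (by decide)] at h
        exact hm.ne (add_right_cancel h)
      · rw [hm.u (l := 2) (by decide)] at h
        exact hm.ne (add_left_cancel h)
    · rintro (rfl | rfl)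
      · rw [hm.u (by decide), hm.u (by decide)]
      · rw [hm.u (by decide), hm.u (by decide)]
  have hconj : ∀ (m : P.fr.large.V ≃ₗ[ZMod 2] P.fr.large.V),
      ((f * m * f⁻¹) (P.fr.input.u 2 + P.fr.input.u 3) = P.fr.input.u 2 + P.fr.input.u 3 ↔
        m (P.fr.input.u 2 + P.fr.input.u 3) = P.fr.input.u 2 + P.fr.input.u 3) := by
    intro m
    have h1 : f⁻¹ (P.fr.input.u 2 + P.fr.input.u 3) = P.fr.input.u 2 + P.fr.input.u 3 :=
      Input.inv_apply_eq hfe
    show f (m (f⁻¹ (P.fr.input.u 2 + P.fr.input.u 3))) = _ ↔ _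
    rw [h1]
    constructor
    · intro h
      apply f.injective
      rw [h, hfe]
    · intro h
      rw [h, hfe]
  have hstab : ∀ k l, P.fr.input.Pm (f * P.fr.input.ξ k * f⁻¹) l → ((l = 0 ∨ l = 1) ↔ (k = 0 ∨ k = 1)) := by
    intro k l hl
    rw [← hfix _ l hl, hconj, hfix _ k (Or.inl rfl)]
  have hf4 : ∀ k, Commute (f * f * (f * f)) (P.fr.input.ξ k) := by
    have h01 : ∀ a b : Fin 4, a ≠ b → (a = 0 ∨ a = 1) → (b = 0 ∨ b = 1) →
        Commute (f * f * (f * f)) (P.fr.input.ξ a) := by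
      intro a b hab ha hb
      obtain ⟨l, hl⟩ := hPm a
      obtain ⟨m, hm⟩ := hPm b
      have h1 := (hstab a l hl).2 ha
      have h2 := (hstab b m hm).2 hb
      exact Input.comm_four hab hl hm (fin4_b a b l hab ha hb h1) (fin4_b a b m hab ha hb h2)
    have h23 : ∀ a b : Fin 4, a ≠ b → ¬ (a = 0 ∨ a = 1) → ¬ (b = 0 ∨ b = 1) →
        Commute (f * f * (f * f)) (P.fr.input.ξ a) := by
      intro a b hab ha hb
      obtain ⟨l, hl⟩ := hPm a
      obtain ⟨m, hm⟩ := hPm b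
      have h1 := fun h => ha ((hstab a l hl).1 h)
      have h2 := fun h => hb ((hstab b m hm).1 h)
      exact Input.comm_four hab hl hm (fin4_c a b l hab ha hb h1) (fin4_c a b m hab ha hb h2)
    intro k
    rcases Input.fin4 k with rfl | rfl | rfl | rfl
    · exact h01 0 1 (by decide) (by decide) (by decide)
    · exact h01 1 0 (by decide) (by decide) (by decide)
    · exact h23 2 3 (by decide) (by decide) (by decide)
    · exact h23 3 2 (by decide) (by decide) (by decide)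
  have hfo : Odd (orderOf f) := by
    have h5 : orderOf f ∣ orderOf (⟨g, Subgroup.mem_centralizer_singleton_iff.2 hgz⟩ :
      Subgroup.centralizer ({z} : Set G)) := orderOf_map_dvd _ _
    rw [Subgroup.orderOf_mk] at h5
    exact Odd.of_dvd_nat hodd h5
  have hfc : ∀ k, f * P.fr.input.ξ k = P.fr.input.ξ k * f := by
    intro k
    have hfo2 : Odd (orderOf (f * f)) := by
      refine Odd.of_dvd_nat hfo ?_
      rw [← pow_two]
      exact orderOf_pow_dvd 2
    obtain ⟨m, hm⟩ := odd_mem_sq hfo2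
    have h6 : Commute (f * f) (P.fr.input.ξ k) := by
      rw [hm]; exact (hf4 k).pow_left m
    obtain ⟨m', hm'⟩ := odd_mem_sq hfo
    have h7 : Commute f (P.fr.input.ξ k) := by
      rw [hm']; exact h6.pow_left m'
    exact h7.eq
  obtain ⟨i, hi, ⟨q, hq, hgq⟩, hi2⟩ := P.fr.exists_conj_prod hgz hodd hfc
  have hcomb : P.fr.input.comb (fun k => ((![0, 0, 1, 1] : Fin 4 → ZMod 2) k, 0)) =
      P.fr.input.u 2 + P.fr.input.u 3 := by
    unfold Input.comb
    rw [Fin.sum_univ_four]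
    simp
  have hcoord := Inv.act_fix_coord P.fr hi hi2 ⟨_, rfl⟩ (c := ![0, 0, 1, 1]) (by rw [hcomb]; exact hfe)
  have hi20 : i 2 = 0 := by
    rcases hcoord 2 with h | h
    · exact h
    · exact absurd h (by decide)
  have hi30 : i 3 = 0 := by
    rcases hcoord 3 with h | h
    · exact h
    · exact absurd h (by decide)
  set p := prod4 (fun k => x k ^ i k) with hp
  have hpe : p = x 0 ^ i 0 * x 1 ^ i 1 := by
    rw [hp]
    unfold prod4
    simp only [hi20, hi30, pow_zero, mul_one]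
  have hpP : p ∈ Subgroup.closure ({x 0, x 1} : Set G) := by
    rw [hpe]
    exact mul_mem (pow_mem hx0 _) (pow_mem hx1 _)
  have h1 : g * p⁻¹ ∈ Q := by
    rw [hgq]
    have hpz : p * z = z * p := P.fr.prod4_x_comm i
    have := P.fr.large.conj_mem p hpz _ (inv_mem hq)
    have e : q * p * q⁻¹ * p⁻¹ = q * (p * q⁻¹ * p⁻¹) := by group
    rw [e]
    exact mul_mem hq this
  have h2 : g * p⁻¹ ∈ S := mul_mem hgS (inv_mem (hP hpP))
  have h4 : g * p⁻¹ = 1 := by
    apply P.fr.odd_mem_Q h1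
    obtain ⟨n, hn⟩ := hS ⟨g * p⁻¹, h2⟩
    have h1 : (g * p⁻¹) ^ 3 ^ n = 1 := congrArg Subtype.val hn
    exact Odd.of_dvd_nat (Odd.pow (by decide)) (orderOf_dvd_of_pow_eq_one h1)
  apply hgn
  have : g = p := by
    calc g = g * p⁻¹ * p := by group
      _ = p := by rw [h4, one_mul]
  rw [this]
  exact hpP

end PreSetup

end Cfsg.Agent.TypeD4Three
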