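import Cfsg.Agent.TypeD4Three.Input
import Cfsg.Agent.LargeExtra.Perp

/-!
# S1763, case [P] : coordinates (helper951)

For `inp : Input h`: `phi inp w k` is the component of `w` in the `k`-th plane, in coordinates
`W = ZMod 2 × ZMod 2`; `Rep inp f π g` : `f` maps the `k`-th plane to the `π k`-th plane by `g k`.
-/

set_option autoImplicit false

namespace Cfsg.Agent.TypeD4Three.Coords

open Cfsg.Agent.Co2Type.Quad

/-- one plane -/
abbrev W : Type := ZMod 2 × ZMod 2

/-- the form -/
def om (x y : W) : ZMod 2 := x.1 * y.2 + x.2 * y.1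

/-- the quadratic form -/
def qW (x : W) : ZMod 2 := x.1 + x.2 + x.1 * x.2

/-- the rotation -/
def R (x : W) : W := (x.2, x.1 + x.2)

theorem R_add (x y : W) : R (x + y) = R x + R y := by
  unfold R
  ext
  · rfl
  · show x.1 + y.1 + (x.2 + y.2) = x.1 + x.2 + (y.1 + y.2)
    ring

/-- the rotation as a permutation -/
def RP : Equiv.Perm W where
  toFun := R
  invFun x := R (R x)
  left_inv := by decide
  right_inv := by decide

/-- linear permutations -/
def Lin (g : Equiv.Perm W) : Prop := ∀ x y, g (x + y) = g x + g y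

instance (g : Equiv.Perm W) : Decidable (Lin g) := inferInstanceAs (Decidable (∀ x y, g (x + y) = g x + g y))

theorem lin_RP : Lin RP := R_add

theorem lin_one : Lin 1 := fun _ _ => rfl

theorem Lin.mul {g g' : Equiv.Perm W} (h : Lin g) (h' : Lin g') : Lin (g * g') := by
  intro x y
  show g (g' (x + y)) = g (g' x) + g (g' y)
  rw [h', h]

theorem Lin.zero {g : Equiv.Perm W} (h : Lin g) : g 0 = 0 := by
  have := h 0 0
  rw [add_zero] at this
  exact left_eq_add.1 this

theorem Lin.inv {g : Equiv.Perm W} (h : Lin g) : Lin g⁻¹ := by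
  intro x y
  have e : ∀ x, g (g⁻¹ x) = x := g.apply_symm_apply
  apply g.injective
  rw [h, e, e, e]

theorem Lin.ne {g : Equiv.Perm W} (h : Lin g) {x : W} (hx : x ≠ 0) : g x ≠ 0 := by
  intro h'
  apply hx
  apply g.injective
  rw [h', h.zero]

theorem w1 : ∀ g : Equiv.Perm W, Lin g → Equiv.Perm.sign g = 1 → ∀ x, g (R x) = R (g x) := by
  decide +kernel

theorem w2 : ∀ g : Equiv.Perm W, Lin g → Equiv.Perm.sign g = -1 → ∀ x, g (R x) = R (g x) + g x := by
  decide +kernel

theorem w3 : ∀ g : Equiv.Perm W, Lin g → Equiv.Perm.sign g = 1 → ∀ x, x ≠ 0 → g x = x → g = 1 := by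
  decide +kernel

theorem w4 : ∀ g : Equiv.Perm W, Lin g → Equiv.Perm.sign g = -1 → ∃ x, x ≠ 0 ∧ g x = x := by
  decide +kernel

theorem w5 : ∀ g : Equiv.Perm W, Lin g → Equiv.Perm.sign g = 1 → g * g = 1 → g = 1 := by
  decide +kernel

theorem w6 : ∀ g : Equiv.Perm W, Lin g → g * g = 1 →
    (RP * g * RP⁻¹ * g⁻¹) * (RP * g * RP⁻¹ * g⁻¹) = 1 → g = 1 := by
  decide +kernel

theorem sign_RP : Equiv.Perm.sign RP = 1 := by decide +kernel

theorem om_R : ∀ x : W, x ≠ 0 → om x (R x) = 1 := by decide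

theorem om_self : ∀ x : W, om x x = 0 := by decide

theorem om_comm : ∀ x y : W, om x y = om y x := by decide

theorem om_add : ∀ x y y' : W, om x (y + y') = om x y + om x y' := by decide

theorem om_zero : ∀ x : W, om x 0 = 0 := by decide

theorem qW_eq : ∀ x : W, qW x = if x = 0 then 0 else 1 := by decide

theorem qW_add : ∀ x y : W, qW (x + y) = qW x + qW y + om x y := by decide

theorem R_ne : ∀ x : W, x ≠ 0 → R x ≠ 0 := by decide

theorem R_ne_self : ∀ x : W, x ≠ 0 → R x ≠ x := by decide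

theorem trans_R : ∀ x y : W, x ≠ 0 → y ≠ 0 → ∃ n : Fin 3, (RP ^ (n : ℕ)) x = y := by decide +kernel

theorem add_self (x : W) : x + x = 0 := by revert x; decide

theorem add_self4 (c : Fin 4 → W) : c + c = 0 := by
  funext k
  exact add_self (c k)

variable {G : Type*} [Group G] {Q : Subgroup G} {z : G} {h : Large Q z} (inp : Input h)

/-- coordinates -/
noncomputable def phi (w : h.V) (k : Fin 4) : W := (h.b w (inp.v k), h.b w (inp.u k))

/-- the vector with given coordinates -/
noncomputable def psi (c : Fin 4 → W) : h.V := ∑ k, ((c k).1 • inp.u k + (c k).2 • inp.v k)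

theorem phi_add (w w' : h.V) : phi inp (w + w') = phi inp w + phi inp w' := by
  funext k
  unfold phi
  ext
  · show h.b (w + w') (inp.v k) = h.b w (inp.v k) + h.b w' (inp.v k)
    rw [map_add, LinearMap.add_apply]
  · show h.b (w + w') (inp.u k) = h.b w (inp.u k) + h.b w' (inp.u k)
    rw [map_add, LinearMap.add_apply]

theorem phi_zero : phi inp 0 = 0 := by
  funext k
  unfold phi
  ext
  · show h.b 0 (inp.v k) = 0
    rw [map_zero, LinearMap.zero_apply]
  · show h.b 0 (inp.u k) = 0
    rw [map_zero, LinearMap.zero_apply]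

theorem phi_sum {ι : Type*} (s : Finset ι) (f : ι → h.V) :
    phi inp (∑ i ∈ s, f i) = ∑ i ∈ s, phi inp (f i) := by
  classical
  induction s using Finset.induction_on with
  | empty => rw [Finset.sum_empty, Finset.sum_empty, phi_zero]
  | insert i s hi ih => rw [Finset.sum_insert hi, Finset.sum_insert hi, phi_add, ih]

theorem phi_u (k : Fin 4) : phi inp (inp.u k) = Pi.single k (1, 0) := by
  funext l
  unfold phi
  by_cases hkl : l = k
  · subst hkl
    rw [Pi.single_eq_same, inp.b_uv, h.b_self]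
  · rw [Pi.single_eq_of_ne hkl, inp.b_uv' k l (Ne.symm hkl), inp.b_uu k l (Ne.symm hkl)]
    rfl

theorem phi_v (k : Fin 4) : phi inp (inp.v k) = Pi.single k (0, 1) := by
  funext l
  unfold phi
  by_cases hkl : l = k
  · subst hkl
    rw [Pi.single_eq_same, h.b_self, h.b_comm, inp.b_uv]
  · rw [Pi.single_eq_of_ne hkl, inp.b_vv k l (Ne.symm hkl), h.b_comm, inp.b_uv' l k hkl]
    rfl

theorem phi_smul (a : ZMod 2) (w : h.V) : phi inp (a • w) = a • phi inp w := by
  have ha : a = 0 ∨ a = 1 := by revert a; decide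
  rcases ha with rfl | rfl
  · rw [zero_smul, zero_smul, phi_zero]
  · rw [one_smul, one_smul]

theorem phi_psi (c : Fin 4 → W) : phi inp (psi inp c) = c := by
  funext k
  rw [psi, phi_sum, Finset.sum_apply, Finset.sum_eq_single k]
  · rw [phi_add, phi_smul, phi_smul, phi_u, phi_v, Pi.add_apply, Pi.smul_apply, Pi.smul_apply,
      Pi.single_eq_same, Pi.single_eq_same]
    ext
    · show (c k).1 * 1 + (c k).2 * 0 = (c k).1
      ring
    · show (c k).1 * 0 + (c k).2 * 1 = (c k).2
      ring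
  · intro l _ hl
    rw [phi_add, phi_smul, phi_smul, phi_u, phi_v, Pi.add_apply, Pi.smul_apply, Pi.smul_apply,
      Pi.single_eq_of_ne (Ne.symm hl), Pi.single_eq_of_ne (Ne.symm hl), smul_zero, smul_zero, add_zero]
  · intro hk
    exact absurd (Finset.mem_univ k) hk

include inp in
theorem card_V : Nat.card h.V = 256 := by
  have h1 := h.card_eq
  rw [inp.card] at h1
  omega

include inp in
theorem finite_V : Finite h.V := Nat.finite_of_card_ne_zero (by rw [card_V inp]; norm_num)

theorem phi_bijective : Function.Bijective (phi inp) := by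
  have hfin := finite_V inp
  rw [Nat.bijective_iff_surjective_and_card]
  refine ⟨fun c => ⟨psi inp c, phi_psi inp c⟩, ?_⟩
  rw [card_V inp, Nat.card_eq_fintype_card]
  simp

theorem phi_inj {w w' : h.V} (H : phi inp w = phi inp w') : w = w' := (phi_bijective inp).1 H

theorem psi_phi (w : h.V) : psi inp (phi inp w) = w := phi_inj inp (phi_psi inp _)

theorem psi_add (c c' : Fin 4 → W) : psi inp (c + c') = psi inp c + psi inp c' := by
  apply phi_inj inp
  rw [phi_add, phi_psi, phi_psi, phi_psi]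

theorem psi_zero : psi inp 0 = 0 := by
  apply phi_inj inp
  rw [phi_psi, phi_zero]

/-- coordinates as an additive equivalence -/
noncomputable def phiE : h.V ≃+ (Fin 4 → W) :=
  { Equiv.ofBijective _ (phi_bijective inp) with map_add' := phi_add inp }

theorem phiE_apply (w : h.V) : phiE inp w = phi inp w := rfl

/-- the bilinear form in coordinates -/
theorem b_eq (w w' : h.V) : h.b w w' = ∑ k, om (phi inp w k) (phi inp w' k) := by
  conv_lhs => rw [← psi_phi inp w']
  rw [psi, map_sum]
  apply Finset.sum_congr rfl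
  intro k _
  rw [map_add, map_smul, map_smul, smul_eq_mul, smul_eq_mul]
  unfold om phi
  ring

/-- the quadratic form in coordinates -/
theorem q_eq (w : h.V) : h.q w = ∑ k, qW (phi inp w k) := by
  conv_lhs => rw [← psi_phi inp w]
  rw [psi, Fin.sum_univ_four, Fin.sum_univ_four]
  have hb : ∀ (c c' : W) (k l : Fin 4), k ≠ l →
      h.b (c.1 • inp.u k + c.2 • inp.v k) (c'.1 • inp.u l + c'.2 • inp.v l) = 0 := by
    intro c c' k l hkl
    simp only [map_add, map_smul, LinearMap.add_apply, LinearMap.smul_apply, inp.b_uu k l hkl,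
      inp.b_uv' k l hkl, inp.b_vv k l hkl, h.b_comm (inp.v k) (inp.u l), inp.b_uv' l k (Ne.symm hkl),
      smul_zero, add_zero]
  have hs : ∀ (c : W) (k : Fin 4), h.q (c.1 • inp.u k + c.2 • inp.v k) = qW c := by
    rintro ⟨x, y⟩ k
    have hx : x = 0 ∨ x = 1 := by revert x; decide
    have hy : y = 0 ∨ y = 1 := by revert y; decide
    rcases hx with rfl | rfl <;> rcases hy with rfl | rfl
    · show h.q ((0 : ZMod 2) • inp.u k + (0 : ZMod 2) • inp.v k) = _
      rw [zero_smul, zero_smul, add_zero, h.q_zero]; rfl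
    · show h.q ((0 : ZMod 2) • inp.u k + (1 : ZMod 2) • inp.v k) = _
      rw [zero_smul, one_smul, zero_add, inp.q_v]; rfl
    · show h.q ((1 : ZMod 2) • inp.u k + (0 : ZMod 2) • inp.v k) = _
      rw [zero_smul, one_smul, add_zero, inp.q_u]; rfl
    · show h.q ((1 : ZMod 2) • inp.u k + (1 : ZMod 2) • inp.v k) = _
      rw [one_smul, one_smul, h.q_add', inp.q_u, inp.q_v, inp.b_uv]; rfl
  have hA : ∀ k l, k ≠ l → h.b ((phi inp w k).1 • inp.u k + (phi inp w k).2 • inp.v k)
      ((phi inp w l).1 • inp.u l + (phi inp w l).2 • inp.v l) = 0 := fun k l hkl => hb _ _ k l hkl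
  have hB : ∀ k, h.q ((phi inp w k).1 • inp.u k + (phi inp w k).2 • inp.v k) = qW (phi inp w k) :=
    fun k => hs _ k
  generalize hAA : (fun k => (phi inp w k).1 • inp.u k + (phi inp w k).2 • inp.v k) = A
  have hAk : ∀ k, (phi inp w k).1 • inp.u k + (phi inp w k).2 • inp.v k = A k :=
    fun k => congrFun hAA k
  simp only [hAk] at hA hB ⊢
  rw [h.q_add', h.q_add', h.q_add', hB, hB, hB, hB, map_add, map_add, LinearMap.add_apply,
    LinearMap.add_apply, map_add, LinearMap.add_apply, hA 0 1 (by decide), hA 0 2 (by decide),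
    hA 1 2 (by decide), hA 0 3 (by decide), hA 1 3 (by decide), hA 2 3 (by decide)]
  ring

theorem b_xi (k : Fin 4) (w w' : h.V) : h.b (inp.ξ k w) (inp.ξ k w') = h.b w w' := by
  obtain ⟨c, hc⟩ := inp.mem k
  rw [← hc, h.b_act]

theorem phi_xi (k : Fin 4) (w : h.V) :
    phi inp (inp.ξ k w) = Function.update (phi inp w) k (R (phi inp w k)) := by
  funext l
  by_cases hl : l = k
  · subst hl
    rw [Function.update_self]
    unfold phi R
    ext
    · show h.b (inp.ξ l w) (inp.v l) = h.b w (inp.u l)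
      rw [← inp.ξ_u l, b_xi]
    · show h.b (inp.ξ l w) (inp.u l) = h.b w (inp.v l) + h.b w (inp.u l)
      have e : inp.u l = inp.ξ l (inp.v l + inp.u l) := by
        rw [map_add, inp.ξ_v, inp.ξ_u, add_assoc, h.add_self, add_zero]
      conv_lhs => rw [e]
      rw [b_xi, map_add]
  · rw [Function.update_of_ne hl]
    unfold phi
    ext
    · show h.b (inp.ξ k w) (inp.v l) = h.b w (inp.v l)
      conv_lhs => rw [← inp.ξ_v' k l (Ne.symm hl)]
      rw [b_xi]
    · show h.b (inp.ξ k w) (inp.u l) = h.b w (inp.u l)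
      conv_lhs => rw [← inp.ξ_u' k l (Ne.symm hl)]
      rw [b_xi]

/-- `f` maps the `k`-th plane to the `π k`-th plane by `g k` -/
def Rep (f : h.V ≃ₗ[ZMod 2] h.V) (π : Equiv.Perm (Fin 4)) (g : Fin 4 → Equiv.Perm W) : Prop :=
  (∀ k, Lin (g k)) ∧ ∀ w k, phi inp (f w) (π k) = g k (phi inp w k)

section Rep

variable {inp}
variable {f f' : h.V ≃ₗ[ZMod 2] h.V} {π π' : Equiv.Perm (Fin 4)} {g g' : Fin 4 → Equiv.Perm W}

theorem rep_one : Rep inp 1 1 1 := ⟨fun _ => lin_one, fun _ _ => rfl⟩

theorem Rep.mul (H : Rep inp f π g) (H' : Rep inp f' π' g') :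
    Rep inp (f * f') (π * π') (fun k => g (π' k) * g' k) := by
  refine ⟨fun k => (H.1 _).mul (H'.1 k), fun w k => ?_⟩
  show phi inp (f (f' w)) (π (π' k)) = g (π' k) (g' k (phi inp w k))
  rw [H.2, H'.2]

theorem Rep.inv (H : Rep inp f π g) : Rep inp f⁻¹ π⁻¹ (fun k => (g (π⁻¹ k))⁻¹) := by
  refine ⟨fun k => (H.1 _).inv, fun w k => ?_⟩
  have h1 := H.2 (f⁻¹ w) (π⁻¹ k)
  have e1 : f (f⁻¹ w) = w := f.apply_symm_apply w
  have e2 : π (π⁻¹ k) = k := π.apply_symm_apply k
  rw [e1, e2] at h1
  rw [h1]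
  exact ((g (π⁻¹ k)).symm_apply_apply _).symm

theorem Rep.unique (H : Rep inp f π g) (H' : Rep inp f π' g') : π = π' ∧ g = g' := by
  have hπ : π = π' := by
    ext k : 1
    by_contra hne
    obtain ⟨j, hj⟩ := π'.surjective (π k)
    have hjk : k ≠ j := by
      rintro rfl
      exact hne hj.symm
    have h1 := H.2 (psi inp (Pi.single k (1, 0))) k
    rw [← hj, H'.2, phi_psi, Pi.single_eq_same, Pi.single_eq_of_ne (Ne.symm hjk), (H'.1 j).zero] at h1
    exact (H.1 k).ne (x := (1, 0)) (by decide) h1.symm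
  subst hπ
  refine ⟨rfl, ?_⟩
  funext k
  ext x : 1
  have h1 := H.2 (psi inp (Pi.single k x)) k
  rw [H'.2, phi_psi, Pi.single_eq_same] at h1
  exact h1.symm

theorem Rep.ext (H : Rep inp f π g) (H' : Rep inp f' π g) : f = f' := by
  apply LinearEquiv.ext
  intro w
  apply phi_inj inp
  funext k
  obtain ⟨j, rfl⟩ := π.surjective k
  rw [H.2, H'.2]

theorem rep_xi (k : Fin 4) : Rep inp (inp.ξ k) 1 (Function.update 1 k RP) := by
  refine ⟨fun l => ?_, fun w l => ?_⟩
  · by_cases hl : l = k
    · subst hl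
      rw [Function.update_self]
      exact lin_RP
    · rw [Function.update_of_ne hl]
      exact lin_one
  · rw [phi_xi]
    show Function.update (phi inp w) k (R (phi inp w k)) l = _
    by_cases hl : l = k
    · subst hl
      rw [Function.update_self, Function.update_self]
      rfl
    · rw [Function.update_of_ne hl, Function.update_of_ne hl]
      rfl

end Rep

/-- vectors of the `k`-th plane -/
def InPl (k : Fin 4) (w : h.V) : Prop := ∀ l, l ≠ k → phi inp w l = 0

theorem inPl_single (k : Fin 4) (x : W) : InPl inp k (psi inp (Pi.single k x)) := by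
  intro l hl
  rw [phi_psi, Pi.single_eq_of_ne hl]

theorem inPl_xi_add (k : Fin 4) (w : h.V) : InPl inp k (inp.ξ k w + w) := by
  intro l hl
  rw [phi_add, phi_xi, Pi.add_apply, Function.update_of_ne hl, add_self]

theorem inPl_xi_inv_add (k : Fin 4) (w : h.V) : InPl inp k ((inp.ξ k)⁻¹ w + w) := by
  have e : inp.ξ k ((inp.ξ k)⁻¹ w) = w := (inp.ξ k).apply_symm_apply w
  have h1 := inPl_xi_add inp k ((inp.ξ k)⁻¹ w)
  rw [e, add_comm] at h1
  exact h1

theorem eq_of_inPl {k : Fin 4} {w : h.V} (hw : InPl inp k w) : inp.ξ k (inp.ξ k w) + inp.ξ k w = w := by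
  apply phi_inj inp
  funext l
  rw [phi_add, phi_xi, phi_xi, Pi.add_apply]
  by_cases hl : l = k
  · subst hl
    rw [Function.update_self, Function.update_self, ]
    generalize phi inp w l = x
    revert x
    decide
  · rw [Function.update_of_ne hl, Function.update_of_ne hl, hw l hl, add_zero]

theorem inPl_map {f : h.V ≃ₗ[ZMod 2] h.V} {k l : Fin 4}
    (hf : f * inp.ξ k * f⁻¹ = inp.ξ l ∨ f * inp.ξ k * f⁻¹ = (inp.ξ l)⁻¹) {w : h.V} (hw : InPl inp k w) :
    InPl inp l (f w) := by
  have h1 := eq_of_inPl inp hw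
  have e : ∀ x, f (inp.ξ k x) = (f * inp.ξ k * f⁻¹) (f x) := by
    intro x
    show f (inp.ξ k x) = f (inp.ξ k (f⁻¹ (f x)))
    have : f⁻¹ (f x) = x := f.symm_apply_apply x
    rw [this]
  rw [← h1, map_add, e]
  rcases hf with h2 | h2
  · rw [h2]; exact inPl_xi_add inp l _
  · rw [h2]; exact inPl_xi_inv_add inp l _

theorem psi_sum_single (w : h.V) : w = ∑ j, psi inp (Pi.single j (phi inp w j)) := by
  apply phi_inj inp
  rw [phi_sum]
  funext k
  rw [Finset.sum_apply, Finset.sum_eq_single k]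
  · rw [phi_psi, Pi.single_eq_same]
  · intro j _ hj
    rw [phi_psi, Pi.single_eq_of_ne (Ne.symm hj)]
  · intro hk
    exact absurd (Finset.mem_univ k) hk

theorem exists_rep {f : h.V ≃ₗ[ZMod 2] h.V} (hf : f ∈ h.act.range) : ∃ π g, Rep inp f π g := by
  choose l hl using inp.norm f hf
  choose l' hl' using inp.norm f⁻¹ (inv_mem hf)
  have h1 : ∀ k w, InPl inp k w → InPl inp (l k) (f w) := fun k w hw => inPl_map inp (hl k) hw
  have h2 : ∀ k w, InPl inp k w → InPl inp (l' k) (f⁻¹ w) := fun k w hw => inPl_map inp (hl' k) hw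
  have h3 : ∀ k, l' (l k) = k := by
    intro k
    by_contra hne
    have h4 := h2 _ _ (h1 k _ (inPl_single inp k (1, 0)))
    have e : f⁻¹ (f (psi inp (Pi.single k (1, 0)))) = psi inp (Pi.single k (1, 0)) :=
      f.symm_apply_apply _
    have h5 := h4 k (Ne.symm hne)
    rw [e, phi_psi, Pi.single_eq_same] at h5
    exact absurd h5 (by decide)
  have hinj : Function.Injective l := Function.LeftInverse.injective h3
  let π : Equiv.Perm (Fin 4) := Equiv.ofBijective l (Finite.injective_iff_bijective.1 hinj)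
  let g0 : Fin 4 → W → W := fun k x => phi inp (f (psi inp (Pi.single k x))) (l k)
  have hadd : ∀ k x y, g0 k (x + y) = g0 k x + g0 k y := by
    intro k x y
    show phi inp (f (psi inp (Pi.single k (x + y)))) (l k) = _
    rw [Pi.single_add, psi_add, map_add, phi_add, Pi.add_apply]
  have hg : ∀ k, Function.Injective (g0 k) := by
    intro k x y hxy
    have h4 : f (psi inp (Pi.single k x)) = f (psi inp (Pi.single k y)) := by
      apply phi_inj inp
      funext j
      by_cases hj : j = l k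
      · rw [hj]; exact hxy
      · rw [h1 k _ (inPl_single inp k x) j hj, h1 k _ (inPl_single inp k y) j hj]
    have h5 := congrArg (phi inp) (f.injective h4)
    rw [phi_psi, phi_psi] at h5
    have h6 := congrFun h5 k
    rwa [Pi.single_eq_same, Pi.single_eq_same] at h6
  refine ⟨π, fun k => Equiv.ofBijective (g0 k) (Finite.injective_iff_bijective.1 (hg k)), hadd, ?_⟩
  intro w k
  show phi inp (f w) (l k) = g0 k (phi inp w k)
  conv_lhs => rw [psi_sum_single inp w, map_sum, phi_sum, Finset.sum_apply]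
  rw [Finset.sum_eq_single k]
  · intro j _ hj
    exact h1 j _ (inPl_single inp j _) _ fun h' => hj (hinj h').symm
  · intro hk
    exact absurd (Finset.mem_univ k) hk

theorem ne_iff (k : Fin 4) (w : h.V) : inp.ξ k w ≠ w ↔ phi inp w k ≠ 0 := by
  constructor
  · intro h1 h2
    apply h1
    apply phi_inj inp
    rw [phi_xi, h2]
    funext l
    by_cases hl : l = k
    · subst hl
      rw [Function.update_self, h2]
      rfl
    · rw [Function.update_of_ne hl]
  · intro h1 h2
    have h3 := congrFun (congrArg (phi inp) h2) k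
    rw [phi_xi, Function.update_self] at h3
    exact R_ne_self _ h1 h3

theorem phi_xi_inv (k : Fin 4) (w : h.V) :
    phi inp ((inp.ξ k)⁻¹ w) = Function.update (phi inp w) k (RP⁻¹ (phi inp w k)) := by
  have e : inp.ξ k ((inp.ξ k)⁻¹ w) = w := (inp.ξ k).apply_symm_apply w
  have h1 := phi_xi inp k ((inp.ξ k)⁻¹ w)
  rw [e] at h1
  rw [h1]
  funext l
  by_cases hl : l = k
  · subst hl
    rw [Function.update_self, Function.update_self]
    exact (RP.symm_apply_apply _).symm
  · rw [Function.update_of_ne hl, Function.update_of_ne hl]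

theorem rep_xi_pow (k : Fin 4) (n : ℕ) : Rep inp (inp.ξ k ^ n) 1 (Function.update 1 k (RP ^ n)) := by
  induction n with
  | zero =>
    rw [pow_zero, pow_zero]
    have e : Function.update (1 : Fin 4 → Equiv.Perm W) k 1 = 1 := by
      funext l
      by_cases hl : l = k
      · subst hl; rw [Function.update_self]; rfl
      · rw [Function.update_of_ne hl]
    rw [e]
    exact rep_one
  | succ n ih =>
    have h1 := ih.mul (rep_xi k)
    rw [pow_succ]
    have e : (fun l => (Function.update (1 : Fin 4 → Equiv.Perm W) k (RP ^ n)) ((1 : Equiv.Perm (Fin 4)) l) *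
        (Function.update (1 : Fin 4 → Equiv.Perm W) k RP) l) =
        Function.update (1 : Fin 4 → Equiv.Perm W) k (RP ^ (n + 1)) := by
      funext l
      by_cases hl : l = k
      · subst hl
        rw [Equiv.Perm.one_apply, Function.update_self, Function.update_self, Function.update_self, pow_succ]
      · rw [Equiv.Perm.one_apply, Function.update_of_ne hl, Function.update_of_ne hl,
          Function.update_of_ne hl]
        rfl
    rw [e, one_mul] at h1
    exact h1

/-- the elements of the group generated by the `ξ k` -/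
noncomputable def xin (n : Fin 4 → ℕ) : h.V ≃ₗ[ZMod 2] h.V :=
  inp.ξ 0 ^ n 0 * inp.ξ 1 ^ n 1 * inp.ξ 2 ^ n 2 * inp.ξ 3 ^ n 3

theorem rep_xin (n : Fin 4 → ℕ) : Rep inp (xin inp n) 1 (fun k => RP ^ n k) := by
  have h1 := (((rep_xi_pow inp 0 (n 0)).mul (rep_xi_pow inp 1 (n 1))).mul
    (rep_xi_pow inp 2 (n 2))).mul (rep_xi_pow inp 3 (n 3))
  have h4 : ∀ k : Fin 4, k = 0 ∨ k = 1 ∨ k = 2 ∨ k = 3 := by decide
  refine ⟨fun k => ?_, fun w k => ?_⟩
  · show Lin (RP ^ n k)
    induction n k with
    | zero => exact lin_one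
    | succ m ih => rw [pow_succ]; exact ih.mul lin_RP
  · have h2 := h1.2 w k
    have hk := h4 k
    show phi inp (xin inp n w) k = _
    have h3 : ((1 * 1 * 1 * 1 : Equiv.Perm (Fin 4))) k = k := rfl
    rw [h3] at h2
    refine Eq.trans h2 ?_
    rcases hk with rfl | rfl | rfl | rfl <;>
      simp [Function.update_of_ne]

theorem xin_mem (n : Fin 4 → ℕ) : xin inp n ∈ h.act.range :=
  mul_mem (mul_mem (mul_mem (pow_mem (inp.mem 0) _) (pow_mem (inp.mem 1) _)) (pow_mem (inp.mem 2) _))
    (pow_mem (inp.mem 3) _)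

theorem xin_mem_closure (n : Fin 4 → ℕ) : xin inp n ∈ Subgroup.closure (Set.range inp.ξ) := by
  have hk : ∀ k, inp.ξ k ∈ Subgroup.closure (Set.range inp.ξ) := fun k => Subgroup.subset_closure ⟨k, rfl⟩
  exact mul_mem (mul_mem (mul_mem (pow_mem (hk 0) _) (pow_mem (hk 1) _)) (pow_mem (hk 2) _))
    (pow_mem (hk 3) _)

theorem exists_xin {w w' : h.V} (hw : ∀ k, phi inp w k ≠ 0) (hw' : ∀ k, phi inp w' k ≠ 0) :
    ∃ n : Fin 4 → ℕ, xin inp n w = w' := by
  choose n hn using fun k => trans_R _ _ (hw k) (hw' k)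
  refine ⟨fun k => n k, ?_⟩
  apply phi_inj inp
  funext k
  have h1 := (rep_xin inp (fun k => (n k : ℕ))).2 w k
  rw [hn] at h1
  exact h1

theorem b_single (w : h.V) (k : Fin 4) (x : W) : h.b w (psi inp (Pi.single k x)) = om (phi inp w k) x := by
  rw [b_eq inp, Finset.sum_eq_single k]
  · rw [phi_psi, Pi.single_eq_same]
  · intro j _ hj
    rw [phi_psi, Pi.single_eq_of_ne hj, om_zero]
  · intro hk
    exact absurd (Finset.mem_univ k) hk

theorem q_single (k : Fin 4) (x : W) : h.q (psi inp (Pi.single k x)) = qW x := by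
  rw [q_eq inp, Finset.sum_eq_single k]
  · rw [phi_psi, Pi.single_eq_same]
  · intro j _ hj
    rw [phi_psi, Pi.single_eq_of_ne hj]
    rfl
  · intro hk
    exact absurd (Finset.mem_univ k) hk

theorem Rep.single {inp : Input h} {f : h.V ≃ₗ[ZMod 2] h.V} {π : Equiv.Perm (Fin 4)}
    {g : Fin 4 → Equiv.Perm W} (H : Rep inp f π g) (k : Fin 4) (x : W) :
    f (psi inp (Pi.single k x)) = psi inp (Pi.single (π k) (g k x)) := by
  apply phi_inj inp
  rw [phi_psi]
  funext l
  obtain ⟨j, rfl⟩ := π.surjective l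
  rw [H.2, phi_psi]
  by_cases hj : j = k
  · subst hj
    rw [Pi.single_eq_same, Pi.single_eq_same]
  · rw [Pi.single_eq_of_ne hj, Pi.single_eq_of_ne (fun h' => hj (π.injective h')), (H.1 j).zero]

/-! ### change of basis -/

theorem xi_single_same (k : Fin 4) (x : W) :
    inp.ξ k (psi inp (Pi.single k x)) = psi inp (Pi.single k (R x)) := by
  apply phi_inj inp
  rw [phi_xi, phi_psi, phi_psi]
  funext l
  by_cases hl : l = k
  · subst hl
    rw [Function.update_self, Pi.single_eq_same, Pi.single_eq_same]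
  · rw [Function.update_of_ne hl, Pi.single_eq_of_ne hl, Pi.single_eq_of_ne hl]

theorem xi_single_ne {k l : Fin 4} (hkl : k ≠ l) (x : W) :
    inp.ξ k (psi inp (Pi.single l x)) = psi inp (Pi.single l x) := by
  apply phi_inj inp
  rw [phi_xi, phi_psi]
  funext j
  by_cases hj : j = k
  · subst hj
    rw [Function.update_self, Pi.single_eq_of_ne hkl]
    rfl
  · rw [Function.update_of_ne hj]

theorem xi_inv_single_same (k : Fin 4) (x : W) :
    (inp.ξ k)⁻¹ (psi inp (Pi.single k x)) = psi inp (Pi.single k (R (R x))) := by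
  have e : ∀ w, (inp.ξ k)⁻¹ (inp.ξ k w) = w := (inp.ξ k).symm_apply_apply
  have h1 : inp.ξ k (psi inp (Pi.single k (R (R x)))) = psi inp (Pi.single k x) := by
    rw [xi_single_same]
    congr 2
    revert x
    decide
  rw [← h1, e]

theorem xi_inv_single_ne {k l : Fin 4} (hkl : k ≠ l) (x : W) :
    (inp.ξ k)⁻¹ (psi inp (Pi.single l x)) = psi inp (Pi.single l x) := by
  have e : ∀ w, (inp.ξ k)⁻¹ (inp.ξ k w) = w := (inp.ξ k).symm_apply_apply
  conv_lhs => rw [← xi_single_ne inp hkl x]
  rw [e]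

theorem beta_cases : ∀ x y : W, om x y = 1 → y = R x ∨ (y ≠ R x ∧ y = R (R x)) := by decide

theorem om_ne : ∀ x y : W, om x y = 1 → x ≠ 0 ∧ y ≠ 0 := by decide

theorem om_zero' : ∀ x : W, om 0 x = 0 := by decide

/-- new basis: `u k` has component `α k`, `v k` has component `β k` -/
noncomputable def rebase (α β : Fin 4 → W) (hβ : ∀ k, om (α k) (β k) = 1) : Input h where
  u k := psi inp (Pi.single k (α k))
  v k := psi inp (Pi.single k (β k))
  ξ k := if β k = R (α k) then inp.ξ k else (inp.ξ k)⁻¹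
  card := inp.card
  q_u k := by rw [q_single, qW_eq, if_neg (om_ne _ _ (hβ k)).1]
  q_v k := by rw [q_single, qW_eq, if_neg (om_ne _ _ (hβ k)).2]
  b_uv k := by rw [b_single, phi_psi, Pi.single_eq_same, hβ]
  b_uu k l hkl := by rw [b_single, phi_psi, Pi.single_eq_of_ne (Ne.symm hkl), om_zero']
  b_uv' k l hkl := by rw [b_single, phi_psi, Pi.single_eq_of_ne (Ne.symm hkl), om_zero']
  b_vv k l hkl := by rw [b_single, phi_psi, Pi.single_eq_of_ne (Ne.symm hkl), om_zero']
  ξ_u k := by
    rcases beta_cases _ _ (hβ k) with h1 | ⟨h1, h2⟩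
    · rw [if_pos h1, xi_single_same, ← h1]
    · rw [if_neg h1, xi_inv_single_same, ← h2]
  ξ_v k := by
    have key : ∀ x : W, R (R x) = x + R x := by decide
    have key2 : ∀ x : W, R (R (R (R x))) = x + R (R x) := by decide
    rcases beta_cases _ _ (hβ k) with h1 | ⟨h1, h2⟩
    · rw [if_pos h1, xi_single_same, ← psi_add, ← Pi.single_add, h1, key]
    · rw [if_neg h1, xi_inv_single_same, ← psi_add, ← Pi.single_add, h2, key2]
  ξ_u' k l hkl := by
    by_cases h1 : β k = R (α k)
    · rw [if_pos h1, xi_single_ne inp hkl]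
    · rw [if_neg h1, xi_inv_single_ne inp hkl]
  ξ_v' k l hkl := by
    by_cases h1 : β k = R (α k)
    · rw [if_pos h1, xi_single_ne inp hkl]
    · rw [if_neg h1, xi_inv_single_ne inp hkl]
  mem k := by
    by_cases h1 : β k = R (α k)
    · rw [if_pos h1]; exact inp.mem k
    · rw [if_neg h1]; exact inv_mem (inp.mem k)
  norm f hf k := by
    obtain ⟨l, hl⟩ := inp.norm f hf k
    have hl' : f * (inp.ξ k)⁻¹ * f⁻¹ = (inp.ξ l)⁻¹ ∨ f * (inp.ξ k)⁻¹ * f⁻¹ = inp.ξ l := by
      have e : f * (inp.ξ k)⁻¹ * f⁻¹ = (f * inp.ξ k * f⁻¹)⁻¹ := by group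
      rw [e]
      rcases hl with h1 | h1
      · left; rw [h1]
      · right; rw [h1, inv_inv]
    refine ⟨l, ?_⟩
    by_cases h1 : β k = R (α k) <;> by_cases h2 : β l = R (α l)
    · rw [if_pos h1, if_pos h2]; exact hl
    · rw [if_pos h1, if_neg h2, inv_inv]; exact hl.symm
    · rw [if_neg h1, if_pos h2]; exact hl'.symm
    · rw [if_neg h1, if_neg h2, inv_inv]; exact hl'

theorem rebase_xi (α β : Fin 4 → W) (hβ : ∀ k, om (α k) (β k) = 1) (k : Fin 4) :
    (rebase inp α β hβ).ξ k = inp.ξ k ∨ (rebase inp α β hβ).ξ k = (inp.ξ k)⁻¹ := by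
  show (if β k = R (α k) then inp.ξ k else (inp.ξ k)⁻¹) = _ ∨
    (if β k = R (α k) then inp.ξ k else (inp.ξ k)⁻¹) = _
  by_cases h1 : β k = R (α k)
  · left; rw [if_pos h1]
  · right; rw [if_neg h1]

theorem sum_rebase_u (α β : Fin 4 → W) (hβ : ∀ k, om (α k) (β k) = 1) :
    ∑ k, (rebase inp α β hβ).u k = psi inp α := by
  have h1 := psi_sum_single inp (psi inp α)
  rw [h1, phi_psi]
  rfl

theorem sum_rebase_v (α β : Fin 4 → W) (hβ : ∀ k, om (α k) (β k) = 1) :
    ∑ k, (rebase inp α β hβ).v k = psi inp β := by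
  have h1 := psi_sum_single inp (psi inp β)
  rw [h1, phi_psi]
  rfl

end Cfsg.Agent.TypeD4Three.Coords
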