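import Cfsg.Agent.TypeD4Three.ThreeE

/-!
# S1763, case [P] : `C(z)` and `ρ` normalise the group generated by the roots (helper754)
-/

set_option autoImplicit false

namespace Cfsg.Agent.TypeD4Three

open Cfsg.Agent.Co2Type.Quad

variable {G : Type*} [Group G]

/-- The group generated by all roots. -/
def RootGrp {G : Type*} [Group G] (x I : Fin 4 → G) (ρ : G) : Subgroup G :=
  Subgroup.closure {w | ∃ m k s, w = R x I ρ m k s}

/-- The group generated by the roots of type `0`. -/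
def RootGrp0 {G : Type*} [Group G] (x I : Fin 4 → G) : Subgroup G :=
  Subgroup.closure {w | ∃ k s, w = rt x I k s}

theorem R_mem (x I : Fin 4 → G) (ρ : G) (m : Fin 3) (k : Fin 4) (s : Bool) : R x I ρ m k s ∈ RootGrp x I ρ :=
  Subgroup.subset_closure ⟨m, k, s, rfl⟩

/-- `rm ρ m (RootGrp0) (rm ρ m)⁻¹ ≤ RootGrp` -/
theorem conj_root0 {x I : Fin 4 → G} {ρ : G} (m : Fin 3) {w : G} (hw : w ∈ RootGrp0 x I) :
    rm ρ m * w * (rm ρ m)⁻¹ ∈ RootGrp x I ρ := by
  have : RootGrp0 x I ≤ (RootGrp x I ρ).comap (MulAut.conj (rm ρ m)).toMonoidHom := by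
    unfold RootGrp0
    rw [Subgroup.closure_le]
    rintro w ⟨k, s, rfl⟩
    exact R_mem x I ρ m k s
  exact this hw

namespace Setup

variable {Q : Subgroup G} {z : G} {x I J : Fin 4 → G} {y ρ : G} (S : Setup Q z x I J y ρ)

include S

theorem rho_norm {w : G} (hw : w ∈ RootGrp x I ρ) : ρ * w * ρ⁻¹ ∈ RootGrp x I ρ := by
  have : RootGrp x I ρ ≤ (RootGrp x I ρ).comap (MulAut.conj ρ).toMonoidHom := by
    conv_lhs => unfold RootGrp
    rw [Subgroup.closure_le]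
    rintro w ⟨m, k, s, rfl⟩
    show ρ * R x I ρ m k s * ρ⁻¹ ∈ RootGrp x I ρ
    have h1 := S.R_rot m k s
    have h2 : R (fun k => ρ * x k * ρ⁻¹) (fun k => ρ * I k * ρ⁻¹) ρ m k s = ρ * R x I ρ m k s * ρ⁻¹ := by
      have h3 : rt (fun k => ρ * x k * ρ⁻¹) (fun k => ρ * I k * ρ⁻¹) k s = ρ * rt x I k s * ρ⁻¹ := by
        cases s
        · rfl
        · show ρ * I k * ρ⁻¹ * (ρ * x k * ρ⁻¹) * (ρ * I k * ρ⁻¹)⁻¹ = ρ * (I k * x k * (I k)⁻¹) * ρ⁻¹
          group
      have h4 : rm ρ m * ρ = ρ * rm ρ m := by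
        rcases fin3 m with rfl | rfl | rfl
        · show 1 * ρ = ρ * 1
          rw [one_mul, mul_one]
        · rfl
        · show ρ⁻¹ * ρ = ρ * ρ⁻¹
          group
      unfold R
      rw [h3]
      calc rm ρ m * (ρ * rt x I k s * ρ⁻¹) * (rm ρ m)⁻¹ = (rm ρ m * ρ) * rt x I k s * (rm ρ m * ρ)⁻¹ := by group
        _ = _ := by rw [h4]; group
    rw [← h2, h1]
    exact R_mem _ _ _ _ _ _
  exact this hw

theorem rho_inv_norm {w : G} (hw : w ∈ RootGrp x I ρ) : ρ⁻¹ * w * ρ ∈ RootGrp x I ρ := by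
  have h1 := S.rho_norm (S.rho_norm hw)
  have h2 : ρ * (ρ * w * ρ⁻¹) * ρ⁻¹ = ρ⁻¹ * w * ρ := by
    calc ρ * (ρ * w * ρ⁻¹) * ρ⁻¹ = (ρ * ρ) * w * (ρ * ρ)⁻¹ := by group
      _ = _ := by rw [S.rr]; group
  rw [h2] at h1
  exact h1

/-! ### `Q` and the `x k` are in `RootGrp0` -/

theorem I_root (k : Fin 4) : I k ∈ RootGrp0 x I := by
  have hrt : ∀ s, rt x I k s ∈ RootGrp0 x I := fun s => Subgroup.subset_closure ⟨k, s, rfl⟩
  have h1 : I k * z ∈ RootGrp0 x I := by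
    rw [← S.fr.xfx]
    exact Subgroup.mul_mem _ (Subgroup.mul_mem _ (hrt _) (hrt _)) (hrt _)
  have h2 : (I k * z) * (I k * z) * (I k * z) = I k := by
    have hc := S.fr.I_z k
    have e1 : (I k * z) * (I k * z) = z := by
      calc (I k * z) * (I k * z) = I k * (z * I k) * z := by group
        _ = (I k * I k) * (z * z) := by rw [← hc]; group
        _ = z := by rw [S.fr.I_sq, S.fr.z_sq, mul_one]
    rw [e1, hc, ← mul_assoc, S.fr.z_sq, one_mul]
  rw [← h2]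
  exact Subgroup.mul_mem _ (Subgroup.mul_mem _ h1 h1) h1

omit S in
theorem x_root (k : Fin 4) : x k ∈ RootGrp0 x I := Subgroup.subset_closure ⟨k, false, rfl⟩

theorem J_root (k : Fin 4) : J k ∈ RootGrp0 x I := by
  rw [← S.fr.x_I k]
  exact Subgroup.mul_mem _ (Subgroup.mul_mem _ (x_root k) (S.I_root k)) (Subgroup.inv_mem _ (x_root k))

theorem Q_root [Finite G] {q : G} (hq : q ∈ Q) : q ∈ RootGrp0 x I := by
  have hz : z ∈ RootGrp0 x I := by rw [← S.fr.I_sq 0]; exact Subgroup.mul_mem _ (S.I_root 0) (S.I_root 0)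
  obtain ⟨c, hc⟩ := S.fr.input.comb_surjective (S.fr.large.pr ⟨q, hq⟩)
  have hI : ∀ k, (bif decide ((c k).1 = 1) then I k else 1) ∈ Q := by
    intro k
    cases decide ((c k).1 = 1)
    · exact Q.one_mem
    · exact S.fr.I_mem k
  have hJ : ∀ k, (bif decide ((c k).2 = 1) then J k else 1) ∈ Q := by
    intro k
    cases decide ((c k).2 = 1)
    · exact Q.one_mem
    · exact S.fr.J_mem k
  have h1 := Inv.pr_bif S.fr S.fr.I_mem (fun k => (c k).1) hI
  have h2 := Inv.pr_bif S.fr S.fr.J_mem (fun k => (c k).2) hJ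
  set qi := prod4 fun k => bif decide ((c k).1 = 1) then I k else 1 with hqi
  set qj := prod4 fun k => bif decide ((c k).2 = 1) then J k else 1 with hqj
  have hqiQ : qi ∈ Q := prod4_mem hI
  have hqjQ : qj ∈ Q := prod4_mem hJ
  have hi : qi ∈ RootGrp0 x I := by
    refine prod4_mem fun k => ?_
    cases decide ((c k).1 = 1)
    · exact Subgroup.one_mem _
    · exact S.I_root k
  have hj : qj ∈ RootGrp0 x I := by
    refine prod4_mem fun k => ?_
    cases decide ((c k).2 = 1)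
    · exact Subgroup.one_mem _
    · exact S.J_root k
  have h3 : S.fr.large.pr ⟨q, hq⟩ = S.fr.large.pr (⟨qi, hqiQ⟩ * ⟨qj, hqjQ⟩) := by
    rw [S.fr.large.pr_mul, ← hc]
    have h1' : S.fr.large.pr ⟨qi, hqiQ⟩ = ∑ k, (c k).1 • S.fr.input.u k := h1
    have h2' : S.fr.large.pr ⟨qj, hqjQ⟩ = ∑ k, (c k).2 • S.fr.input.v k := h2
    rw [h1', h2', ← Finset.sum_add_distrib]
    rfl
  rcases S.fr.large.pr_eq_pr.1 h3 with h4 | h4
  · have h5 : q = qi * qj := h4
    rw [h5]; exact Subgroup.mul_mem _ hi hj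
  · have h5 : q = qi * qj * z := h4
    rw [h5]; exact Subgroup.mul_mem _ (Subgroup.mul_mem _ hi hj) hz

omit S in
theorem root0_le {w : G} (hw : w ∈ RootGrp0 x I) : w ∈ RootGrp x I ρ := by
  have := conj_root0 (ρ := ρ) 0 hw
  rw [rm_zero] at this
  have h1 : 1 * w * 1⁻¹ = w := by group
  rw [h1] at this
  exact this

/-- elements of `C(z, y)` normalise `RootGrp0` -/
theorem cent_root0 [Finite G] {c : G} (hz : c * z = z * c) (hy : c * y = y * c) {w : G} (hw : w ∈ RootGrp0 x I) :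
    c * w * c⁻¹ ∈ RootGrp0 x I := by
  have : RootGrp0 x I ≤ (RootGrp0 x I).comap (MulAut.conj c).toMonoidHom := by
    conv_lhs => unfold RootGrp0
    rw [Subgroup.closure_le]
    rintro w ⟨k, s, rfl⟩
    show c * rt x I k s * c⁻¹ ∈ RootGrp0 x I
    have h1 := S.fr.rt_z k s
    have h2 : (c * rt x I k s * c⁻¹) * z = z * (c * rt x I k s * c⁻¹) := by
      have e1 : Commute c z := hz
      have e2 : Commute (rt x I k s) z := h1
      exact ((e1.mul_left e2).mul_left e1.inv_left).eq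
    have h3 : Odd (orderOf (c * rt x I k s * c⁻¹)) := by
      apply odd_of_cube
      calc c * rt x I k s * c⁻¹ * (c * rt x I k s * c⁻¹) * (c * rt x I k s * c⁻¹)
          = c * (rt x I k s * rt x I k s * rt x I k s) * c⁻¹ := by group
        _ = 1 := by rw [S.fr.rt_cube]; group
    have h4 : y * (c * rt x I k s * c⁻¹) * y⁻¹ = (c * rt x I k s * c⁻¹)⁻¹ := by
      calc y * (c * rt x I k s * c⁻¹) * y⁻¹ = (y * c) * rt x I k s * (y * c)⁻¹ := by group
        _ = c * (y * rt x I k s * y⁻¹) * c⁻¹ := by rw [← hy]; group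
        _ = _ := by rw [S.inv.rt_inv S.fr]; group
    obtain ⟨i, t, _, h5, _⟩ := Inv.exists_prod S.fr S.inv h2 h3 h4
    rw [h5]
    exact prod4_mem fun j =>
      Subgroup.pow_mem _ (show rt x I j (t j) ∈ RootGrp0 x I from Subgroup.subset_closure ⟨j, t j, rfl⟩) _
  exact this hw

theorem rm_cent {c : G} (hz : c * z = z * c) (hy : c * y = y * c) (m : Fin 3) :
    ((rm ρ m)⁻¹ * c * rm ρ m) * z = z * ((rm ρ m)⁻¹ * c * rm ρ m) ∧
      ((rm ρ m)⁻¹ * c * rm ρ m) * y = y * ((rm ρ m)⁻¹ * c * rm ρ m) := by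
  have cz : Commute c z := hz
  have cy : Commute c y := hy
  have czy : Commute c (z * y) := cz.mul_right cy
  have key : ∀ g t t' : G, g * t * g⁻¹ = t' → Commute c t' → (g⁻¹ * c * g) * t = t * (g⁻¹ * c * g) := by
    intro g t t' h1 h2
    calc (g⁻¹ * c * g) * t = g⁻¹ * (c * (g * t * g⁻¹)) * g := by group
      _ = g⁻¹ * ((g * t * g⁻¹) * c) * g := by rw [h1, h2.eq]
      _ = _ := by group
  rcases fin3 m with rfl | rfl | rfl
  · exact ⟨key 1 z z (by group) cz, key 1 y y (by group) cy⟩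
  · exact ⟨key ρ z y S.rz cy, key ρ y _ S.ry czy⟩
  · refine ⟨key ρ⁻¹ z _ S.rev.rz czy, key ρ⁻¹ y z ?_ cz⟩
    rw [← S.rz]; group

theorem cent_norm_aux [Finite G] {c : G} (hz : c * z = z * c) (hy : c * y = y * c) {w : G}
    (hw : w ∈ RootGrp x I ρ) : c * w * c⁻¹ ∈ RootGrp x I ρ := by
  have : RootGrp x I ρ ≤ (RootGrp x I ρ).comap (MulAut.conj c).toMonoidHom := by
    conv_lhs => unfold RootGrp
    rw [Subgroup.closure_le]
    rintro w ⟨m, k, s, rfl⟩
    show c * R x I ρ m k s * c⁻¹ ∈ RootGrp x I ρ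
    obtain ⟨h1, h2⟩ := S.rm_cent hz hy m
    have h3 := S.cent_root0 h1 h2 (Subgroup.subset_closure ⟨k, s, rfl⟩ : rt x I k s ∈ RootGrp0 x I)
    have h4 := conj_root0 (ρ := ρ) m h3
    have h5 : c * R x I ρ m k s * c⁻¹ = rm ρ m * ((rm ρ m)⁻¹ * c * rm ρ m * rt x I k s *
        ((rm ρ m)⁻¹ * c * rm ρ m)⁻¹) * (rm ρ m)⁻¹ := by unfold R; group
    rw [h5]
    exact h4
  exact this hw

theorem cent_norm [Finite G] {c : G} (hz : c * z = z * c) {w : G} (hw : w ∈ RootGrp x I ρ) :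
    c * w * c⁻¹ ∈ RootGrp x I ρ := by
  have hyy := S.inv.y_inv
  -- the involution `c y c⁻¹`
  have h1 : (c * y * c⁻¹) * z = z * (c * y * c⁻¹) := by
    have e1 : Commute c z := hz
    have e2 : Commute y z := S.inv.yz
    exact ((e1.mul_left e2).mul_left e1.inv_left).eq
  have h2 : (c * y * c⁻¹) * (c * y * c⁻¹) = 1 := by
    calc (c * y * c⁻¹) * (c * y * c⁻¹) = c * (y * y) * c⁻¹ := by group
      _ = 1 := by rw [S.inv.sq]; group
  have h3 : ∀ k, (c * y * c⁻¹) * x k * (c * y * c⁻¹)⁻¹ * x k ∈ Q := by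
    intro k
    have hz' : c⁻¹ * z = z * c⁻¹ := by
      have e1 : Commute c z := hz
      exact e1.inv_left.eq
    have hcQ : ∀ q ∈ Q, c * q * c⁻¹ ∈ Q := fun q hq => S.fr.large.conj_mem c hz q hq
    have hyQ : ∀ q ∈ Q, y * q * y⁻¹ ∈ Q := fun q hq => S.fr.large.conj_mem y S.inv.yz q hq
    have hcQ' : ∀ q ∈ Q, c⁻¹ * q * c ∈ Q := by
      intro q hq
      have := S.fr.large.conj_mem c⁻¹ hz' q hq
      rwa [inv_inv] at this
    have hxQ : ∀ l, ∀ q ∈ Q, x l * q * (x l)⁻¹ ∈ Q := fun l q hq => S.fr.large.conj_mem _ (S.fr.x_z l) q hq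
    have hxQ' : ∀ l, ∀ q ∈ Q, (x l)⁻¹ * q * x l ∈ Q := by
      intro l q hq
      have e1 : Commute (x l) z := S.fr.x_z l
      have := S.fr.large.conj_mem (x l)⁻¹ e1.inv_left.eq q hq
      rwa [inv_inv] at this
    obtain ⟨l, hl⟩ := S.fr.norm c⁻¹ hz' k
    rcases hl with ⟨q, hq, e⟩ | ⟨q, hq, e⟩
    · -- `c⁻¹ x_k c = x_l q`
      have e1 : x k = c * (x l * q) * c⁻¹ := by rw [← e]; group
      have e2 : (c * y * c⁻¹) * x k * (c * y * c⁻¹)⁻¹ * x k =
          c * ((y * x l * y⁻¹) * (y * q * y⁻¹) * (x l * q)) * c⁻¹ := by rw [e1]; group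
      rw [e2, S.inv.yx]
      apply hcQ
      have e3 : (x l)⁻¹ * (y * q * y⁻¹) * (x l * q) = ((x l)⁻¹ * (y * q * y⁻¹) * x l) * q := by group
      rw [e3]
      exact Q.mul_mem (hxQ' l _ (hyQ q hq)) hq
    · have e1 : x k = c * ((x l)⁻¹ * q) * c⁻¹ := by rw [← e]; group
      have e2 : (c * y * c⁻¹) * x k * (c * y * c⁻¹)⁻¹ * x k =
          c * ((y * x l * y⁻¹)⁻¹ * (y * q * y⁻¹) * ((x l)⁻¹ * q)) * c⁻¹ := by rw [e1]; group
      rw [e2, S.inv.yx, inv_inv]
      apply hcQ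
      have e3 : x l * (y * q * y⁻¹) * ((x l)⁻¹ * q) = (x l * (y * q * y⁻¹) * (x l)⁻¹) * q := by group
      rw [e3]
      exact Q.mul_mem (hxQ l _ (hyQ q hq)) hq
  obtain ⟨g, hg, hgz, hgy⟩ := Inv.conj_y S.fr S.inv h1 h2 h3
  have hgR : g ∈ RootGrp x I ρ := by
    have hle : Subgroup.closure (Set.range x) ⊔ Q ≤ RootGrp0 x I := by
      rw [sup_le_iff]
      constructor
      · rw [Subgroup.closure_le]
        rintro _ ⟨k, rfl⟩
        exact x_root k
      · intro q hq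
        exact S.Q_root hq
    exact root0_le (hle hg)
  have hc'z : (g⁻¹ * c) * z = z * (g⁻¹ * c) := by
    have e1 : Commute g z := hgz
    have e2 : Commute c z := hz
    exact (e1.inv_left.mul_left e2).eq
  have hc'y : (g⁻¹ * c) * y = y * (g⁻¹ * c) := by
    have e1 : y = g⁻¹ * (c * y * c⁻¹) * g := by rw [hgy]; group
    calc (g⁻¹ * c) * y = (g⁻¹ * (c * y * c⁻¹) * g) * (g⁻¹ * c) := by group
      _ = _ := by rw [← e1]
  have h4 := S.cent_norm_aux hc'z hc'y hw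
  have h5 : c * w * c⁻¹ = g * (g⁻¹ * c * w * (g⁻¹ * c)⁻¹) * g⁻¹ := by group
  rw [h5]
  exact Subgroup.mul_mem _ (Subgroup.mul_mem _ hgR h4) (Subgroup.inv_mem _ hgR)

/-- The normaliser of the root group contains `C(z)` and `ρ`. -/
theorem cent_le_normalizer [Finite G] {c : G} (hz : c * z = z * c) :
    c ∈ Subgroup.normalizer (RootGrp x I ρ : Set G) := by
  rw [Subgroup.mem_normalizer_iff]
  intro w
  constructor
  · intro hw
    exact S.cent_norm hz hw
  · intro hw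
    have e1 : Commute c z := hz
    have h1 := S.cent_norm (c := c⁻¹) e1.inv_left.eq hw
    have h2 : c⁻¹ * (c * w * c⁻¹) * c⁻¹⁻¹ = w := by group
    rw [h2] at h1
    exact h1

theorem rho_mem_normalizer : ρ ∈ Subgroup.normalizer (RootGrp x I ρ : Set G) := by
  rw [Subgroup.mem_normalizer_iff]
  intro w
  constructor
  · intro hw
    exact S.rho_norm hw
  · intro hw
    have h1 := S.rho_inv_norm hw
    have h2 : ρ⁻¹ * (ρ * w * ρ⁻¹) * ρ = w := by group
    rw [h2] at h1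
    exact h1

end Setup

end Cfsg.Agent.TypeD4Three
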