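import Cfsg.Agent.TypeD4Three.ThreeF
import Cfsg.Agent.TypeD4Three.RootNorm

/-!
# S1763, case [P] : the generators for the recognition theorem (helper754)

Everything of the final assembly which does not need the Chevalley groups.
-/

set_option autoImplicit false

namespace Cfsg.Agent.TypeD4Three

open Cfsg.Agent.Co2Type.Quad

variable {G : Type*} [Group G]

/-- The data of `Chev.recognize`. -/
structure ChevData (G : Type*) [Group G] where
  a : Fin 3 → G
  a' : Fin 3 → G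
  b : G
  b' : G
  ha : ∀ i, a i ^ 3 = 1
  ha' : ∀ i, a' i ^ 3 = 1
  hb : b ^ 3 = 1
  hb' : b' ^ 3 = 1
  fa : ∀ i, (a i * (a' i)⁻¹ * a i) ^ 4 = 1
  fb : (b * b'⁻¹ * b) ^ 4 = 1
  nb : ∀ i, (a i * (a' i)⁻¹ * a i) ^ 2 * b * ((a i * (a' i)⁻¹ * a i) ^ 2)⁻¹ = b⁻¹
  nb' : ∀ i, (a i * (a' i)⁻¹ * a i) ^ 2 * b' * ((a i * (a' i)⁻¹ * a i) ^ 2)⁻¹ = b'⁻¹
  ma : ∀ i, (b * b'⁻¹ * b) ^ 2 * a i * ((b * b'⁻¹ * b) ^ 2)⁻¹ = (a i)⁻¹
  ma' : ∀ i, (b * b'⁻¹ * b) ^ 2 * a' i * ((b * b'⁻¹ * b) ^ 2)⁻¹ = (a' i)⁻¹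
  aa : ∀ i j, i ≠ j → Commute (a i) (a j)
  aa' : ∀ i j, i ≠ j → Commute (a i) (a' j)
  a'a' : ∀ i j, i ≠ j → Commute (a' i) (a' j)
  rel : ∀ i, ChevA2.A2Rel (a i) (a' i) b b'
  gen : Subgroup.closure (Set.range a ∪ Set.range a' ∪ {b, b'}) = ⊤

namespace Frame

variable {Q : Subgroup G} {z : G} {x I J : Fin 4 → G} (F : Frame Q z x I J)

include F

theorem rt_comm {k l : Fin 4} (h : k ≠ l) (s t : Bool) : Commute (rt x I k s) (rt x I l t) := by
  have e1 : Commute (x k) (x l) := F.xx k l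
  have e2 : Commute (I k) (x l) := (F.x_I' l k h.symm).symm
  have e3 : Commute (x k) (I l) := F.x_I' k l h
  have e4 : Commute (I k) (I l) := F.I_I k l h
  have key : ∀ t, Commute (x k) (rt x I l t) ∧ Commute (I k) (rt x I l t) := by
    intro t
    cases t
    · exact ⟨e1, e2⟩
    · exact ⟨(e3.mul_right e1).mul_right e3.inv_right, (e4.mul_right e2).mul_right e4.inv_right⟩
  cases s
  · exact (key t).1
  · exact ((key t).2.mul_left (key t).1).mul_left (key t).2.inv_left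

end Frame

namespace Setup

variable {Q : Subgroup G} {z : G} {x I J : Fin 4 → G} {y ρ : G} (S : Setup Q z x I J y ρ)

include S

theorem opp_weyl {m i : Fin 3} {k j : Fin 4} {e e' w w' : G} (h : Opp x I ρ m k e e') (hw : Opp x I ρ i j w w')
    (hi : m ≠ i) : (e * e' * e) ^ 4 = 1 ∧ (e * e' * e) ^ 2 * w * ((e * e' * e) ^ 2)⁻¹ = w⁻¹ := by
  have h1 := S.opp_sq h
  constructor
  · rw [show (4 : ℕ) = 2 + 2 by norm_num, pow_add, pow_two, h1]
    rcases fin3 m with rfl | rfl | rfl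
    · exact S.fr.z_sq
    · exact S.inv.sq
    · exact (S.inv.mul_z S.fr).sq
  · rw [pow_two, h1]
    exact S.opp_inv hw hi

theorem chevData [Finite G] (htop : RootGrp x I ρ = ⊤) : Nonempty (ChevData G) := by
  have n01 : (0 : Fin 3) ≠ 1 := by decide
  -- the choice of the roots of type `0`
  have hb : Opp x I ρ 1 0 (R x I ρ 1 0 false) (R x I ρ 1 0 true) := Or.inl ⟨rfl, rfl⟩
  set b := R x I ρ 1 0 false with hbdef
  set β := R x I ρ 1 0 true with hβdef
  have hex : ∀ i : Fin 3, ∃ s, R x I ρ 0 i.castSucc s * b = b * R x I ρ 0 i.castSucc s := by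
    intro i
    have ho : Opp x I ρ 0 i.castSucc (R x I ρ 0 i.castSucc false) (R x I ρ 0 i.castSucc true) := Or.inl ⟨rfl, rfl⟩
    rcases S.opp_one_of hb ho n01.symm with h | h
    · exact ⟨_, h⟩
    · exact ⟨_, h⟩
  choose s hs using hex
  have hopp : ∀ i, Opp x I ρ 0 i.castSucc (R x I ρ 0 i.castSucc (!(s i))) (R x I ρ 0 i.castSucc (s i)) :=
    fun i => (opp_R x I ρ 0 i.castSucc (s i)).symm
  have cube : ∀ {m : Fin 3} {k : Fin 4} {e e' : G}, Opp x I ρ m k e e' → e ^ 3 = 1 := by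
    intro m k e e' h
    rw [pow_three']; exact S.opp_cube h
  have hcomm : ∀ i j : Fin 3, i ≠ j → ∀ s t, Commute (R x I ρ 0 i.castSucc s) (R x I ρ 0 j.castSucc t) := by
    intro i j hij s t
    rw [R_zero, R_zero]
    exact S.fr.rt_comm (fun h => hij (Fin.castSucc_injective _ h)) s t
  refine ⟨⟨fun i => R x I ρ 0 i.castSucc (!(s i)), fun i => (R x I ρ 0 i.castSucc (s i))⁻¹, b, β⁻¹, ?_, ?_, ?_, ?_,
    ?_, ?_, ?_, ?_, ?_, ?_, ?_, ?_, ?_, ?_, ?_⟩⟩
  · intro i; exact cube (hopp i)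
  · intro i
    show ((R x I ρ 0 i.castSucc (s i))⁻¹) ^ 3 = 1
    rw [inv_pow, cube (hopp i).symm, inv_one]
  · exact cube hb
  · rw [inv_pow, cube hb.symm, inv_one]
  · intro i
    rw [inv_inv]
    exact (S.opp_weyl (hopp i) hb n01).1
  · rw [inv_inv]
    exact (S.opp_weyl hb (hopp 0) n01.symm).1
  · intro i
    rw [inv_inv]
    exact (S.opp_weyl (hopp i) hb n01).2
  · intro i
    rw [inv_inv]
    have := (S.opp_weyl (hopp i) hb.symm n01).2
    rw [← inv_inj, mul_inv_rev, mul_inv_rev, inv_inv, ← mul_assoc] at this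
    exact this
  · intro i
    rw [inv_inv]
    exact (S.opp_weyl hb (hopp i) n01.symm).2
  · intro i
    rw [inv_inv]
    have := (S.opp_weyl hb (hopp i).symm n01.symm).2
    rw [← inv_inj, mul_inv_rev, mul_inv_rev, inv_inv, ← mul_assoc] at this
    exact this
  · intro i j hij; exact hcomm i j hij _ _
  · intro i j hij; exact (hcomm i j hij _ _).inv_right
  · intro i j hij; exact (hcomm i j hij _ _).inv_inv
  · intro i; exact S.a2rel (hopp i) hb (hs i)
  · rw [eq_top_iff, ← htop]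
    set H := Subgroup.closure (Set.range (fun i : Fin 3 => R x I ρ 0 i.castSucc (!(s i))) ∪
      Set.range (fun i : Fin 3 => (R x I ρ 0 i.castSucc (s i))⁻¹) ∪ {b, β⁻¹}) with hH
    have h0 : ∀ i : Fin 4, i ≠ 3 → ∀ t, R x I ρ 0 i t ∈ H := by
      intro i hi t
      obtain ⟨j, rfl⟩ : ∃ j : Fin 3, j.castSucc = i := by
        rcases Input.fin4 i with rfl | rfl | rfl | rfl
        · exact ⟨0, rfl⟩
        · exact ⟨1, rfl⟩
        · exact ⟨2, rfl⟩
        · exact absurd rfl hi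
      by_cases ht : t = s j
      · rw [ht]
        have h1 : (R x I ρ 0 j.castSucc (s j))⁻¹ ∈ H := Subgroup.subset_closure (Or.inl (Or.inr ⟨j, rfl⟩))
        have := H.inv_mem h1
        rwa [inv_inv] at this
      · have ht' : t = !(s j) := by revert ht; cases t <;> cases (s j) <;> simp
        rw [ht']
        exact Subgroup.subset_closure (Or.inl (Or.inl ⟨j, rfl⟩))
    have h1 : ∀ t, R x I ρ 1 0 t ∈ H := by
      intro t
      cases t
      · exact Subgroup.subset_closure (Or.inr (Or.inl rfl))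
      · have h2 : β⁻¹ ∈ H := Subgroup.subset_closure (Or.inr (Or.inr rfl))
        have := H.inv_mem h2
        rwa [inv_inv] at this
    unfold RootGrp
    rw [Subgroup.closure_le]
    rintro w ⟨m, k, t, rfl⟩
    exact S.all_mem h0 h1 m k t

/-- the root group is everything as soon as its normaliser is -/
theorem root_top [IsSimpleGroup G] (hM : Subgroup.normalizer (RootGrp x I ρ : Set G) = ⊤) : RootGrp x I ρ = ⊤ := by
  have hn : (RootGrp x I ρ).Normal := Subgroup.normalizer_eq_top_iff.1 hM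
  rcases hn.eq_bot_or_eq_top with h | h
  · exfalso
    have h1 : R x I ρ 0 0 false ∈ RootGrp x I ρ := R_mem _ _ _ _ _ _
    rw [h, Subgroup.mem_bot, R_zero] at h1
    exact S.fr.rt_ne 0 false h1
  · exact h

end Setup

end Cfsg.Agent.TypeD4Three
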