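import Cfsg.Agent.LargeExtra.Local
import Cfsg.Agent.LargeExtra.TwoCentral

/-!
# S1763, case `3^4 : 2^3 ≤ C(z)/Q` (recognition of `PΩ₈⁺(3)`): frames (helper754)

`Frame Q z x I J` : `Q` is a large extraspecial subgroup of order `2^9` with centre `⟨z⟩`,
`Q = Q₀ * Q₁ * Q₂ * Q₃` with `Q_k = ⟨I k, J k⟩` quaternion, `x k` of order three acts on `Q_k` as
`I ↦ J ↦ I J ↦ I` and centralises the other `Q_l` and `x l`, and every element of `C_G(z)` permutes the
subgroups `⟨x k⟩` modulo `Q`.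
-/

set_option autoImplicit false

namespace Cfsg.Agent.TypeD4Three

open Cfsg.Agent.Co2Type.Quad

variable {G : Type*} [Group G]

/-- The local data of case [P], in elements of `G` only (so it can be conjugated). -/
structure Frame (Q : Subgroup G) (z : G) (x I J : Fin 4 → G) : Prop where
  large : Large Q z
  card : Nat.card Q = 2 ^ 9
  x_z : ∀ k, x k * z = z * x k
  x_ne : ∀ k, x k ≠ 1
  x_cube : ∀ k, x k * x k * x k = 1
  xx : ∀ k l, x k * x l = x l * x k
  I_mem : ∀ k, I k ∈ Q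
  J_mem : ∀ k, J k ∈ Q
  I_sq : ∀ k, I k * I k = z
  J_sq : ∀ k, J k * J k = z
  J_I : ∀ k, J k * I k = I k * J k * z
  I_I : ∀ k l, k ≠ l → I k * I l = I l * I k
  I_J : ∀ k l, k ≠ l → I k * J l = J l * I k
  J_J : ∀ k l, k ≠ l → J k * J l = J l * J k
  x_I : ∀ k, x k * I k * (x k)⁻¹ = J k
  x_J : ∀ k, x k * J k * (x k)⁻¹ = I k * J k
  x_I' : ∀ k l, k ≠ l → x k * I l = I l * x k
  x_J' : ∀ k l, k ≠ l → x k * J l = J l * x k
  norm : ∀ c, c * z = z * c → ∀ k, ∃ l, (∃ q ∈ Q, c * x k * c⁻¹ = x l * q) ∨ ∃ q ∈ Q, c * x k * c⁻¹ = (x l)⁻¹ * q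

namespace Frame

variable {Q : Subgroup G} {z : G} {x I J : Fin 4 → G}

/-- Frames can be conjugated. -/
theorem conj (F : Frame Q z x I J) (g : G) :
    Frame (Q.map (MulAut.conj g).toMonoidHom) (g * z * g⁻¹) (fun k => g * x k * g⁻¹)
      (fun k => g * I k * g⁻¹) (fun k => g * J k * g⁻¹) where
  large := F.large.conj g
  card := by
    rw [← F.card]
    exact Nat.card_congr (Q.equivMapOfInjective _ (MulAut.conj g).injective).symm.toEquiv
  x_z k := by
    have := F.x_z k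
    calc g * x k * g⁻¹ * (g * z * g⁻¹) = g * (x k * z) * g⁻¹ := by group
      _ = g * (z * x k) * g⁻¹ := by rw [this]
      _ = _ := by group
  x_ne k := by
    intro h
    apply F.x_ne k
    have : x k = g⁻¹ * (g * x k * g⁻¹) * g := by group
    rw [this, h]; group
  x_cube k := by
    calc g * x k * g⁻¹ * (g * x k * g⁻¹) * (g * x k * g⁻¹) = g * (x k * x k * x k) * g⁻¹ := by group
      _ = 1 := by rw [F.x_cube]; group
  xx k l := by
    calc g * x k * g⁻¹ * (g * x l * g⁻¹) = g * (x k * x l) * g⁻¹ := by group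
      _ = g * (x l * x k) * g⁻¹ := by rw [F.xx k l]
      _ = _ := by group
  I_mem k := ⟨I k, F.I_mem k, rfl⟩
  J_mem k := ⟨J k, F.J_mem k, rfl⟩
  I_sq k := by
    calc g * I k * g⁻¹ * (g * I k * g⁻¹) = g * (I k * I k) * g⁻¹ := by group
      _ = _ := by rw [F.I_sq k]
  J_sq k := by
    calc g * J k * g⁻¹ * (g * J k * g⁻¹) = g * (J k * J k) * g⁻¹ := by group
      _ = _ := by rw [F.J_sq k]
  J_I k := by
    calc g * J k * g⁻¹ * (g * I k * g⁻¹) = g * (J k * I k) * g⁻¹ := by group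
      _ = g * (I k * J k * z) * g⁻¹ := by rw [F.J_I k]
      _ = _ := by group
  I_I k l hkl := by
    calc g * I k * g⁻¹ * (g * I l * g⁻¹) = g * (I k * I l) * g⁻¹ := by group
      _ = g * (I l * I k) * g⁻¹ := by rw [F.I_I k l hkl]
      _ = _ := by group
  I_J k l hkl := by
    calc g * I k * g⁻¹ * (g * J l * g⁻¹) = g * (I k * J l) * g⁻¹ := by group
      _ = g * (J l * I k) * g⁻¹ := by rw [F.I_J k l hkl]
      _ = _ := by group
  J_J k l hkl := by
    calc g * J k * g⁻¹ * (g * J l * g⁻¹) = g * (J k * J l) * g⁻¹ := by group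
      _ = g * (J l * J k) * g⁻¹ := by rw [F.J_J k l hkl]
      _ = _ := by group
  x_I k := by
    calc g * x k * g⁻¹ * (g * I k * g⁻¹) * (g * x k * g⁻¹)⁻¹ = g * (x k * I k * (x k)⁻¹) * g⁻¹ := by group
      _ = _ := by rw [F.x_I k]
  x_J k := by
    calc g * x k * g⁻¹ * (g * J k * g⁻¹) * (g * x k * g⁻¹)⁻¹ = g * (x k * J k * (x k)⁻¹) * g⁻¹ := by group
      _ = g * (I k * J k) * g⁻¹ := by rw [F.x_J k]
      _ = _ := by group
  x_I' k l hkl := by
    calc g * x k * g⁻¹ * (g * I l * g⁻¹) = g * (x k * I l) * g⁻¹ := by group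
      _ = g * (I l * x k) * g⁻¹ := by rw [F.x_I' k l hkl]
      _ = _ := by group
  x_J' k l hkl := by
    calc g * x k * g⁻¹ * (g * J l * g⁻¹) = g * (x k * J l) * g⁻¹ := by group
      _ = g * (J l * x k) * g⁻¹ := by rw [F.x_J' k l hkl]
      _ = _ := by group
  norm c hc k := by
    have hc' : (g⁻¹ * c * g) * z = z * (g⁻¹ * c * g) := by
      calc (g⁻¹ * c * g) * z = g⁻¹ * (c * (g * z * g⁻¹)) * g := by group
        _ = g⁻¹ * ((g * z * g⁻¹) * c) * g := by rw [hc]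
        _ = _ := by group
    obtain ⟨l, hl⟩ := F.norm _ hc' k
    refine ⟨l, ?_⟩
    rcases hl with ⟨q, hq, e⟩ | ⟨q, hq, e⟩
    · left
      refine ⟨g * q * g⁻¹, ⟨q, hq, rfl⟩, ?_⟩
      calc c * (g * x k * g⁻¹) * c⁻¹ = g * ((g⁻¹ * c * g) * x k * (g⁻¹ * c * g)⁻¹) * g⁻¹ := by group
        _ = g * (x l * q) * g⁻¹ := by rw [e]
        _ = _ := by group
    · right
      refine ⟨g * q * g⁻¹, ⟨q, hq, rfl⟩, ?_⟩
      calc c * (g * x k * g⁻¹) * c⁻¹ = g * ((g⁻¹ * c * g) * x k * (g⁻¹ * c * g)⁻¹) * g⁻¹ := by group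
        _ = g * ((x l)⁻¹ * q) * g⁻¹ := by rw [e]
        _ = _ := by group

end Frame

end Cfsg.Agent.TypeD4Three
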