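import Cfsg.Agent.TypeD4Three.FrameOf

/-!
# S1763, case [P] : first facts on frames (helper754)
-/

set_option autoImplicit false

namespace Cfsg.Agent.TypeD4Three

open Cfsg.Agent.Co2Type.Quad

variable {G : Type*} [Group G]

namespace Frame

variable {Q : Subgroup G} {z : G} {x I J : Fin 4 → G} (F : Frame Q z x I J)

include F

theorem finiteQ : Finite Q := Nat.finite_of_card_ne_zero (by rw [F.card]; norm_num)

theorem z_inv : z⁻¹ = z := F.large.z_inv

theorem z_sq : z * z = 1 := F.large.z_sq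

theorem z_ne : z ≠ 1 := F.large.z_ne

theorem I_z (k : Fin 4) : I k * z = z * I k := F.large.comm_z _ (F.I_mem k)

theorem J_z (k : Fin 4) : J k * z = z * J k := F.large.comm_z _ (F.J_mem k)

theorem x_mem (k : Fin 4) : x k ∈ Subgroup.centralizer ({z} : Set G) :=
  Subgroup.mem_centralizer_singleton_iff.2 (F.x_z k)

theorem act_x_u (k : Fin 4) : F.large.act ⟨x k, F.x_mem k⟩ (F.large.pr ⟨I k, F.I_mem k⟩) = F.large.pr ⟨J k, F.J_mem k⟩ := by
  rw [F.large.act_pr]
  exact congrArg _ (Subtype.ext (F.x_I k))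

theorem act_x_v (k : Fin 4) : F.large.act ⟨x k, F.x_mem k⟩ (F.large.pr ⟨J k, F.J_mem k⟩) =
    F.large.pr ⟨I k, F.I_mem k⟩ + F.large.pr ⟨J k, F.J_mem k⟩ := by
  rw [F.large.act_pr, ← F.large.pr_mul]
  exact congrArg _ (Subtype.ext (F.x_J k))

theorem act_x_u' (k l : Fin 4) (hkl : k ≠ l) :
    F.large.act ⟨x k, F.x_mem k⟩ (F.large.pr ⟨I l, F.I_mem l⟩) = F.large.pr ⟨I l, F.I_mem l⟩ := by
  rw [F.large.act_pr]
  refine congrArg _ (Subtype.ext ?_)
  show x k * I l * (x k)⁻¹ = I l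
  rw [F.x_I' k l hkl]; group

theorem act_x_v' (k l : Fin 4) (hkl : k ≠ l) :
    F.large.act ⟨x k, F.x_mem k⟩ (F.large.pr ⟨J l, F.J_mem l⟩) = F.large.pr ⟨J l, F.J_mem l⟩ := by
  rw [F.large.act_pr]
  refine congrArg _ (Subtype.ext ?_)
  show x k * J l * (x k)⁻¹ = J l
  rw [F.x_J' k l hkl]; group

/-- The input of a frame. -/
noncomputable def input : Input F.large where
  u k := F.large.pr ⟨I k, F.I_mem k⟩
  v k := F.large.pr ⟨J k, F.J_mem k⟩
  ξ k := F.large.act ⟨x k, F.x_mem k⟩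
  card := F.card
  q_u k := F.large.q_eq_one.2 (F.I_sq k)
  q_v k := F.large.q_eq_one.2 (F.J_sq k)
  b_uv k := by rw [F.large.b_comm]; exact (F.large.b_pr_one _ _).2 (F.J_I k)
  b_uu k l hkl := (F.large.b_pr _ _).2 (F.I_I k l hkl)
  b_uv' k l hkl := (F.large.b_pr _ _).2 (F.I_J k l hkl)
  b_vv k l hkl := (F.large.b_pr _ _).2 (F.J_J k l hkl)
  ξ_u := F.act_x_u
  ξ_v := F.act_x_v
  ξ_u' := F.act_x_u'
  ξ_v' := F.act_x_v'
  mem k := ⟨_, rfl⟩
  norm := by
    rintro _ ⟨c, rfl⟩ k
    obtain ⟨l, hl⟩ := F.norm c (Subgroup.mem_centralizer_singleton_iff.1 c.2) k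
    refine ⟨l, ?_⟩
    rcases hl with ⟨q, hq, e⟩ | ⟨q, hq, e⟩
    · left
      have hqC : q ∈ Subgroup.centralizer ({z} : Set G) :=
        Subgroup.mem_centralizer_singleton_iff.2 (F.large.comm_z q hq)
      have h1 : c * ⟨x k, F.x_mem k⟩ * c⁻¹ = ⟨x l, F.x_mem l⟩ * ⟨q, hqC⟩ := Subtype.ext e
      have h2 := congrArg F.large.act h1
      rw [map_mul, map_mul, map_mul, map_inv, F.large.act_mem ⟨q, hqC⟩ hq, mul_one] at h2
      exact h2
    · right
      have hqC : q ∈ Subgroup.centralizer ({z} : Set G) :=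
        Subgroup.mem_centralizer_singleton_iff.2 (F.large.comm_z q hq)
      have h1 : c * ⟨x k, F.x_mem k⟩ * c⁻¹ = ⟨x l, F.x_mem l⟩⁻¹ * ⟨q, hqC⟩ := Subtype.ext e
      have h2 := congrArg F.large.act h1
      rw [map_mul, map_mul, map_mul, map_inv, map_inv, F.large.act_mem ⟨q, hqC⟩ hq, mul_one] at h2
      exact h2

/-- Fixing modulo `z` and order three imply commuting. -/
theorem comm_of_act {e : G} (he : e * z = z * e) (he3 : e * e * e = 1) {q : G} (hq : q ∈ Q)
    (hfix : F.large.act ⟨e, Subgroup.mem_centralizer_singleton_iff.2 he⟩ (F.large.pr ⟨q, hq⟩) =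
      F.large.pr ⟨q, hq⟩) : e * q = q * e := by
  have hqz := F.large.comm_z q hq
  rcases Input.act_coe_eq hfix with h2 | h2
  · rw [mul_inv_eq_iff_eq_mul] at h2; exact h2
  · exfalso
    have h3 : e * q * e⁻¹ = q * z := h2
    rw [mul_inv_eq_iff_eq_mul] at h3
    have h4 : e * e * e * q = q * z * (e * e * e) := by
      calc e * e * e * q = e * e * (e * q) := by group
        _ = e * e * (q * z * e) := by rw [h3]
        _ = e * (e * q) * z * e := by group
        _ = e * (q * z * e) * z * e := by rw [h3]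
        _ = (e * q) * z * (e * z) * e := by group
        _ = (q * z * e) * z * (z * e) * e := by rw [h3, he]
        _ = q * z * e * (z * z) * e * e := by group
        _ = _ := by rw [F.z_sq]; group
    rw [he3, one_mul, mul_one] at h4
    exact F.z_ne (mul_eq_left.1 h4.symm)

/-- An element of `C(z)` commuting with all `I k`, `J k` is `1` or `z`. -/
theorem eq_of_comm {c : G} (hc : c * z = z * c) (hI : ∀ k, c * I k = I k * c) (hJ : ∀ k, c * J k = J k * c) :
    c = 1 ∨ c = z := by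
  have hfin := F.finiteQ
  have hcC : c ∈ Subgroup.centralizer ({z} : Set G) := Subgroup.mem_centralizer_singleton_iff.2 hc
  have hact : F.large.act ⟨c, hcC⟩ = 1 := by
    apply F.input.ext_equiv
    · intro k
      show F.large.act ⟨c, hcC⟩ (F.large.pr ⟨I k, F.I_mem k⟩) = F.large.pr ⟨I k, F.I_mem k⟩
      rw [F.large.act_pr]
      refine congrArg _ (Subtype.ext ?_)
      show c * I k * c⁻¹ = I k
      rw [hI]; group
    · intro k
      show F.large.act ⟨c, hcC⟩ (F.large.pr ⟨J k, F.J_mem k⟩) = F.large.pr ⟨J k, F.J_mem k⟩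
      rw [F.large.act_pr]
      refine congrArg _ (Subtype.ext ?_)
      show c * J k * c⁻¹ = J k
      rw [hJ]; group
  have hcQ : c ∈ Q := F.large.mem_of_act _ hact
  have h0 : F.large.pr ⟨c, hcQ⟩ = 0 := by
    obtain ⟨d, hd⟩ := F.input.comb_surjective (F.large.pr ⟨c, hcQ⟩)
    have h1 : ∀ k, (d k).2 = 0 := by
      intro k
      rw [← F.input.b_comb_u d k, hd]
      exact (F.large.b_pr _ _).2 (hI k)
    have h2 : ∀ k, (d k).1 = 0 := by
      intro k
      rw [← F.input.b_comb_v d k, hd]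
      exact (F.large.b_pr _ _).2 (hJ k)
    have : d = 0 := by funext k; exact Prod.ext (h2 k) (h1 k)
    rw [← hd, this, F.input.comb_zero]
  exact F.large.pr_eq_zero.1 h0

end Frame

/-- Two elements of order dividing three in the same coset of a finite group whose order is not divisible by three
are conjugate. -/
theorem conj_of_coset {Q : Subgroup G} [Finite Q] (hQ : ¬ 3 ∣ Nat.card Q) {u e : G} (hu : u ^ 3 = 1) (he : e ^ 3 = 1)
    (hue : ∀ q ∈ Q, u * q * e⁻¹ ∈ Q) : ∃ q ∈ Q, u = q * e * q⁻¹ := by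
  classical
  have h3 : Fact (Nat.Prime 3) := ⟨Nat.prime_three⟩
  have hfin : Fintype Q := Fintype.ofFinite Q
  let f : Function.End Q := fun q => ⟨u * q * e⁻¹, hue q q.2⟩
  have hf : f ^ 3 ^ 1 = 1 := by
    rw [pow_one]
    funext q
    apply Subtype.ext
    show u * (u * (u * q * e⁻¹) * e⁻¹) * e⁻¹ = q
    calc u * (u * (u * (q : G) * e⁻¹) * e⁻¹) * e⁻¹ = (u * u * u) * q * (e * e * e)⁻¹ := by group
      _ = q := by rw [← pow_three', ← pow_three', hu, he]; group
  have h1 := Equiv.Perm.card_fixedPoints_modEq hf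
  by_contra hcon
  have h2 : Fintype.card (Function.fixedPoints f) = 0 := by
    rw [Fintype.card_eq_zero_iff]
    refine ⟨fun q => hcon ⟨q, (q : Q).2, ?_⟩⟩
    have h4 : u * ((q : Q) : G) * e⁻¹ = ((q : Q) : G) := congrArg Subtype.val q.2
    rw [mul_inv_eq_iff_eq_mul] at h4
    rw [← h4]; group
  rw [h2] at h1
  apply hQ
  rw [Nat.card_eq_fintype_card]
  exact (Nat.modEq_zero_iff_dvd).1 h1

end Cfsg.Agent.TypeD4Three
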