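import Cfsg.Agent.TypeD4Three.FrameBasic

/-!
# S1763, case [P] : frames inverted by an involution (helper754)

* `Inv z x I J y` : the involution `y` inverts all `x k` and `I k ↦ I k z`, `J k ↦ I k J k z`.
* `Inv.exists_prod` (Lemma D): an element of odd order of `C(z)` inverted by `y` is a product of powers of `x k` or
  `I k x k (I k)⁻¹`.
* `Inv.conj_y` : an involution of `C(z)` inverting all `x k` modulo `Q` is conjugate to `y` under `⟨x⟩ Q`.
-/

set_option autoImplicit false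

namespace Cfsg.Agent.TypeD4Three

open Cfsg.Agent.Co2Type.Quad

variable {G : Type*} [Group G]

/-! ### products of four elements -/

/-- `w 0 * w 1 * w 2 * w 3` -/
def prod4 {G : Type*} [Group G] (w : Fin 4 → G) : G := w 0 * w 1 * w 2 * w 3

theorem prod4_conj (g : G) (w : Fin 4 → G) : g * prod4 w * g⁻¹ = prod4 fun k => g * w k * g⁻¹ := by
  unfold prod4; group

theorem map_prod4 {H : Type*} [Group H] (f : G →* H) (w : Fin 4 → G) : f (prod4 w) = prod4 fun k => f (w k) := by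
  unfold prod4; simp only [map_mul]

theorem prod4_mem {H : Subgroup G} {w : Fin 4 → G} (hw : ∀ k, w k ∈ H) : prod4 w ∈ H :=
  H.mul_mem (H.mul_mem (H.mul_mem (hw 0) (hw 1)) (hw 2)) (hw 3)

theorem prod4_comm {w : Fin 4 → G} {e : G} (hw : ∀ k, w k * e = e * w k) : prod4 w * e = e * prod4 w := by
  have h : ∀ k, Commute (w k) e := hw
  exact ((((h 0).mul_left (h 1)).mul_left (h 2)).mul_left (h 3)).eq

theorem prod4_mul {v w : Fin 4 → G} (h : ∀ k l, k ≠ l → v k * w l = w l * v k) :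
    prod4 (fun k => v k * w k) = prod4 v * prod4 w := by
  have h' : ∀ k l, k ≠ l → Commute (v k) (w l) := h
  have h1 : Commute (w 0) (v 1 * v 2 * v 3) :=
    (((h' 1 0 (by decide)).symm.mul_right (h' 2 0 (by decide)).symm).mul_right (h' 3 0 (by decide)).symm)
  have h2 : Commute (w 1) (v 2 * v 3) := (h' 2 1 (by decide)).symm.mul_right (h' 3 1 (by decide)).symm
  have h3 : Commute (w 2) (v 3) := (h' 3 2 (by decide)).symm
  unfold prod4
  calc v 0 * w 0 * (v 1 * w 1) * (v 2 * w 2) * (v 3 * w 3)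
      = v 0 * w 0 * (v 1 * w 1) * v 2 * (w 2 * v 3) * w 3 := by group
    _ = v 0 * w 0 * v 1 * (w 1 * (v 2 * v 3)) * w 2 * w 3 := by rw [h3.eq]; group
    _ = v 0 * (w 0 * (v 1 * v 2 * v 3)) * w 1 * w 2 * w 3 := by rw [h2.eq]; group
    _ = _ := by rw [h1.eq]; group

/-- conjugation by a product of commuting elements, all but one of which commute with `e` -/
theorem prod4_conj_single {p : Fin 4 → G} {e : G} {k : Fin 4} (hpp : ∀ i j, p i * p j = p j * p i)
    (hpe : ∀ l, l ≠ k → p l * e = e * p l) : prod4 p * e * (prod4 p)⁻¹ = p k * e * (p k)⁻¹ := by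
  have hc : ∀ l, l ≠ k → Commute (p l) e := hpe
  have hp : ∀ i j, Commute (p i) (p j) := hpp
  have key : ∀ r : G, prod4 p = p k * r → Commute r e → prod4 p * e * (prod4 p)⁻¹ = p k * e * (p k)⁻¹ := by
    intro r h1 h2
    rw [h1]
    calc p k * r * e * (p k * r)⁻¹ = p k * (r * e) * r⁻¹ * (p k)⁻¹ := by group
      _ = _ := by rw [h2.eq]; group
  rcases Input.fin4 k with rfl | rfl | rfl | rfl
  · refine key (p 1 * p 2 * p 3) (by unfold prod4; group) ?_
    exact ((hc 1 (by decide)).mul_left (hc 2 (by decide))).mul_left (hc 3 (by decide))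
  · refine key (p 0 * p 2 * p 3) ?_ ?_
    · unfold prod4
      rw [(hp 0 1).eq]; group
    · exact ((hc 0 (by decide)).mul_left (hc 2 (by decide))).mul_left (hc 3 (by decide))
  · refine key (p 0 * p 1 * p 3) ?_ ?_
    · unfold prod4
      rw [((hp 0 2).mul_left (hp 1 2)).eq]; group
    · exact ((hc 0 (by decide)).mul_left (hc 1 (by decide))).mul_left (hc 3 (by decide))
  · refine key (p 0 * p 1 * p 2) ?_ ?_
    · unfold prod4
      rw [(((hp 0 3).mul_left (hp 1 3)).mul_left (hp 2 3)).eq]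
    · exact ((hc 0 (by decide)).mul_left (hc 1 (by decide))).mul_left (hc 2 (by decide))

theorem odd_mem_sq {f : G} (hf : Odd (orderOf f)) : ∃ m : ℕ, f = (f * f) ^ m := by
  obtain ⟨n, hn⟩ := hf
  refine ⟨n + 1, ?_⟩
  rw [← pow_two, ← pow_mul]
  have : 2 * (n + 1) = orderOf f + 1 := by omega
  rw [this, pow_succ, pow_orderOf_eq_one, one_mul]

/-- The elements `x k` (`false`) and `I k x k (I k)⁻¹` (`true`). -/
def rt {G : Type*} [Group G] (x I : Fin 4 → G) (k : Fin 4) (s : Bool) : G := bif s then I k * x k * (I k)⁻¹ else x k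

/-- `y` is an involution inverting the frame. -/
structure Inv (z : G) (x I J : Fin 4 → G) (y : G) : Prop where
  sq : y * y = 1
  yz : y * z = z * y
  yx : ∀ k, y * x k * y⁻¹ = (x k)⁻¹
  yI : ∀ k, y * I k * y⁻¹ = I k * z
  yJ : ∀ k, y * J k * y⁻¹ = I k * J k * z

namespace Frame

variable {Q : Subgroup G} {z : G} {x I J : Fin 4 → G} (F : Frame Q z x I J)

include F

theorem act_eq_one_of_mem {q : G} (hq : q ∈ Q) (hz : q ∈ Subgroup.centralizer ({z} : Set G)) :
    F.large.act ⟨q, hz⟩ = 1 := F.large.act_mem _ hq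

theorem x_pow_three (k : Fin 4) : x k ^ 3 = 1 := by rw [pow_three']; exact F.x_cube k

theorem Q_pow_four {q : G} (hq : q ∈ Q) : q ^ 4 = 1 := by
  rw [show (4 : ℕ) = 2 + 2 by norm_num, pow_add, pow_two]
  rcases F.large.sq q hq with h | h
  · rw [h, one_mul]
  · rw [h, F.z_sq]

theorem odd_mem_Q [Finite G] {q : G} (hq : q ∈ Q) (ho : Odd (orderOf q)) : q = 1 := by
  have h1 : orderOf q ∣ 4 := orderOf_dvd_of_pow_eq_one (F.Q_pow_four hq)
  have h2 : orderOf q ∣ 2 ^ 2 := h1
  have h3 : Nat.Coprime (orderOf q) (2 ^ 2) := by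
    apply Nat.Coprime.pow_right
    exact Nat.coprime_two_right.2 ho
  have := Nat.Coprime.eq_one_of_dvd h3 h2
  exact orderOf_eq_one_iff.1 this

theorem card_not_three : ¬ 3 ∣ Nat.card Q := by rw [F.card]; norm_num

theorem prod4_x_comm (i : Fin 4 → ℕ) : prod4 (fun k => x k ^ i k) * z = z * prod4 (fun k => x k ^ i k) := by
  apply prod4_comm
  intro k
  have : Commute (x k) z := F.x_z k
  exact (this.pow_left _).eq

theorem prod4_x_cube (i : Fin 4 → ℕ) : prod4 (fun k => x k ^ i k) ^ 3 = 1 := by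
  have hc : ∀ k l, x k ^ i k * x l ^ i l = x l ^ i l * x k ^ i k := by
    intro k l
    have : Commute (x k) (x l) := F.xx k l
    exact (this.pow_pow _ _).eq
  have h1 : prod4 (fun k => x k ^ i k) ^ 3 = prod4 (fun k => x k ^ i k * x k ^ i k * x k ^ i k) := by
    rw [prod4_mul, prod4_mul, pow_three']
    · intro k l _; exact hc k l
    · intro k l _
      have h1 : Commute (x k ^ i k) (x l ^ i l) := hc k l
      exact (h1.mul_left h1).eq
  rw [h1]
  have h2 : ∀ k, x k ^ i k * x k ^ i k * x k ^ i k = 1 := by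
    intro k
    rw [← pow_three', ← pow_mul, mul_comm, pow_mul, F.x_pow_three, one_pow]
  simp only [prod4, h2, mul_one]

/-- an element of odd order of `C(z)` whose action commutes with all `ξ k` -/
theorem exists_conj_prod [Finite G] {u : G} (huz : u * z = z * u) (ho : Odd (orderOf u))
    (hc : ∀ k, F.large.act ⟨u, Subgroup.mem_centralizer_singleton_iff.2 huz⟩ * F.input.ξ k =
      F.input.ξ k * F.large.act ⟨u, Subgroup.mem_centralizer_singleton_iff.2 huz⟩) :
    ∃ i : Fin 4 → ℕ, (∀ k, i k < 3) ∧ (∃ q ∈ Q, u = q * prod4 (fun k => x k ^ i k) * q⁻¹) ∧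
      F.large.act ⟨u, Subgroup.mem_centralizer_singleton_iff.2 huz⟩ =
        F.input.ξ 0 ^ i 0 * F.input.ξ 1 ^ i 1 * F.input.ξ 2 ^ i 2 * F.input.ξ 3 ^ i 3 := by
  have hfin := F.finiteQ
  obtain ⟨i, hi, hi2⟩ := F.input.exists_pow hc
  refine ⟨i, hi, ?_, hi2⟩
  set e := prod4 (fun k => x k ^ i k) with he
  have hez := F.prod4_x_comm i
  have heC : e ∈ Subgroup.centralizer ({z} : Set G) := Subgroup.mem_centralizer_singleton_iff.2 hez
  have huC : u ∈ Subgroup.centralizer ({z} : Set G) := Subgroup.mem_centralizer_singleton_iff.2 huz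
  have hact : F.large.act ⟨e, heC⟩ = F.large.act ⟨u, huC⟩ := by
    rw [hi2]
    have h1 : (⟨e, heC⟩ : Subgroup.centralizer ({z} : Set G)) =
        prod4 (fun k => (⟨x k, F.x_mem k⟩ : Subgroup.centralizer ({z} : Set G)) ^ i k) := by
      apply Subtype.ext
      rfl
    rw [h1, map_prod4]
    unfold prod4
    simp only [map_pow]
    rfl
  have he3 : e ^ 3 = 1 := F.prod4_x_cube i
  have hu3 : u ^ 3 = 1 := by
    have h1 : F.large.act (⟨u, huC⟩ ^ 3) = 1 := by
      rw [map_pow, ← hact, ← map_pow]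
      have : (⟨e, heC⟩ : Subgroup.centralizer ({z} : Set G)) ^ 3 = 1 := Subtype.ext he3
      rw [this, map_one]
    have h2 : u ^ 3 ∈ Q := F.large.mem_of_act _ h1
    apply F.odd_mem_Q h2
    exact Odd.of_dvd_nat ho (orderOf_pow_dvd 3)
  refine conj_of_coset F.card_not_three hu3 he3 ?_
  intro q hq
  have hqC : q ∈ Subgroup.centralizer ({z} : Set G) :=
    Subgroup.mem_centralizer_singleton_iff.2 (F.large.comm_z q hq)
  have h1 : F.large.act (⟨u, huC⟩ * ⟨q, hqC⟩ * ⟨e, heC⟩⁻¹) = 1 := by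
    rw [map_mul, map_mul, map_inv, F.large.act_mem ⟨q, hqC⟩ hq, hact]; group
  exact F.large.mem_of_act _ h1

end Frame

namespace Inv

variable {Q : Subgroup G} {z y : G} {x I J : Fin 4 → G} (F : Frame Q z x I J) (hy : Inv z x I J y)

include F hy

omit F in
theorem mem' : y ∈ Subgroup.centralizer ({z} : Set G) := Subgroup.mem_centralizer_singleton_iff.2 hy.yz

theorem mem : y ∈ Subgroup.centralizer ({z} : Set G) := (fun _ => mem' hy) F

theorem act_u (k : Fin 4) : F.large.act ⟨y, mem F hy⟩ (F.input.u k) = F.input.u k := by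
  show F.large.act ⟨y, mem F hy⟩ (F.large.pr ⟨I k, F.I_mem k⟩) = F.large.pr ⟨I k, F.I_mem k⟩
  rw [F.large.act_pr, F.large.pr_eq_pr]
  right
  exact hy.yI k

theorem act_v (k : Fin 4) : F.large.act ⟨y, mem F hy⟩ (F.input.v k) = F.input.u k + F.input.v k := by
  show F.large.act ⟨y, mem F hy⟩ (F.large.pr ⟨J k, F.J_mem k⟩) =
    F.large.pr ⟨I k, F.I_mem k⟩ + F.large.pr ⟨J k, F.J_mem k⟩
  rw [F.large.act_pr, ← F.large.pr_mul, F.large.pr_eq_pr]
  right
  exact hy.yJ k

theorem act_xi (k : Fin 4) :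
    F.large.act ⟨y, mem F hy⟩ * F.input.ξ k * (F.large.act ⟨y, mem F hy⟩)⁻¹ = (F.input.ξ k)⁻¹ := by
  have h1 : (⟨y, mem F hy⟩ : Subgroup.centralizer ({z} : Set G)) * ⟨x k, F.x_mem k⟩ * ⟨y, mem F hy⟩⁻¹ =
      ⟨x k, F.x_mem k⟩⁻¹ := Subtype.ext (hy.yx k)
  have h2 := congrArg F.large.act h1
  rw [map_mul, map_mul, map_inv, map_inv] at h2
  exact h2

/-- `v + y v` in coordinates -/
theorem act_comb (c : Fin 4 → ZMod 2 × ZMod 2) :
    F.input.comb c + F.large.act ⟨y, mem F hy⟩ (F.input.comb c) = F.input.comb fun k => ((c k).2, 0) := by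
  rw [F.input.equiv_comb]
  unfold Input.comb
  rw [← Finset.sum_add_distrib]
  refine Finset.sum_congr rfl fun k _ => ?_
  rw [act_u F hy, act_v F hy]
  have h1 := F.large.add_self (F.input.u k)
  have h2 := F.large.add_self (F.input.v k)
  rcases Input.zmod_two (c k).1 with e1 | e1 <;> rcases Input.zmod_two (c k).2 with e2 | e2 <;>
    simp only [e1, e2, zero_smul, one_smul, add_zero, zero_add]
  · calc F.input.v k + (F.input.u k + F.input.v k) = F.input.u k + (F.input.v k + F.input.v k) := by abel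
      _ = _ := by rw [h2, add_zero]
  · exact h1
  · calc F.input.u k + F.input.v k + (F.input.u k + (F.input.u k + F.input.v k))
        = (F.input.u k + F.input.u k) + (F.input.v k + F.input.v k) + F.input.u k := by abel
      _ = _ := by rw [h1, h2, zero_add, zero_add]

/-- The commutation step in Lemma D. -/
theorem act_comm [Finite G] {u : G} (huz : u * z = z * u) (ho : Odd (orderOf u)) (huy : y * u * y⁻¹ = u⁻¹) (k : Fin 4) :
    F.large.act ⟨u, Subgroup.mem_centralizer_singleton_iff.2 huz⟩ * F.input.ξ k =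
      F.input.ξ k * F.large.act ⟨u, Subgroup.mem_centralizer_singleton_iff.2 huz⟩ := by
  have huC : u ∈ Subgroup.centralizer ({z} : Set G) := Subgroup.mem_centralizer_singleton_iff.2 huz
  set f := F.large.act ⟨u, huC⟩ with hf
  set d := F.large.act ⟨y, mem F hy⟩ with hd
  have hdf : d * f * d⁻¹ = f⁻¹ := by
    have h1 : (⟨y, mem F hy⟩ : Subgroup.centralizer ({z} : Set G)) * ⟨u, huC⟩ * ⟨y, mem F hy⟩⁻¹ = ⟨u, huC⟩⁻¹ :=
      Subtype.ext huy
    have h2 := congrArg F.large.act h1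
    rw [map_mul, map_mul, map_inv, map_inv] at h2
    exact h2
  obtain ⟨l, hl⟩ := F.input.norm f ⟨_, rfl⟩ k
  have hx := act_xi F hy
  -- `w = f ξ f⁻¹` is inverted by `d`
  have hw : d * (f * F.input.ξ k * f⁻¹) * d⁻¹ = (f * F.input.ξ k * f⁻¹)⁻¹ := by
    rcases hl with hl | hl
    · rw [hl]; exact hx l
    · rw [hl]
      calc d * (F.input.ξ l)⁻¹ * d⁻¹ = (d * F.input.ξ l * d⁻¹)⁻¹ := by group
        _ = _ := by rw [hx l]
  have h1 : d * (f * F.input.ξ k * f⁻¹) * d⁻¹ = f⁻¹ * (F.input.ξ k)⁻¹ * f := by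
    calc d * (f * F.input.ξ k * f⁻¹) * d⁻¹ = (d * f * d⁻¹) * (d * F.input.ξ k * d⁻¹) * (d * f * d⁻¹)⁻¹ := by group
      _ = f⁻¹ * (F.input.ξ k)⁻¹ * f := by rw [hdf, hx k]; group
  have h2 : f⁻¹ * (F.input.ξ k)⁻¹ * f = f * (F.input.ξ k)⁻¹ * f⁻¹ := by
    rw [← h1, hw]; group
  have h3 : Commute (f * f) (F.input.ξ k)⁻¹ := by
    show f * f * (F.input.ξ k)⁻¹ = (F.input.ξ k)⁻¹ * (f * f)
    calc f * f * (F.input.ξ k)⁻¹ = f * (f * (F.input.ξ k)⁻¹ * f⁻¹) * f := by group
      _ = f * (f⁻¹ * (F.input.ξ k)⁻¹ * f) * f := by rw [h2]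
      _ = _ := by group
  have h4 : Commute (f * f) (F.input.ξ k) := by simpa using h3.inv_right
  have hfo : Odd (orderOf f) := by
    have h5 : orderOf f ∣ orderOf (⟨u, huC⟩ : Subgroup.centralizer ({z} : Set G)) := orderOf_map_dvd _ _
    rw [Subgroup.orderOf_mk] at h5
    exact Odd.of_dvd_nat ho h5
  obtain ⟨m, hm⟩ := odd_mem_sq hfo
  have h6 : Commute f (F.input.ξ k) := by
    rw [hm]; exact h4.pow_left m
  exact h6.eq

end Inv

end Cfsg.Agent.TypeD4Three
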