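import Mathlib

/-!
# Lifting commuting elements of order three over a normal 2-subgroup (helper754)
-/

set_option autoImplicit false

namespace Cfsg.Agent.TypeD4Three

theorem closure_comm {L ι : Type*} [Group L] {ξ : ι → L} (hcomm : ∀ k l, ξ k * ξ l = ξ l * ξ k) {a b : L}
    (ha : a ∈ Subgroup.closure (Set.range ξ)) (hb : b ∈ Subgroup.closure (Set.range ξ)) : a * b = b * a := by
  have h1 : ∀ c ∈ Subgroup.closure (Set.range ξ), ∀ k, c * ξ k = ξ k * c := by
    intro c hc k
    have : Subgroup.closure (Set.range ξ) ≤ Subgroup.centralizer {ξ k} := by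
      rw [Subgroup.closure_le]
      rintro _ ⟨l, rfl⟩
      exact Subgroup.mem_centralizer_singleton_iff.2 (hcomm l k)
    exact Subgroup.mem_centralizer_singleton_iff.1 (this hc)
  have : Subgroup.closure (Set.range ξ) ≤ Subgroup.centralizer {a} := by
    rw [Subgroup.closure_le]
    rintro _ ⟨l, rfl⟩
    exact Subgroup.mem_centralizer_singleton_iff.2 (h1 a ha l).symm
  exact (Subgroup.mem_centralizer_singleton_iff.1 (this hb)).symm

theorem closure_cube {L ι : Type*} [Group L] {ξ : ι → L} (hcomm : ∀ k l, ξ k * ξ l = ξ l * ξ k)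
    (hcube : ∀ k, ξ k ^ 3 = 1) {a : L} (ha : a ∈ Subgroup.closure (Set.range ξ)) : a ^ 3 = 1 := by
  induction ha using Subgroup.closure_induction with
  | mem x hx => obtain ⟨k, rfl⟩ := hx; exact hcube k
  | one => simp
  | mul x y hx hy h1 h2 =>
    have hc : Commute x y := closure_comm hcomm hx hy
    rw [hc.mul_pow, h1, h2, mul_one]
  | inv x _ h1 => rw [inv_pow, h1, inv_one]

theorem lift_commuting {C L ι : Type*} [Group C] [Finite C] [Group L] (f : C →* L) (hker : IsPGroup 2 f.ker)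
    (ξ : ι → L) (hmem : ∀ k, ξ k ∈ f.range) (hcube : ∀ k, ξ k ^ 3 = 1) (hcomm : ∀ k l, ξ k * ξ l = ξ l * ξ k) :
    ∃ x : ι → C, (∀ k, f (x k) = ξ k) ∧ (∀ k, x k ^ 3 = 1) ∧ ∀ k l, x k * x l = x l * x k := by
  classical
  set T := Subgroup.closure (Set.range ξ) with hT
  set P : Subgroup C := T.comap f with hP
  set g : P →* L := f.comp P.subtype with hg
  have hgr : ∀ t ∈ g.range, t ^ 3 = 1 := by
    rintro _ ⟨p, rfl⟩
    exact closure_cube hcomm hcube p.2
  have hran : IsPGroup 3 g.range := by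
    intro t
    refine ⟨1, ?_⟩
    apply Subtype.ext
    have := hgr t t.2
    simpa using this
  have hk2 : IsPGroup 2 g.ker := by
    intro p
    have hp : ((p : P) : C) ∈ f.ker := p.2
    obtain ⟨n, hn⟩ := hker ⟨_, hp⟩
    refine ⟨n, ?_⟩
    apply Subtype.ext
    apply Subtype.ext
    have := congrArg Subtype.val hn
    simpa using this
  have hfin : Finite g.range := Set.finite_range g
  obtain ⟨n, hn⟩ := IsPGroup.iff_card.1 hk2
  have h3 : Fact (Nat.Prime 3) := ⟨Nat.prime_three⟩
  obtain ⟨m, hm⟩ := IsPGroup.iff_card.1 hran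
  have hcop : Nat.Coprime (Nat.card g.ker) g.ker.index := by
    rw [Subgroup.index_ker, hn, hm]
    exact Nat.Coprime.pow _ _ (by norm_num)
  obtain ⟨H, hH⟩ := Subgroup.exists_right_complement'_of_coprime hcop
  have hdis : ∀ p : P, p ∈ H → g p = 1 → p = 1 := by
    intro p h1 h2
    have := hH.disjoint
    exact Subgroup.disjoint_def.1 this (MonoidHom.mem_ker.2 h2) h1
  have hex : ∀ k, ∃ p : P, p ∈ H ∧ g p = ξ k := by
    intro k
    obtain ⟨c, hc⟩ := hmem k
    have hcP : c ∈ P := by
      show f c ∈ T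
      rw [hc]
      exact Subgroup.subset_closure ⟨k, rfl⟩
    have htop := hH.sup_eq_top
    have : (⟨c, hcP⟩ : P) ∈ g.ker ⊔ H := by rw [htop]; trivial
    obtain ⟨a, ha, b, hb, hab⟩ := Subgroup.mem_sup_of_normal_left.1 this
    refine ⟨b, hb, ?_⟩
    have h1 : g (a * b) = ξ k := by rw [hab]; exact hc
    rw [map_mul, MonoidHom.mem_ker.1 ha, one_mul] at h1
    exact h1
  choose p hp hpξ using hex
  refine ⟨fun k => p k, hpξ, ?_, ?_⟩
  · intro k
    have := hdis (p k ^ 3) (H.pow_mem (hp k) 3) (by rw [map_pow, hpξ, hcube])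
    exact congrArg (Subtype.val) this
  · intro k l
    have h1 := hdis (p k * p l * (p l * p k)⁻¹) (H.mul_mem (H.mul_mem (hp k) (hp l)) (H.inv_mem (H.mul_mem (hp l) (hp k))))
      (by rw [map_mul, map_mul, map_inv, map_mul, hpξ, hpξ, hcomm]; group)
    have h2 : p k * p l = p l * p k := by rw [← mul_inv_eq_one]; exact h1
    exact congrArg (Subtype.val) h2

end Cfsg.Agent.TypeD4Three
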