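import Cfsg.Agent.TypeD4Three.InputBasic
import Cfsg.Agent.TypeD4Three.Lift

/-!
# S1763, case [P] : a frame from an `Input` (helper754)

`exists_frame` : lifts `x k` (order three, commuting), `I k`, `J k` of `ξ k`, `u k`, `v k`.
-/

set_option autoImplicit false

namespace Cfsg.Agent.TypeD4Three

open Cfsg.Agent.Co2Type.Quad

variable {G : Type*} [Group G]

namespace Input

variable {Q : Subgroup G} {z : G} {h : Large Q z} (inp : Input h)

/-- lift of the action -/
theorem act_coe_eq {c : Subgroup.centralizer ({z} : Set G)} {x y : Q} (e : h.act c (h.pr x) = h.pr y) :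
    (c : G) * x * (c : G)⁻¹ = y ∨ (c : G) * x * (c : G)⁻¹ = y * z := by
  rw [h.act_pr, h.pr_eq_pr] at e
  exact e

include inp in
theorem finiteQ : Finite Q := Nat.finite_of_card_ne_zero (by rw [inp.card]; norm_num)

/-- Lifts of the `ξ k` of order three which commute. -/
theorem exists_x [Finite G] : ∃ x : Fin 4 → Subgroup.centralizer ({z} : Set G), (∀ k, h.act (x k) = inp.ξ k) ∧
    (∀ k, x k ^ 3 = 1) ∧ ∀ k l, x k * x l = x l * x k := by
  have hfin : Finite Q := inp.finiteQ
  refine lift_commuting h.act ?_ inp.ξ inp.mem inp.xi_pow inp.xi_comm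
  intro c
  have hc : ((c : Subgroup.centralizer ({z} : Set G)) : G) ∈ Q := h.mem_of_act _ (MonoidHom.mem_ker.1 c.2)
  refine ⟨2, ?_⟩
  apply Subtype.ext
  apply Subtype.ext
  show ((c : Subgroup.centralizer ({z} : Set G)) : G) ^ 2 ^ 2 = 1
  have : ((c : Subgroup.centralizer ({z} : Set G)) : G) ^ 2 ^ 2 =
      ((c : Subgroup.centralizer ({z} : Set G)) : G) * c * (c * c) := by
    rw [show (2 : ℕ) ^ 2 = 2 + 2 by norm_num, pow_add, pow_two]
  rw [this]
  rcases h.sq _ hc with h1 | h1
  · rw [h1, one_mul]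
  · rw [h1, h.z_sq]

/-- The frame. -/
theorem exists_frame [Finite G] : ∃ (x : Fin 4 → Subgroup.centralizer ({z} : Set G)) (I J : Fin 4 → Q),
    Frame Q z (fun k => (x k : G)) (fun k => (I k : G)) (fun k => (J k : G)) ∧ (∀ k, h.act (x k) = inp.ξ k) ∧
    (∀ k, h.pr (I k) = inp.u k) ∧ ∀ k, h.pr (J k) = inp.v k := by
  have hfin : Finite Q := inp.finiteQ
  obtain ⟨x, hx, hx3, hxx⟩ := inp.exists_x
  have hxz : ∀ k, (x k : G) * z = z * x k := fun k => Subgroup.mem_centralizer_singleton_iff.1 (x k).2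
  have hzQ : ∀ q : Q, (q : G) * z = z * q := fun q => h.comm_z q q.2
  -- the elements `I k`
  have hI : ∀ k, ∃ q : Q, h.pr q = inp.u k ∧
      (x k : G) * ((x k : G) * q * (x k : G)⁻¹) * (x k : G)⁻¹ = q * ((x k : G) * q * (x k : G)⁻¹) := by
    intro k
    obtain ⟨q, hq⟩ := h.pr_surjective (inp.u k)
    have h1 : h.pr (h.conjQ (x k) q) = inp.v k := by rw [← h.act_pr, hq, hx, inp.ξ_u]
    have h2 : h.act (x k) (h.pr (h.conjQ (x k) q)) = h.pr (q * h.conjQ (x k) q) := by
      rw [h1, hx, inp.ξ_v, h.pr_mul, hq, h1]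
    rcases act_coe_eq h2 with h3 | h3
    · exact ⟨q, hq, h3⟩
    · refine ⟨q * ⟨z, h.z_mem⟩, ?_, ?_⟩
      · rw [h.pr_mul, hq, (h.pr_eq_zero (x := ⟨z, h.z_mem⟩)).2 (Or.inr rfl), add_zero]
      · have h4 : (x k : G) * ((x k : G) * q * (x k : G)⁻¹) * (x k : G)⁻¹ =
          q * ((x k : G) * q * (x k : G)⁻¹) * z := h3
        have hxk : z * (x k : G)⁻¹ = (x k : G)⁻¹ * z := by
          rw [eq_inv_mul_iff_mul_eq, ← mul_assoc, hxz, mul_assoc, mul_inv_cancel, mul_one]
        show (x k : G) * ((x k : G) * (q * z) * (x k : G)⁻¹) * (x k : G)⁻¹ =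
          q * z * ((x k : G) * (q * z) * (x k : G)⁻¹)
        have h5 : (x k : G) * (q * z) * (x k : G)⁻¹ = (x k : G) * q * (x k : G)⁻¹ * z := by
          calc (x k : G) * (q * z) * (x k : G)⁻¹ = (x k : G) * q * (z * (x k : G)⁻¹) := by group
            _ = _ := by rw [hxk]; group
        rw [h5]
        calc (x k : G) * ((x k : G) * q * (x k : G)⁻¹ * z) * (x k : G)⁻¹
            = (x k : G) * ((x k : G) * q * (x k : G)⁻¹) * (z * (x k : G)⁻¹) := by group
          _ = ((x k : G) * ((x k : G) * q * (x k : G)⁻¹) * (x k : G)⁻¹) * z := by rw [hxk]; group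
          _ = q * ((x k : G) * q * (x k : G)⁻¹) * (z * z) := by rw [h4]; group
          _ = q * (z * z) * ((x k : G) * q * (x k : G)⁻¹) := by rw [h.z_sq]; group
          _ = q * z * (z * ((x k : G) * q * (x k : G)⁻¹)) := by group
          _ = _ := by
            have h6 : (x k : G) * q * (x k : G)⁻¹ * z = z * ((x k : G) * q * (x k : G)⁻¹) := hzQ (h.conjQ (x k) q)
            rw [h6]
  choose I hIu hIx using hI
  have hJv : ∀ k, h.pr (h.conjQ (x k) (I k)) = inp.v k := by
    intro k
    rw [← h.act_pr, hIu, hx, inp.ξ_u]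
  have hcommx : ∀ k (q : Q), inp.ξ k (h.pr q) = h.pr q → (x k : G) * q = q * x k := by
    intro k q hq
    have h1 : h.act (x k) (h.pr q) = h.pr q := by rw [hx, hq]
    rcases act_coe_eq h1 with h2 | h2
    · rw [mul_inv_eq_iff_eq_mul] at h2; exact h2
    · exfalso
      have h3 : (x k : G) * x k * x k = 1 := by
        have := congrArg Subtype.val (hx3 k)
        have h4 : (x k : G) ^ 3 = 1 := this
        rw [← pow_three']; exact h4
      rw [mul_inv_eq_iff_eq_mul] at h2
      -- x q = q z x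
      have h4 : (x k : G) * x k * x k * q = q * z * (x k * x k * x k) := by
        calc (x k : G) * x k * x k * q = x k * x k * (x k * q) := by group
          _ = x k * x k * (q * z * x k) := by rw [h2]
          _ = x k * (x k * q) * z * x k := by group
          _ = x k * (q * z * x k) * z * x k := by rw [h2]
          _ = (x k * q) * z * (x k * z) * x k := by group
          _ = (q * z * x k) * z * (z * x k) * x k := by rw [h2, hxz]
          _ = q * z * x k * (z * z) * x k * x k := by group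
          _ = _ := by rw [h.z_sq]; group
      rw [h3, one_mul, mul_one] at h4
      exact h.z_ne (mul_eq_left.1 h4.symm)
  refine ⟨x, I, fun k => h.conjQ (x k) (I k), ?_, hx, hIu, hJv⟩
  constructor
  · exact h
  · exact inp.card
  · exact hxz
  · intro k hk
    apply inp.xi_ne_one k
    have : x k = 1 := Subtype.ext hk
    rw [← hx, this, map_one]
  · intro k
    have := congrArg Subtype.val (hx3 k)
    have h4 : (x k : G) ^ 3 = 1 := this
    show (x k : G) * x k * x k = 1
    rw [← pow_three']; exact h4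
  · intro k l
    exact congrArg Subtype.val (hxx k l)
  · intro k; exact (I k).2
  · intro k; exact (h.conjQ (x k) (I k)).2
  · intro k
    have := inp.q_u k
    rw [← hIu, h.q_eq_one] at this
    exact this
  · intro k
    have := inp.q_v k
    rw [← hJv, h.q_eq_one] at this
    exact this
  · intro k
    have := inp.b_vu k
    rw [← hJv, ← hIu, h.b_pr_one] at this
    exact this
  · intro k l hkl
    have := inp.b_uu k l hkl
    rw [← hIu, ← hIu, h.b_pr] at this
    exact this
  · intro k l hkl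
    have := inp.b_uv' k l hkl
    rw [← hIu, ← hJv, h.b_pr] at this
    exact this
  · intro k l hkl
    have := inp.b_vv k l hkl
    rw [← hJv, ← hJv, h.b_pr] at this
    exact this
  · intro k; rfl
  · intro k; exact hIx k
  · intro k l hkl
    exact hcommx k (I l) (by rw [hIu, inp.ξ_u' k l hkl])
  · intro k l hkl
    exact hcommx k (h.conjQ (x l) (I l)) (by rw [hJv, inp.ξ_v' k l hkl])
  · intro c hc k
    have hcC : c ∈ Subgroup.centralizer ({z} : Set G) := Subgroup.mem_centralizer_singleton_iff.2 hc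
    obtain ⟨l, hl⟩ := inp.norm (h.act ⟨c, hcC⟩) ⟨_, rfl⟩ k
    refine ⟨l, ?_⟩
    rcases hl with hl | hl
    · left
      have h1 : h.act ((x l)⁻¹ * (⟨c, hcC⟩ * x k * ⟨c, hcC⟩⁻¹)) = 1 := by
        rw [map_mul, map_mul, map_mul, map_inv, map_inv, hx, hx, hl]; group
      have h2 := h.mem_of_act _ h1
      exact ⟨_, h2, by show c * x k * c⁻¹ = x l * ((x l : G)⁻¹ * (c * x k * c⁻¹)); group⟩
    · right
      have h1 : h.act (x l * (⟨c, hcC⟩ * x k * ⟨c, hcC⟩⁻¹)) = 1 := by
        rw [map_mul, map_mul, map_mul, map_inv, hx, hx, hl]; group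
      have h2 := h.mem_of_act _ h1
      exact ⟨_, h2, by show c * x k * c⁻¹ = (x l : G)⁻¹ * (x l * (c * x k * c⁻¹)); group⟩

end Input

end Cfsg.Agent.TypeD4Three
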