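import Cfsg.Agent.LargeExtra.Local

/-!
# S1763, case [P] : the input of the recognition theorem for `PΩ₈⁺(3)` (helper754)

`Input h` : `V = Q / ⟨z⟩` is the orthogonal sum of four planes `⟨u k, v k⟩` of minus type, `ξ k` is induced by an
element of `C_G(z)`, is the rotation `u ↦ v ↦ u + v` on the `k`-th plane and the identity on the others, and every
element of `C_G(z)` permutes the groups `⟨ξ k⟩`.
-/

set_option autoImplicit false

namespace Cfsg.Agent.TypeD4Three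

open Cfsg.Agent.Co2Type.Quad

variable {G : Type*} [Group G]

/-- The input of the recognition theorem. -/
structure Input {Q : Subgroup G} {z : G} (h : Large Q z) where
  u : Fin 4 → h.V
  v : Fin 4 → h.V
  ξ : Fin 4 → (h.V ≃ₗ[ZMod 2] h.V)
  card : Nat.card Q = 2 ^ 9
  q_u : ∀ k, h.q (u k) = 1
  q_v : ∀ k, h.q (v k) = 1
  b_uv : ∀ k, h.b (u k) (v k) = 1
  b_uu : ∀ k l, k ≠ l → h.b (u k) (u l) = 0
  b_uv' : ∀ k l, k ≠ l → h.b (u k) (v l) = 0
  b_vv : ∀ k l, k ≠ l → h.b (v k) (v l) = 0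
  ξ_u : ∀ k, ξ k (u k) = v k
  ξ_v : ∀ k, ξ k (v k) = u k + v k
  ξ_u' : ∀ k l, k ≠ l → ξ k (u l) = u l
  ξ_v' : ∀ k l, k ≠ l → ξ k (v l) = v l
  mem : ∀ k, ξ k ∈ h.act.range
  norm : ∀ f ∈ h.act.range, ∀ k, ∃ l, f * ξ k * f⁻¹ = ξ l ∨ f * ξ k * f⁻¹ = (ξ l)⁻¹

end Cfsg.Agent.TypeD4Three
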