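import Cfsg.Agent.TypeD4Three.Input
import Cfsg.Agent.TypeD4Three.Frame

/-!
# S1763, case [P] : coordinates on `V = Q / ⟨z⟩` (helper754)
-/

set_option autoImplicit false

namespace Cfsg.Agent.TypeD4Three

open Cfsg.Agent.Co2Type.Quad

variable {G : Type*} [Group G]

namespace Input

variable {Q : Subgroup G} {z : G} {h : Large Q z} (inp : Input h)

theorem zmod_two (c : ZMod 2) : c = 0 ∨ c = 1 := by revert c; decide

theorem fin4 (k : Fin 4) : k = 0 ∨ k = 1 ∨ k = 2 ∨ k = 3 := by revert k; decide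

include inp in
theorem card_V : Nat.card h.V = 2 ^ 8 := by
  have := h.card_eq
  rw [inp.card] at this
  omega

theorem b_vu (k : Fin 4) : h.b (inp.v k) (inp.u k) = 1 := by rw [h.b_comm]; exact inp.b_uv k

theorem b_vu' (k l : Fin 4) (hkl : k ≠ l) : h.b (inp.v k) (inp.u l) = 0 := by
  rw [h.b_comm]; exact inp.b_uv' l k hkl.symm

/-- The vector with the given coordinates. -/
noncomputable def comb (c : Fin 4 → ZMod 2 × ZMod 2) : h.V :=
  ∑ k, ((c k).1 • inp.u k + (c k).2 • inp.v k)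

theorem b_comb_u (c : Fin 4 → ZMod 2 × ZMod 2) (l : Fin 4) : h.b (inp.comb c) (inp.u l) = (c l).2 := by
  unfold comb
  rw [map_sum, LinearMap.sum_apply, Finset.sum_eq_single l]
  · rw [map_add, LinearMap.add_apply, map_smul, map_smul, LinearMap.smul_apply, LinearMap.smul_apply,
      h.b_self, inp.b_vu]
    simp
  · intro k _ hk
    rw [map_add, LinearMap.add_apply, map_smul, map_smul, LinearMap.smul_apply, LinearMap.smul_apply,
      inp.b_uu k l hk, inp.b_vu' k l hk]
    simp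
  · intro hl; exact absurd (Finset.mem_univ _) hl

theorem b_comb_v (c : Fin 4 → ZMod 2 × ZMod 2) (l : Fin 4) : h.b (inp.comb c) (inp.v l) = (c l).1 := by
  unfold comb
  rw [map_sum, LinearMap.sum_apply, Finset.sum_eq_single l]
  · rw [map_add, LinearMap.add_apply, map_smul, map_smul, LinearMap.smul_apply, LinearMap.smul_apply,
      h.b_self, inp.b_uv]
    simp
  · intro k _ hk
    rw [map_add, LinearMap.add_apply, map_smul, map_smul, LinearMap.smul_apply, LinearMap.smul_apply,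
      inp.b_uv' k l hk, inp.b_vv k l hk]
    simp
  · intro hl; exact absurd (Finset.mem_univ _) hl

theorem comb_injective : Function.Injective inp.comb := by
  intro c d hcd
  funext k
  have h1 := inp.b_comb_u c k
  have h2 := inp.b_comb_v c k
  rw [hcd, inp.b_comb_u] at h1
  rw [hcd, inp.b_comb_v] at h2
  exact Prod.ext h2.symm h1.symm

theorem comb_surjective : Function.Surjective inp.comb := by
  have hf : Finite h.V := Nat.finite_of_card_ne_zero (by rw [inp.card_V]; norm_num)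
  have hb : Function.Bijective inp.comb := by
    rw [Nat.bijective_iff_injective_and_card]
    refine ⟨inp.comb_injective, ?_⟩
    rw [inp.card_V, Nat.card_eq_fintype_card, Fintype.card_pi_const, Fintype.card_prod, ZMod.card]; norm_num
  exact hb.2

theorem comb_add (c d : Fin 4 → ZMod 2 × ZMod 2) : inp.comb (c + d) = inp.comb c + inp.comb d := by
  unfold comb
  rw [← Finset.sum_add_distrib]
  refine Finset.sum_congr rfl fun k _ => ?_
  rw [Pi.add_apply, Prod.fst_add, Prod.snd_add, add_smul, add_smul]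
  abel

theorem comb_zero : inp.comb 0 = 0 := by
  unfold comb
  simp

/-- Linear maps agreeing on the basis are equal. -/
theorem ext_hom {W : Type*} [AddCommGroup W] [Module (ZMod 2) W] {f g : h.V →ₗ[ZMod 2] W}
    (hu : ∀ k, f (inp.u k) = g (inp.u k)) (hv : ∀ k, f (inp.v k) = g (inp.v k)) : f = g := by
  ext w
  obtain ⟨c, rfl⟩ := inp.comb_surjective w
  unfold comb
  rw [map_sum, map_sum]
  refine Finset.sum_congr rfl fun k _ => ?_
  rw [map_add, map_add, map_smul, map_smul, map_smul, map_smul, hu, hv]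

theorem ext_equiv {f g : h.V ≃ₗ[ZMod 2] h.V}
    (hu : ∀ k, f (inp.u k) = g (inp.u k)) (hv : ∀ k, f (inp.v k) = g (inp.v k)) : f = g := by
  have := inp.ext_hom (f := f.toLinearMap) (g := g.toLinearMap) hu hv
  exact LinearEquiv.toLinearMap_injective this

theorem equiv_comb (f : h.V ≃ₗ[ZMod 2] h.V) (c : Fin 4 → ZMod 2 × ZMod 2) :
    f (inp.comb c) = ∑ k, ((c k).1 • f (inp.u k) + (c k).2 • f (inp.v k)) := by
  unfold comb
  rw [map_sum]
  refine Finset.sum_congr rfl fun k _ => ?_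
  rw [map_add, map_smul, map_smul]

/-- A vector orthogonal to the basis vectors of all planes but the `k`-th. -/
theorem mem_plane {w : h.V} {k : Fin 4} (hw : ∀ l, l ≠ k → h.b w (inp.u l) = 0 ∧ h.b w (inp.v l) = 0) :
    w = 0 ∨ w = inp.u k ∨ w = inp.v k ∨ w = inp.u k + inp.v k := by
  obtain ⟨c, rfl⟩ := inp.comb_surjective w
  have h1 : inp.comb c = (c k).1 • inp.u k + (c k).2 • inp.v k := by
    unfold comb
    rw [Finset.sum_eq_single k]
    · intro l _ hl
      obtain ⟨h2, h3⟩ := hw l hl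
      rw [inp.b_comb_u] at h2
      rw [inp.b_comb_v] at h3
      rw [h2, h3, zero_smul, zero_smul, add_zero]
    · intro hl; exact absurd (Finset.mem_univ _) hl
  rw [h1]
  rcases zmod_two (c k).1 with e1 | e1 <;> rcases zmod_two (c k).2 with e2 | e2 <;> rw [e1, e2] <;> simp

theorem xi_fix {w : h.V} {k : Fin 4} : inp.ξ k w = w ↔ h.b w (inp.u k) = 0 ∧ h.b w (inp.v k) = 0 := by
  obtain ⟨c, rfl⟩ := inp.comb_surjective w
  have h1 : inp.ξ k (inp.comb c) = inp.comb c + ((c k).1 • (inp.u k + inp.v k) + (c k).2 • inp.u k) := by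
    rw [inp.equiv_comb]
    unfold comb
    rw [← Finset.add_sum_erase _ _ (Finset.mem_univ k), ← Finset.add_sum_erase _ _ (Finset.mem_univ k),
      inp.ξ_u, inp.ξ_v]
    have h2 : ∑ x ∈ Finset.univ.erase k, ((c x).1 • inp.ξ k (inp.u x) + (c x).2 • inp.ξ k (inp.v x)) =
        ∑ x ∈ Finset.univ.erase k, ((c x).1 • inp.u x + (c x).2 • inp.v x) := by
      refine Finset.sum_congr rfl fun l hl => ?_
      have hl' := (Finset.mem_erase.1 hl).1
      rw [inp.ξ_u' k l hl'.symm, inp.ξ_v' k l hl'.symm]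
    rw [h2]
    have h3 : ∀ x y : h.V, ∀ α β : ZMod 2, α • y + β • (x + y) = (α • x + β • y) + (α • (x + y) + β • x) := by
      intro x y α β
      have hx := h.add_self x
      have hy := h.add_self y
      rcases zmod_two α with rfl | rfl <;> rcases zmod_two β with rfl | rfl
      · simp
      · simp only [zero_smul, one_smul, zero_add]; abel
      · simp only [zero_smul, one_smul, add_zero]
        rw [← add_assoc, hx, zero_add]
      · simp only [one_smul]
        calc y + (x + y) = x + (y + y) := by abel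
          _ = x := by rw [hy, add_zero]
          _ = (x + x) + ((y + y) + x) := by rw [hx, hy]; abel
          _ = _ := by abel
    rw [h3]
    abel
  rw [h1, add_eq_left]
  rw [inp.b_comb_u, inp.b_comb_v]
  constructor
  · intro h2
    have h3 : h.b ((c k).1 • (inp.u k + inp.v k) + (c k).2 • inp.u k) (inp.u k) = 0 := by
      rw [h2, map_zero, LinearMap.zero_apply]
    have h4 : h.b ((c k).1 • (inp.u k + inp.v k) + (c k).2 • inp.u k) (inp.v k) = 0 := by
      rw [h2, map_zero, LinearMap.zero_apply]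
    simp only [map_add, map_smul, LinearMap.add_apply, LinearMap.smul_apply, h.b_self, inp.b_vu, inp.b_uv,
      smul_eq_mul] at h3 h4
    simp only [zero_add, mul_one, mul_zero, add_zero] at h3 h4
    rw [h3, zero_add] at h4
    exact ⟨h4, h3⟩
  · rintro ⟨h2, h3⟩
    rw [h2, h3]; simp

/-- powers of `ξ k` on the plane -/
theorem xi_pow (k : Fin 4) : inp.ξ k ^ 3 = 1 := by
  apply inp.ext_equiv
  · intro l
    rw [pow_succ, pow_two]
    show inp.ξ k (inp.ξ k (inp.ξ k (inp.u l))) = inp.u l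
    by_cases hkl : k = l
    · subst hkl
      rw [inp.ξ_u, inp.ξ_v, map_add, inp.ξ_u, inp.ξ_v]
      have := h.add_self (inp.v k)
      calc inp.v k + (inp.u k + inp.v k) = inp.u k + (inp.v k + inp.v k) := by abel
        _ = _ := by rw [this, add_zero]
    · rw [inp.ξ_u' k l hkl, inp.ξ_u' k l hkl, inp.ξ_u' k l hkl]
  · intro l
    rw [pow_succ, pow_two]
    show inp.ξ k (inp.ξ k (inp.ξ k (inp.v l))) = inp.v l
    by_cases hkl : k = l
    · subst hkl
      rw [inp.ξ_v, map_add, inp.ξ_u, inp.ξ_v, map_add, map_add, inp.ξ_u, inp.ξ_v]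
      have h1 := h.add_self (inp.v k)
      have h2 := h.add_self (inp.u k)
      calc inp.u k + inp.v k + (inp.v k + (inp.u k + inp.v k))
          = (inp.u k + inp.u k) + (inp.v k + inp.v k) + inp.v k := by abel
        _ = _ := by rw [h1, h2, zero_add, zero_add]
    · rw [inp.ξ_v' k l hkl, inp.ξ_v' k l hkl, inp.ξ_v' k l hkl]

theorem xi_comm (k l : Fin 4) : inp.ξ k * inp.ξ l = inp.ξ l * inp.ξ k := by
  by_cases hkl : k = l
  · subst hkl; rfl
  apply inp.ext_equiv
  · intro m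
    show inp.ξ k (inp.ξ l (inp.u m)) = inp.ξ l (inp.ξ k (inp.u m))
    by_cases h1 : k = m
    · subst h1
      rw [inp.ξ_u' l k (Ne.symm hkl), inp.ξ_u, inp.ξ_v' l k (Ne.symm hkl)]
    · by_cases h2 : l = m
      · subst h2
        rw [inp.ξ_u, inp.ξ_v' k l hkl, inp.ξ_u' k l hkl, inp.ξ_u]
      · rw [inp.ξ_u' l m h2, inp.ξ_u' k m h1, inp.ξ_u' l m h2]
  · intro m
    show inp.ξ k (inp.ξ l (inp.v m)) = inp.ξ l (inp.ξ k (inp.v m))
    by_cases h1 : k = m
    · subst h1
      rw [inp.ξ_v' l k (Ne.symm hkl), inp.ξ_v, map_add, inp.ξ_u' l k (Ne.symm hkl), inp.ξ_v' l k (Ne.symm hkl)]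
    · by_cases h2 : l = m
      · subst h2
        rw [inp.ξ_v, map_add, inp.ξ_u' k l hkl, inp.ξ_v' k l hkl, inp.ξ_v]
      · rw [inp.ξ_v' l m h2, inp.ξ_v' k m h1, inp.ξ_v' l m h2]

theorem xi_ne_one (k : Fin 4) : inp.ξ k ≠ 1 := by
  intro h1
  have h2 := inp.ξ_u k
  rw [h1] at h2
  have h3 : inp.u k = inp.v k := h2
  have h4 := inp.b_uv k
  rw [h3, h.b_self] at h4
  exact absurd h4 (by decide)

/-- An isometry commuting with all `ξ k` is a product of powers of the `ξ k`. -/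
theorem exists_pow {f : h.V ≃ₗ[ZMod 2] h.V} (hf : ∀ k, f * inp.ξ k = inp.ξ k * f) :
    ∃ i : Fin 4 → ℕ, (∀ k, i k < 3) ∧
      f = inp.ξ 0 ^ i 0 * inp.ξ 1 ^ i 1 * inp.ξ 2 ^ i 2 * inp.ξ 3 ^ i 3 := by
  have h1 : ∀ k, ∃ i : ℕ, i < 3 ∧ f (inp.u k) = (inp.ξ k ^ i) (inp.u k) := by
    intro k
    have h2 : f (inp.u k) = 0 ∨ f (inp.u k) = inp.u k ∨ f (inp.u k) = inp.v k ∨
        f (inp.u k) = inp.u k + inp.v k := by
      apply inp.mem_plane
      intro l hl
      rw [← inp.xi_fix]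
      have : (f * inp.ξ l) (inp.u k) = (inp.ξ l * f) (inp.u k) := by rw [hf l]
      have h3 : f (inp.ξ l (inp.u k)) = inp.ξ l (f (inp.u k)) := this
      rw [← h3, inp.ξ_u' l k hl]
    rcases h2 with h2 | h2 | h2 | h2
    · exfalso
      rw [LinearEquiv.map_eq_zero_iff] at h2
      have := inp.b_uv k
      rw [h2] at this
      simp at this
    · exact ⟨0, by norm_num, by rw [h2]; rfl⟩
    · exact ⟨1, by norm_num, by rw [h2, pow_one, inp.ξ_u]⟩
    · refine ⟨2, by norm_num, ?_⟩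
      rw [h2, pow_two]
      show _ = inp.ξ k (inp.ξ k (inp.u k))
      rw [inp.ξ_u, inp.ξ_v]
  choose i hi hi2 using h1
  refine ⟨i, hi, ?_⟩
  -- action of powers on the other planes
  have hpu : ∀ k l, k ≠ l → ∀ n : ℕ, (inp.ξ k ^ n) (inp.u l) = inp.u l := by
    intro k l hkl n
    induction n with
    | zero => rfl
    | succ n ih =>
      rw [pow_succ']
      show inp.ξ k ((inp.ξ k ^ n) (inp.u l)) = _
      rw [ih, inp.ξ_u' k l hkl]
  have hcomm : ∀ k l, ∀ m n : ℕ, inp.ξ k ^ m * inp.ξ l ^ n = inp.ξ l ^ n * inp.ξ k ^ m := by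
    intro k l m n
    have : Commute (inp.ξ k) (inp.ξ l) := inp.xi_comm k l
    exact (this.pow_pow m n).eq
  set P : h.V ≃ₗ[ZMod 2] h.V := inp.ξ 0 ^ i 0 * inp.ξ 1 ^ i 1 * inp.ξ 2 ^ i 2 * inp.ξ 3 ^ i 3 with hP
  have hPc : ∀ k, P * inp.ξ k = inp.ξ k * P := by
    intro k
    have h0 : Commute (inp.ξ 0 ^ i 0) (inp.ξ k) := (show Commute (inp.ξ 0) (inp.ξ k) from inp.xi_comm 0 k).pow_left _
    have h1 : Commute (inp.ξ 1 ^ i 1) (inp.ξ k) := (show Commute (inp.ξ 1) (inp.ξ k) from inp.xi_comm 1 k).pow_left _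
    have h2 : Commute (inp.ξ 2 ^ i 2) (inp.ξ k) := (show Commute (inp.ξ 2) (inp.ξ k) from inp.xi_comm 2 k).pow_left _
    have h3 : Commute (inp.ξ 3 ^ i 3) (inp.ξ k) := (show Commute (inp.ξ 3) (inp.ξ k) from inp.xi_comm 3 k).pow_left _
    exact (((h0.mul_left h1).mul_left h2).mul_left h3).eq
  have hPu : ∀ k, P (inp.u k) = (inp.ξ k ^ i k) (inp.u k) := by
    intro k
    show (inp.ξ 0 ^ i 0) ((inp.ξ 1 ^ i 1) ((inp.ξ 2 ^ i 2) ((inp.ξ 3 ^ i 3) (inp.u k)))) = _
    have hfix : ∀ l, l ≠ k → ∀ m n : ℕ, (inp.ξ l ^ m) ((inp.ξ k ^ n) (inp.u k)) = (inp.ξ k ^ n) (inp.u k) := by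
      intro l hl m n
      have : (inp.ξ l ^ m * inp.ξ k ^ n) (inp.u k) = (inp.ξ k ^ n * inp.ξ l ^ m) (inp.u k) := by rw [hcomm]
      have h2 : (inp.ξ l ^ m) ((inp.ξ k ^ n) (inp.u k)) = (inp.ξ k ^ n) ((inp.ξ l ^ m) (inp.u k)) := this
      rw [h2, hpu l k hl]
    have hk : k = 0 ∨ k = 1 ∨ k = 2 ∨ k = 3 := fin4 k
    rcases hk with rfl | rfl | rfl | rfl
    · rw [hpu 3 0 (by decide), hpu 2 0 (by decide), hpu 1 0 (by decide)]
    · rw [hpu 3 1 (by decide), hpu 2 1 (by decide), hfix 0 (by decide)]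
    · rw [hpu 3 2 (by decide), hfix 1 (by decide), hfix 0 (by decide)]
    · rw [hfix 2 (by decide), hfix 1 (by decide), hfix 0 (by decide)]
  apply inp.ext_equiv
  · intro k
    rw [hi2, hPu]
  · intro k
    have h1 : f (inp.v k) = inp.ξ k (f (inp.u k)) := by
      rw [← inp.ξ_u k]
      have : (f * inp.ξ k) (inp.u k) = (inp.ξ k * f) (inp.u k) := by rw [hf]
      exact this
    have h2 : P (inp.v k) = inp.ξ k (P (inp.u k)) := by
      rw [← inp.ξ_u k]
      have : (P * inp.ξ k) (inp.u k) = (inp.ξ k * P) (inp.u k) := by rw [hPc]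
      exact this
    rw [h1, h2, hi2, hPu]

end Input

end Cfsg.Agent.TypeD4Three
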