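import Cfsg.Agent.TypeD4Three.StarModel

/-!
# S1763, case [P]: finite facts about `W⁴` for the instance of the closing argument (helper948)
-/

set_option autoImplicit false
set_option synthInstance.maxSize 4096
set_option synthInstance.maxHeartbeats 400000
set_option maxHeartbeats 1000000

namespace Cfsg.Agent.TypeD4Three.InstModel

open Cfsg.Agent.TypeD4Three.StarModel

/-- all components nonzero -/
def isFull (v : Fin 4 → W) : Prop := ∀ k, v k ≠ 0

/-- exactly two nonzero components -/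
def isTwo (v : Fin 4 → W) : Prop := ∃ k l : Fin 4, k ≠ l ∧ ∀ j, v j ≠ 0 ↔ (j = k ∨ j = l)

/-- perpendicular to `(1,0)⁴` -/
def isPerp (v : Fin 4 → W) : Prop := ∑ k, (v k).2 = 0

/-- the model of `D` -/
def isD (v : Fin 4 → W) : Prop := (∀ j k, (v j).2 = (v k).2) ∧ ∑ k, (v k).1 = 0

/-- the vector `ã` -/
def A0 : Fin 4 → W := fun _ => (1, 0)

instance (v : Fin 4 → W) : Decidable (isFull v) := by unfold isFull; infer_instance
instance (v : Fin 4 → W) : Decidable (isTwo v) := by unfold isTwo; infer_instance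
instance (v : Fin 4 → W) : Decidable (isPerp v) := by unfold isPerp; infer_instance
instance (v : Fin 4 → W) : Decidable (isD v) := by unfold isD; infer_instance

/-- two vectors with the same support of size two, different there -/
def isS (v w : Fin 4 → W) : Prop := ∃ k l : Fin 4, k ≠ l ∧ (∀ j, v j ≠ 0 ↔ (j = k ∨ j = l)) ∧
  (∀ j, w j ≠ 0 ↔ (j = k ∨ j = l)) ∧ v k + w k ≠ 0 ∧ v l + w l ≠ 0

instance (v w : Fin 4 → W) : Decidable (isS v w) := by unfold isS; infer_instance

/-- commuting vectors -/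
def isComm (v w : Fin 4 → W) : Prop := ∑ k, om (v k) (w k) = 0

instance (v w : Fin 4 → W) : Decidable (isComm v w) := by unfold isComm; infer_instance

theorem eq_vec (v : Fin 4 → W) : v = ![v 0, v 1, v 2, v 3] := by
  funext i; fin_cases i <;> rfl

theorem isD_iff (v : Fin 4 → W) :
    isD v ↔ ∃ (s : Fin 4 → ZMod 2) (e : ZMod 2), ∑ k, s k = 0 ∧ ∀ k, v k = (s k, e) := by
  constructor
  · rintro ⟨h1, h2⟩
    exact ⟨fun k => (v k).1, (v 0).2, h2, fun k => Prod.ext rfl (h1 k 0)⟩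
  · rintro ⟨s, e, h1, h2⟩
    refine ⟨fun j k => by rw [h2, h2], ?_⟩
    simp only [h2]; exact h1

/-- the vector of weight two in `D` -/
def dv (k l : Fin 4) : Fin 4 → W := fun j => if j = k ∨ j = l then (1, 0) else 0

theorem w_cases : ∀ x : W, x ≠ 0 → x.2 = 0 → x = (1, 0) := by decide

theorem w_cases' : ∀ x : W, x ≠ 0 → x ≠ (1, 0) → x.2 = 1 := by decide

theorem eq_dv (w : Fin 4 → W) (h1 : isTwo w) (h2 : isD w) : ∃ k l, k ≠ l ∧ w = dv k l := by
  obtain ⟨k, l, hkl, h⟩ := h1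
  refine ⟨k, l, hkl, ?_⟩
  have : ∀ k l : Fin 4, ∃ j, j ≠ k ∧ j ≠ l := by decide
  obtain ⟨j, hj1, hj2⟩ := this k l
  have hj : w j = 0 := by
    by_contra h0
    rcases (h j).1 h0 with h' | h'
    · exact hj1 h'
    · exact hj2 h'
  have h3 : ∀ i, (w i).2 = 0 := by
    intro i
    rw [h2.1 i j, hj]; rfl
  funext i
  unfold dv
  by_cases hi : i = k ∨ i = l
  · rw [if_pos hi]
    exact w_cases _ ((h i).2 hi) (h3 i)
  · rw [if_neg hi]
    by_contra h0
    exact hi ((h i).1 h0)

theorem t1_aux : ∀ a b c d : W, isPerp ![a, b, c, d] → isTwo ![a, b, c, d] → ¬ isD ![a, b, c, d] →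
    isFull (![a, b, c, d] + A0) := by decide +kernel

theorem t1 (v : Fin 4 → W) (h1 : isPerp v) (h2 : isTwo v) (h3 : ¬ isD v) : isFull (v + A0) := by
  rw [eq_vec v] at *
  exact t1_aux _ _ _ _ h1 h2 h3

/-- hypotheses of `t2` on `y` -/
def hy2 (y : Fin 4 → W) : Prop := isFull y ∧ isPerp y ∧ ¬ isFull (y + A0) ∧ y ≠ A0

instance (y : Fin 4 → W) : Decidable (hy2 y) := by unfold hy2; infer_instance

theorem t2_aux : ∀ a b c d : W, hy2 ![a, b, c, d] → ∀ k l : Fin 4, k ≠ l →
    isFull (![a, b, c, d] + dv k l) → isS (dv k l) (![a, b, c, d] + A0) ∧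
      ¬ isFull (![a, b, c, d] + dv k l + A0) := by
  decide +kernel

theorem t2 (y w : Fin 4 → W) (h1 : isFull y) (h2 : isPerp y) (h3 : ¬ isFull (y + A0)) (h4 : y ≠ A0)
    (h5 : isTwo w) (h6 : isD w) (h7 : isFull (y + w)) :
    isS w (y + A0) ∧ ¬ isFull (y + w + A0) := by
  obtain ⟨k, l, hkl, rfl⟩ := eq_dv w h5 h6
  have h := t2_aux (y 0) (y 1) (y 2) (y 3)
  rw [← eq_vec y] at h
  exact h ⟨h1, h2, h3, h4⟩ k l hkl h7

theorem t3_aux : ∀ a b c d : W, hy2 ![a, b, c, d] → ∀ p q r s : ZMod 2,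
    isComm ![a, b, c, d] ![(p, 1), (q, 1), (r, 1), (s, 1)] ∧ p + q + r + s = 0 → ∀ k l : Fin 4,
    (k ≠ l ∧ isFull (![a, b, c, d] + dv k l)) →
    (isFull (![a, b, c, d] + ![(p, 1), (q, 1), (r, 1), (s, 1)]) ↔
      ¬ isFull (![a, b, c, d] + ![(p, 1), (q, 1), (r, 1), (s, 1)] + dv k l)) := by
  decide +kernel

theorem t3 (x r w : Fin 4 → W) (h1 : isFull x) (h2 : isPerp x) (h3 : ¬ isFull (x + A0)) (h4 : x ≠ A0)
    (r1 : isFull r) (r2 : isD r) (r3 : r ≠ A0) (r4 : isComm x r) (w1 : isTwo w) (w2 : isD w)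
    (w3 : isFull (x + w)) : isFull (x + r) ↔ ¬ isFull (x + r + w) := by
  obtain ⟨k, l, hkl, rfl⟩ := eq_dv w w1 w2
  have hr : ∀ j, (r j).2 = 1 := by
    by_contra hcon
    push Not at hcon
    obtain ⟨j, hj⟩ := hcon
    have hj0 : (r j).2 = 0 := by
      have : ∀ c : ZMod 2, c ≠ 1 → c = 0 := by decide
      exact this _ hj
    apply r3
    funext i
    exact w_cases _ (r1 i) (by rw [r2.1 i j, hj0])
  have hr' : r = ![((r 0).1, 1), ((r 1).1, 1), ((r 2).1, 1), ((r 3).1, 1)] := by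
    funext i
    fin_cases i <;> exact Prod.ext rfl (hr _)
  have hsum : (r 0).1 + (r 1).1 + (r 2).1 + (r 3).1 = 0 := by
    have := r2.2
    rwa [Fin.sum_univ_four] at this
  have h := t3_aux (x 0) (x 1) (x 2) (x 3)
  rw [← eq_vec x] at h
  have h' := h ⟨h1, h2, h3, h4⟩ (r 0).1 (r 1).1 (r 2).1 (r 3).1
  rw [← hr'] at h'
  exact h' ⟨r4, hsum⟩ k l ⟨hkl, w3⟩

/-- the weight modulo 2 -/
def wt (v : Fin 4 → W) : ZMod 2 := ∑ k, (if v k = 0 then (0 : ZMod 2) else 1)

theorem wt_full (v : Fin 4 → W) (h : isFull v) : wt v = 0 := by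
  unfold wt
  rw [Finset.sum_congr rfl (fun k _ => if_neg (h k))]
  decide

theorem wt_two_aux : ∀ a b c d : W, isTwo ![a, b, c, d] → wt ![a, b, c, d] = 0 := by decide +kernel

theorem wt_two (v : Fin 4 → W) (h : isTwo v) : wt v = 0 := by
  rw [eq_vec v] at *
  exact wt_two_aux _ _ _ _ h

theorem two_or_full_aux : ∀ a b c d : W, wt ![a, b, c, d] = 0 → ![a, b, c, d] ≠ 0 →
    isTwo ![a, b, c, d] ∨ isFull ![a, b, c, d] := by decide +kernel

theorem two_or_full (v : Fin 4 → W) (h : wt v = 0) (h0 : v ≠ 0) : isTwo v ∨ isFull v := by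
  rw [eq_vec v] at *
  exact two_or_full_aux _ _ _ _ h h0

theorem not_full_of_two (v : Fin 4 → W) (h : isTwo v) : ¬ isFull v := by
  obtain ⟨k, l, hkl, h⟩ := h
  have : ∀ k l : Fin 4, ∃ j, j ≠ k ∧ j ≠ l := by decide
  obtain ⟨j, hj1, hj2⟩ := this k l
  intro hf
  rcases (h j).1 (hf j) with h' | h'
  · exact hj1 h'
  · exact hj2 h'

theorem ne_zero_of_two (v : Fin 4 → W) (h : isTwo v) : v ≠ 0 := by
  obtain ⟨k, l, hkl, h⟩ := h
  intro h0
  have := (h k).2 (Or.inl rfl)
  rw [h0] at this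
  exact this rfl

theorem add_zero_iff : ∀ x y : W, x + y = 0 ↔ x = y := by decide

theorem isS_all (v w : Fin 4 → W) (h : isS v w) : isTwo v ∧ isTwo w ∧ isTwo (v + w) ∧ isComm v w := by
  obtain ⟨k, l, hkl, h1, h2, h3, h4⟩ := h
  have z1 : ∀ j, ¬ (j = k ∨ j = l) → v j = 0 := fun j hj => by
    by_contra h0; exact hj ((h1 j).1 h0)
  have z2 : ∀ j, ¬ (j = k ∨ j = l) → w j = 0 := fun j hj => by
    by_contra h0; exact hj ((h2 j).1 h0)
  refine ⟨⟨k, l, hkl, h1⟩, ⟨k, l, hkl, h2⟩, ⟨k, l, hkl, fun j => ?_⟩, ?_⟩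
  · constructor
    · intro hj
      by_contra hcon
      apply hj
      rw [Pi.add_apply, z1 j hcon, z2 j hcon, add_zero]
    · rintro (rfl | rfl)
      · exact h3
      · exact h4
  · have hom : ∀ x y : W, x ≠ 0 → y ≠ 0 → x + y ≠ 0 → om x y = 1 := by decide
    unfold isComm
    have : ∀ j, om (v j) (w j) = if j = k ∨ j = l then 1 else 0 := by
      intro j
      by_cases hj : j = k ∨ j = l
      · rw [if_pos hj]
        have hj' := hj
        rcases hj with rfl | rfl
        · exact hom _ _ ((h1 _).2 hj') ((h2 _).2 hj') h3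
        · exact hom _ _ ((h1 _).2 hj') ((h2 _).2 hj') h4
      · rw [if_neg hj, z1 j hj, om_zero_left]
    rw [Finset.sum_congr rfl fun j _ => this j]
    revert hkl
    clear h1 h2 h3 h4 z1 z2 this
    revert k l
    decide

/-- rotation of the plane -/
def rot (x : W) : W := (x.2, x.1 + x.2)

theorem exists_beta (w : Fin 4 → W) (h : isTwo w) : ∃ y, isFull y ∧ isFull (y + w) ∧ isComm y w := by
  obtain ⟨k, l, hkl, h1⟩ := h
  have z1 : ∀ j, ¬ (j = k ∨ j = l) → w j = 0 := fun j hj => by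
    by_contra h0; exact hj ((h1 j).1 h0)
  have r1 : ∀ x : W, x ≠ 0 → rot x ≠ 0 ∧ rot x + x ≠ 0 ∧ om (rot x) x = 1 := by decide
  refine ⟨fun j => if w j = 0 then (1, 0) else rot (w j), fun j => ?_, fun j => ?_, ?_⟩
  · by_cases hj : w j = 0
    · simp only [if_pos hj]; decide
    · simp only [if_neg hj]; exact (r1 _ hj).1
  · rw [Pi.add_apply]
    by_cases hj : w j = 0
    · simp only [if_pos hj]; rw [hj]; decide
    · simp only [if_neg hj]; exact (r1 _ hj).2.1
  · unfold isComm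
    have : ∀ j, om (if w j = 0 then (1, 0) else rot (w j)) (w j) = if j = k ∨ j = l then 1 else 0 := by
      intro j
      by_cases hj : w j = 0
      · have : ¬ (j = k ∨ j = l) := fun h' => (h1 j).2 h' hj
        rw [if_pos hj, if_neg this, hj, om_zero_right]
      · rw [if_neg hj, if_pos ((h1 j).1 hj)]
        exact (r1 _ hj).2.2
    rw [Finset.sum_congr rfl fun j _ => this j]
    revert hkl
    clear h1 z1 this
    revert k l
    decide

/-- the model of an element of `X` -/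
def fm (π : Equiv.Perm (Fin 4)) (e : ZMod 2) (v : Fin 4 → W) : Fin 4 → W :=
  fun j => ((v (π j)).1 + e * (v (π j)).2, (v (π j)).2)

theorem fm_apply (π : Equiv.Perm (Fin 4)) (e : ZMod 2) (v : Fin 4 → W) (j : Fin 4) :
    fm π e v j = ((v (π j)).1 + e * (v (π j)).2, (v (π j)).2) := rfl

/-- fixed vectors different from `ã` in each plane are in `D` -/
theorem t4_aux : ∀ (π : Equiv.Perm (Fin 4)), isV π → ∀ e : ZMod 2, (π ≠ 1 ∨ e ≠ 0) →
    ∀ a b c d : ZMod 2, (∀ j, ![a, b, c, d] (π j) + e * 1 = ![a, b, c, d] j) → a + b + c + d = 0 := by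
  decide +kernel

theorem t4 (π : Equiv.Perm (Fin 4)) (e : ZMod 2) (h : isV π) (h' : π ≠ 1 ∨ e ≠ 0) (r : Fin 4 → W)
    (h1 : isFull r) (h2 : isFull (r + A0)) (h3 : fm π e r = r) : isD r := by
  have hr : ∀ j, (r j).2 = 1 := by
    intro j
    refine w_cases' _ (h1 j) fun h0 => h2 j ?_
    rw [Pi.add_apply, h0]
    show ((1, 0) : W) + (1, 0) = 0
    decide
  refine ⟨fun j k => by rw [hr, hr], ?_⟩
  rw [Fin.sum_univ_four]
  refine t4_aux π h e h' _ _ _ _ fun j => ?_
  have h5 : ∀ i, ![(r 0).1, (r 1).1, (r 2).1, (r 3).1] i = (r i).1 := by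
    intro i; fin_cases i <;> rfl
  rw [h5, h5]
  have := congrArg Prod.fst (congrFun h3 j)
  rw [fm_apply, hr] at this
  exact this

theorem isV_sq {π : Equiv.Perm (Fin 4)} (h : isV π) (j : Fin 4) : π (π j) = j := by
  have := h.1
  exact congrArg (fun p : Equiv.Perm (Fin 4) => p j) this

/-- `C_V(f) = [V, f]` -/
theorem t5 (π : Equiv.Perm (Fin 4)) (e : ZMod 2) (h : isV π) (h' : π ≠ 1 ∨ e ≠ 0) (c : Fin 4 → W)
    (h3 : fm π e c = c) : ∃ r, r + fm π e r = c ∧ (π = 1 ∨ isComm r (fm π e r)) := by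
  have hz : ∀ e : ZMod 2, (e ≠ 0 → e = 1) ∧ e + e = 0 := by decide
  by_cases hπ : π = 1
  · subst hπ
    have he : e = 1 := (hz e).1 (h'.resolve_left (fun h => h rfl))
    subst he
    refine ⟨fun j => (0, (c j).1), ?_, Or.inl rfl⟩
    funext j
    have h4 := congrFun h3 j
    have h5 : ((c j).1 + 1 * (c j).2, (c j).2) = c j := h4
    have h6 : (c j).2 = 0 := by
      have := congrArg Prod.fst h5
      rw [one_mul] at this
      exact left_eq_add.1 this.symm
    rw [Pi.add_apply, fm_apply]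
    apply Prod.ext
    · show 0 + (0 + 1 * (c j).1) = (c j).1
      ring
    · show (c j).1 + (c j).1 = (c j).2
      rw [h6]; exact (hz _).2
  · have hfix : ∀ j, π j ≠ j := by
      rcases h.2 with h | h
      · exact absurd h hπ
      · exact h
    refine ⟨fun j => if j < π j then c j else 0, ?_, Or.inr ?_⟩
    · funext j
      rw [Pi.add_apply, fm_apply, isV_sq h]
      have h4 := congrFun h3 j
      rw [fm_apply] at h4
      rcases lt_or_gt_of_ne (hfix j) with hj | hj
      · rw [if_neg (not_lt.2 hj.le)]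
        simp only [if_pos hj]
        rw [h4, zero_add]
      · simp only [if_neg (not_lt.2 hj.le), if_pos hj]
        rw [show (((0 : W).1 + e * (0 : W).2, (0 : W).2) : W) = 0 by
          apply Prod.ext
          · show (0 : ZMod 2) + e * 0 = 0
            ring
          · rfl, add_zero]
    · unfold isComm
      refine Finset.sum_eq_zero fun j _ => ?_
      rw [fm_apply, isV_sq h]
      rcases lt_or_gt_of_ne (hfix j) with hj | hj
      · simp only [if_neg (not_lt.2 hj.le)]
        exact om_zero_left _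
      · simp only [if_neg (not_lt.2 hj.le)]
        rw [show (((0 : W).1 + e * (0 : W).2, (0 : W).2) : W) = 0 by
          apply Prod.ext
          · show (0 : ZMod 2) + e * 0 = 0
            ring
          · rfl, om_zero_right]

theorem compl_two : ∀ k l : Fin 4, k ≠ l → ∃ k' l' : Fin 4, k' ≠ l' ∧
    ∀ j, ¬ (j = k ∨ j = l) ↔ (j = k' ∨ j = l') := by decide

/-- the choice of `s`, `s'` -/
theorem t6 (π : Equiv.Perm (Fin 4)) (e : ZMod 2) (h : isV π) (h' : π ≠ 1 ∨ e ≠ 0) (w v : Fin 4 → W)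
    (h1 : isS w v) (h2 : fm π e w = w) (h3 : fm π e v = v) :
    π ≠ 1 ∧ ∃ s, isTwo s ∧ isFull (w + s) ∧ isFull (v + s) ∧ isFull (w + v + s) ∧ isComm w s ∧
      fm π e s = s ∧
      ∃ s', isTwo s' ∧ isFull (w + s') ∧ fm π e s' = s' ∧ isFull (v + s + (w + s')) := by
  have hz : ∀ e : ZMod 2, (e ≠ 0 → e = 1) ∧ e + e = 0 := by decide
  obtain ⟨k, l, hkl, hw, hv, hk, hl⟩ := h1
  have hwv : ∀ j, w j = 0 ↔ v j = 0 := by
    intro j
    have := (hw j).trans (hv j).symm
    exact not_iff_not.1 this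
  have hπ : π ≠ 1 := by
    intro hπ
    subst hπ
    have he : e = 1 := (hz e).1 (h'.resolve_left (fun h => h rfl))
    subst he
    have key : ∀ c : Fin 4 → W, fm 1 1 c = c → ∀ j, (c j).2 = 0 := by
      intro c hc j
      have h4 := congrFun hc j
      have h5 : ((c j).1 + 1 * (c j).2, (c j).2) = c j := h4
      have := congrArg Prod.fst h5
      rw [one_mul] at this
      exact left_eq_add.1 this.symm
    apply hk
    rw [w_cases (w k) ((hw k).2 (Or.inl rfl)) (key w h2 k),
      w_cases (v k) ((hv k).2 (Or.inl rfl)) (key v h3 k)]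
    decide
  have hfix : ∀ j, π j ≠ j := by
    rcases h.2 with h | h
    · exact absurd h hπ
    · exact h
  have hwπ : ∀ j, w (π j) = 0 ↔ w j = 0 := by
    intro j
    have h4 := congrFun h2 j
    rw [fm_apply] at h4
    rw [← h4]
    have : ∀ (x : W) (e : ZMod 2), x = 0 ↔ ((x.1 + e * x.2, x.2) : W) = 0 := by decide
    exact this _ _
  obtain ⟨k', l', hkl', hc⟩ := compl_two k l hkl
  have hsupp : ∀ j, w j = 0 ↔ (j = k' ∨ j = l') := by
    intro j
    rw [← hc j, ← hw j, not_not]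
  have hadd : ∀ x y : W, x + y ≠ 0 → y + x ≠ 0 := by decide
  have hA : ∀ e : ZMod 2, ((((1, 0) : W).1 + e * ((1, 0) : W).2, ((1, 0) : W).2) : W) = (1, 0) := by
    decide
  have hB : ∀ e : ZMod 2, (((0 : W).1 + e * (0 : W).2, (0 : W).2) : W) = 0 := by decide
  refine ⟨hπ, fun j => if w j = 0 then (1, 0) else 0, ⟨k', l', hkl', fun j => ?_⟩, fun j => ?_,
    fun j => ?_, fun j => ?_, ?_, ?_, fun j => if w j = 0 then (if j < π j then (0, 1) else (e, 1)) else 0,
    ⟨k', l', hkl', fun j => ?_⟩, fun j => ?_, ?_, fun j => ?_⟩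
  · rw [← hsupp j]
    by_cases hj : w j = 0
    · simp only [hj, iff_true]; decide
    · simp only [hj, iff_false]; decide
  · rw [Pi.add_apply]
    by_cases hj : w j = 0
    · simp only [if_pos hj]; rw [hj]; decide
    · simp only [if_neg hj]; rw [add_zero]; exact hj
  · rw [Pi.add_apply]
    by_cases hj : w j = 0
    · simp only [if_pos hj]; rw [(hwv j).1 hj]; decide
    · simp only [if_neg hj]; rw [add_zero]; exact fun h0 => hj ((hwv j).2 h0)
  · rw [Pi.add_apply, Pi.add_apply]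
    by_cases hj : w j = 0
    · simp only [if_pos hj]; rw [hj, (hwv j).1 hj]; decide
    · simp only [if_neg hj]; rw [add_zero]
      rcases (hw j).1 hj with rfl | rfl
      · exact hk
      · exact hl
  · refine Finset.sum_eq_zero fun j _ => ?_
    by_cases hj : w j = 0
    · rw [hj, om_zero_left]
    · simp only [if_neg hj]; rw [om_zero_right]
  · funext j
    rw [fm_apply]
    by_cases hj : w j = 0
    · simp only [if_pos hj, if_pos ((hwπ j).2 hj)]
      exact hA e
    · simp only [if_neg hj, if_neg (fun h0 => hj ((hwπ j).1 h0))]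
      exact hB e
  · rw [← hsupp j]
    have hne : ∀ e : ZMod 2, ((0, 1) : W) ≠ 0 ∧ ((e, 1) : W) ≠ 0 := by decide
    show (if w j = 0 then (if j < π j then ((0, 1) : W) else (e, 1)) else 0) ≠ 0 ↔ w j = 0
    by_cases hj : w j = 0
    · rw [if_pos hj]
      refine ⟨fun _ => hj, fun _ => ?_⟩
      split_ifs
      · exact (hne e).1
      · exact (hne e).2
    · rw [if_neg hj]
      exact ⟨fun h0 => absurd rfl h0, fun h0 => absurd h0 hj⟩
  · rw [Pi.add_apply]
    have hne : ∀ e : ZMod 2, (0 : W) + ((0, 1) : W) ≠ 0 ∧ (0 : W) + ((e, 1) : W) ≠ 0 := by decide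
    by_cases hj : w j = 0
    · simp only [if_pos hj]; rw [hj]
      split_ifs
      · exact (hne e).1
      · exact (hne e).2
    · simp only [if_neg hj]; rw [add_zero]; exact hj
  · funext j
    rw [fm_apply]
    by_cases hj : w j = 0
    · simp only [if_pos hj, if_pos ((hwπ j).2 hj), isV_sq h]
      rcases lt_or_gt_of_ne (hfix j) with hj' | hj'
      · rw [if_pos hj', if_neg (not_lt.2 hj'.le)]
        apply Prod.ext
        · show 0 + e * 1 = e
          ring
        · rfl
      · rw [if_neg (not_lt.2 hj'.le), if_pos hj']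
        apply Prod.ext
        · show e + e * 1 = 0
          rw [mul_one]; exact (hz e).2
        · rfl
    · simp only [if_neg hj, if_neg (fun h0 => hj ((hwπ j).1 h0))]
      exact hB e
  · rw [Pi.add_apply, Pi.add_apply, Pi.add_apply]
    have hne : ∀ e : ZMod 2, (0 : W) + (1, 0) + (0 + ((0, 1) : W)) ≠ 0 ∧
        (0 : W) + (1, 0) + (0 + ((e, 1) : W)) ≠ 0 := by decide
    by_cases hj : w j = 0
    · simp only [if_pos hj]; rw [hj, (hwv j).1 hj]
      split_ifs
      · exact (hne e).1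
      · exact (hne e).2
    · simp only [if_neg hj]
      rw [add_zero, add_zero]
      apply hadd
      rcases (hw j).1 hj with rfl | rfl
      · exact hk
      · exact hl

/-- the complement of a fixed vector of weight two -/
theorem t8 (π : Equiv.Perm (Fin 4)) (e : ZMod 2) (w : Fin 4 → W) (h1 : isTwo w) (h2 : fm π e w = w) :
    ∃ s, isTwo s ∧ isFull (w + s) ∧ fm π e s = s := by
  obtain ⟨k, l, hkl, hw⟩ := h1
  have hwπ : ∀ j, w (π j) = 0 ↔ w j = 0 := by
    intro j
    have h4 := congrFun h2 j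
    rw [fm_apply] at h4
    rw [← h4]
    have : ∀ (x : W) (e : ZMod 2), x = 0 ↔ ((x.1 + e * x.2, x.2) : W) = 0 := by decide
    exact this _ _
  obtain ⟨k', l', hkl', hc⟩ := compl_two k l hkl
  have hsupp : ∀ j, w j = 0 ↔ (j = k' ∨ j = l') := by
    intro j
    rw [← hc j, ← hw j, not_not]
  have hA : ∀ e : ZMod 2, ((((1, 0) : W).1 + e * ((1, 0) : W).2, ((1, 0) : W).2) : W) = (1, 0) := by
    decide
  have hB : ∀ e : ZMod 2, (((0 : W).1 + e * (0 : W).2, (0 : W).2) : W) = 0 := by decide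
  refine ⟨fun j => if w j = 0 then (1, 0) else 0, ⟨k', l', hkl', fun j => ?_⟩, fun j => ?_, ?_⟩
  · rw [← hsupp j]
    by_cases hj : w j = 0
    · simp only [hj, iff_true]; decide
    · simp only [hj, iff_false]; decide
  · rw [Pi.add_apply]
    by_cases hj : w j = 0
    · simp only [if_pos hj]; rw [hj]; decide
    · simp only [if_neg hj]; rw [add_zero]; exact hj
  · funext j
    rw [fm_apply]
    by_cases hj : w j = 0
    · simp only [if_pos hj, if_pos ((hwπ j).2 hj)]
      exact hA e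
    · simp only [if_neg hj, if_neg (fun h0 => hj ((hwπ j).1 h0))]
      exact hB e

theorem t7_aux : ∀ a b c d : W, isTwo ![a, b, c, d] → isTwo (A0 + ![a, b, c, d]) → isD ![a, b, c, d] := by
  decide +kernel

theorem t7 (r : Fin 4 → W) (h1 : isTwo r) (h2 : isTwo (A0 + r)) : isD r := by
  rw [eq_vec r] at *
  exact t7_aux _ _ _ _ h1 h2

end Cfsg.Agent.TypeD4Three.InstModel
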