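import Cfsg.Agent.TypeD4Three.LocIface
import Cfsg.Agent.TypeD4Three.InstModel
import Cfsg.Agent.LargeExtra.TwoCentral

/-!
# S1763, case [P]: large groups at the conjugates of `z`, weights (helper948)
-/

set_option autoImplicit false

namespace Cfsg.Agent.TypeD4Three.InstBase

open Cfsg.Agent.Co2Type.Quad Cfsg.Agent.LargeExtra.Base Cfsg.Agent.LargeExtra.Local
open Cfsg.Agent.TypeD4Three.StarModel Cfsg.Agent.TypeD4Three.StarFrame Cfsg.Agent.TypeD4Three.StarEdge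
open Cfsg.Agent.TypeD4Three.LocIface Cfsg.Agent.TypeD4Three.InstModel Cfsg.Agent.TypeD4Three.Star

variable {G : Type*} [Group G] {Q : Subgroup G} {z : G} {lz : Large Q z}

/-! ### the large group at a conjugate of `z` -/

/-- `x` lies in the large group at `s` -/
def InQ (Q : Subgroup G) (z s x : G) : Prop := ∃ g, g * z * g⁻¹ = s ∧ g⁻¹ * x * g ∈ Q

theorem inQ_iff (lz : Large Q z) {g s x : G} (hg : g * z * g⁻¹ = s) : InQ Q z s x ↔ g⁻¹ * x * g ∈ Q := by
  constructor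
  · rintro ⟨g', hg', h⟩
    have hc : (g⁻¹ * g') * z = z * (g⁻¹ * g') := by
      have h1 : g' * z * g'⁻¹ = g * z * g⁻¹ := hg'.trans hg.symm
      calc g⁻¹ * g' * z = g⁻¹ * (g' * z * g'⁻¹) * g' := by group
        _ = g⁻¹ * (g * z * g⁻¹) * g' := by rw [h1]
        _ = z * (g⁻¹ * g') := by group
    have h2 := lz.conj_mem _ hc _ h
    have e : g⁻¹ * g' * (g'⁻¹ * x * g') * (g⁻¹ * g')⁻¹ = g⁻¹ * x * g := by group
    rwa [e] at h2
  · intro h
    exact ⟨g, hg, h⟩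

theorem inQ_z (lz : Large Q z) {x : G} : InQ Q z z x ↔ x ∈ Q := by
  have h : (1 : G) * z * 1⁻¹ = z := by group
  rw [inQ_iff lz h]
  have e : (1 : G)⁻¹ * x * 1 = x := by group
  rw [e]

theorem inQ_conj (k : G) {s x : G} (h : InQ Q z s x) : InQ Q z (k * s * k⁻¹) (k * x * k⁻¹) := by
  obtain ⟨g, hg, hx⟩ := h
  refine ⟨k * g, ?_, ?_⟩
  · rw [← hg]; group
  · have e : (k * g)⁻¹ * (k * x * k⁻¹) * (k * g) = g⁻¹ * x * g := by group
    rwa [e]

theorem inQ_pair {A : Subgroup G} {a x : G} (p : Pair Q z A a) : InQ Q z a x ↔ x ∈ A := by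
  obtain ⟨g, g1, g2, g3, g4⟩ := p.isConj
  rw [inQ_iff p.lz g1, g3]
  constructor
  · intro h
    refine ⟨_, h, ?_⟩
    show g * (g⁻¹ * x * g) * g⁻¹ = x
    group
  · rintro ⟨y, hy, rfl⟩
    have : g⁻¹ * (MulAut.conj g).toMonoidHom y * g = y := by
      show g⁻¹ * (g * y * g⁻¹) * g = y
      group
    rwa [this]

/-- the swap of a pair -/
theorem swap {A : Subgroup G} {a : G} (p : Pair Q z A a) : ∃ g, g * z * g⁻¹ = a ∧ g * a * g⁻¹ = z ∧
    g⁻¹ * z * g = a ∧ g⁻¹ * a * g = z ∧ (∀ x, g⁻¹ * x * g ∈ Q ↔ x ∈ A) ∧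
      (∀ x, g⁻¹ * x * g ∈ A ↔ x ∈ Q) := by
  obtain ⟨g, g1, g2, g3, g4⟩ := p.isConj
  have hc : ∀ x, (MulAut.conj g).toMonoidHom (g⁻¹ * x * g) = x := by
    intro x
    show g * (g⁻¹ * x * g) * g⁻¹ = x
    group
  have hc' : ∀ y, g⁻¹ * (MulAut.conj g).toMonoidHom y * g = y := by
    intro y
    show g⁻¹ * (g * y * g⁻¹) * g = y
    group
  refine ⟨g, g1, g2, by rw [← g2]; group, by rw [← g1]; group, fun x => ?_, fun x => ?_⟩
  · constructor
    · intro h
      rw [g3]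
      exact ⟨_, h, hc x⟩
    · intro h
      rw [g3] at h
      obtain ⟨y, hy, rfl⟩ := h
      rwa [hc']
  · constructor
    · intro h
      rw [g4]
      exact ⟨_, h, hc x⟩
    · intro h
      rw [g4] at h
      obtain ⟨y, hy, rfl⟩ := h
      rwa [hc']

theorem isConj_conj (g : G) {x : G} : IsConj z (g⁻¹ * x * g) ↔ IsConj z x := by
  constructor
  · intro h
    exact h.trans (isConj_iff.2 ⟨g, by group⟩)
  · intro h
    exact h.trans (isConj_iff.2 ⟨g⁻¹, by group⟩)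

/-- symmetry of `t ∈ Q_s` -/
theorem inQ_symm (lz : Large Q z) {s t : G} (hs : IsConj z s) (ht : IsConj z t) (h : InQ Q z s t) :
    InQ Q z t s := by
  obtain ⟨g, hg⟩ := isConj_iff.1 hs
  rw [inQ_iff lz hg] at h
  have key : InQ Q z (g⁻¹ * t * g) z := by
    by_cases hne : g⁻¹ * t * g = z
    · rw [hne, inQ_z lz]; exact lz.z_mem
    · obtain ⟨A, p⟩ := exists_pair lz ((isConj_conj g).2 ht) h hne
      rw [inQ_pair p]
      exact p.z_mem
  have := inQ_conj g key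
  have e : g * (g⁻¹ * t * g) * g⁻¹ = t := by group
  rwa [e, hg] at this

/-! ### weights -/

section wts

variable {F : Frame lz} (L : Loc F)

include L

/-- conjugates of `z` in `Q` -/
theorem full_of_isConj {x : Q} (h : IsConj z (x : G)) (hne : (x : G) ≠ z) : isFull (F.φ (lz.pr x)) := by
  obtain ⟨A, p⟩ := exists_pair lz h x.2 hne
  intro k
  exact L.full p k

theorem isConj_iff_full (H : Hyp F) {x : Q} (hne : (x : G) ≠ z) :
    IsConj z (x : G) ↔ isFull (F.φ (lz.pr x)) :=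
  ⟨fun h => full_of_isConj L h hne, fun h => H.conj_of_wt4 x h⟩

theorem two_or_full' {x : Q} (h2 : (x : G) * x = 1) (h1 : (x : G) ≠ 1) (hz : (x : G) ≠ z) :
    isTwo (F.φ (lz.pr x)) ∨ isFull (F.φ (lz.pr x)) := by
  apply two_or_full
  · have h3 := lz.q_eq_zero.2 h2
    rw [L.q_wt] at h3
    exact h3
  · intro h0
    have h3 : lz.pr x = 0 := F.φ.injective (by rw [h0, map_zero])
    rcases lz.pr_eq_zero.1 h3 with h | h
    · exact h1 h
    · exact hz h

theorem sq_of_two {x : Q} (h : isTwo (F.φ (lz.pr x))) : (x : G) * x = 1 := by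
  rw [← lz.q_eq_zero, L.q_wt]
  exact wt_two _ h

theorem not_isConj_of_two {x : Q} (h : isTwo (F.φ (lz.pr x))) : ¬ IsConj z (x : G) := by
  intro hc
  by_cases hz : (x : G) = z
  · apply ne_zero_of_two _ h
    rw [lz.pr_eq_zero.2 (Or.inr hz), map_zero]
  · exact not_full_of_two _ h (full_of_isConj L hc hz)

end wts

/-! ### charts -/

section chart

variable {F : Frame lz} {A : Subgroup G} {a : G} {p : Pair Q z A a} (c : Chart F p)

theorem full_iff (v : lz.V) : isFull (c.ψ v) ↔ isFull (F.φ v) := by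
  constructor
  · intro h k hk; exact h k ((c.zero v k).2 hk)
  · intro h k hk; exact h k ((c.zero v k).1 hk)

theorem two_iff (v : lz.V) : isTwo (c.ψ v) ↔ isTwo (F.φ v) := by
  have h : ∀ k, c.ψ v k ≠ 0 ↔ F.φ v k ≠ 0 := fun k => not_congr (c.zero v k)
  unfold isTwo
  simp only [h]

theorem S_iff (v w : lz.V) : isS (c.ψ v) (c.ψ w) ↔ isS (F.φ v) (F.φ w) := by
  have h : ∀ (v : lz.V) k, c.ψ v k ≠ 0 ↔ F.φ v k ≠ 0 := fun v k => not_congr (c.zero v k)
  have h2 : ∀ k, c.ψ v k + c.ψ w k ≠ 0 ↔ F.φ v k + F.φ w k ≠ 0 := by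
    intro k
    have := h (v + w) k
    rw [map_add, map_add] at this
    exact this
  unfold isS
  simp only [h, h2]

theorem ψ_va : c.ψ (lz.pr ⟨a, p.a_mem⟩) = A0 := funext c.va

theorem mem_A_iff (x : Q) : (x : G) ∈ A ↔ isD (c.ψ (lz.pr x)) := by
  rw [← p.pr_mem_D, c.D, isD_iff]

theorem comm_iff (x y : Q) : (x : G) * y = y * x ↔ isComm (c.ψ (lz.pr x)) (c.ψ (lz.pr y)) := by
  rw [← lz.b_pr, c.hb]
  rfl

theorem perp_iff (x : Q) : (x : G) * a = a * x ↔ isPerp (c.ψ (lz.pr x)) := by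
  have h := comm_iff c x ⟨a, p.a_mem⟩
  rw [ψ_va] at h
  rw [h]
  unfold isComm isPerp
  have : ∀ x : W, om x (1, 0) = x.2 := by decide
  simp only [A0, this]

theorem ψ_z : c.ψ (lz.pr ⟨z, lz.z_mem⟩) = 0 := by
  rw [lz.pr_eq_zero.2 (Or.inr rfl), map_zero]

theorem ψ_mul (x y : Q) : c.ψ (lz.pr (x * y)) = c.ψ (lz.pr x) + c.ψ (lz.pr y) := by
  rw [lz.pr_mul, map_add]

/-- the action of an element of `X` in the chart -/
theorem exists_fm {x : G} (hxA : x ∈ A) (hxz : x * z = z * x) : ∃ (π : Equiv.Perm (Fin 4)) (e : ZMod 2),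
    isV π ∧ ∀ v, c.ψ (lz.act (cen hxz) v) = fm π e (c.ψ v) := by
  obtain ⟨π, e, hπ, h⟩ := c.X (lz.act (cen hxz)) (p.mem_X.2 ⟨cen hxz, hxA, rfl⟩)
  refine ⟨π, e, hπ, fun v => ?_⟩
  funext j
  have := h v (π j)
  rw [isV_sq hπ] at this
  rw [this]
  rfl

theorem nontriv [Finite Q] {x : G} (hxQ : x ∉ Q) (hxz : x * z = z * x) {π : Equiv.Perm (Fin 4)}
    {e : ZMod 2} (h : ∀ v, c.ψ (lz.act (cen hxz) v) = fm π e (c.ψ v)) : π ≠ 1 ∨ e ≠ 0 := by
  by_contra hcon
  push Not at hcon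
  obtain ⟨rfl, rfl⟩ := hcon
  apply hxQ
  have h1 : lz.act (cen hxz) = 1 := by
    ext v
    apply c.ψ.injective
    rw [h v]
    funext j
    rw [fm_apply]
    apply Prod.ext
    · show (c.ψ v j).1 + 0 * (c.ψ v j).2 = _
      rw [zero_mul, add_zero]; rfl
    · rfl
  exact lz.mem_of_act (cen hxz) h1

end chart

end Cfsg.Agent.TypeD4Three.InstBase
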