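import Cfsg.Agent.TypeD4Three.InstFix

/-!
# S1763, case [P]: "inner" does not depend on the conjugate of `z` (helper948)
-/

set_option autoImplicit false

namespace Cfsg.Agent.TypeD4Three.InstCon

open Cfsg.Agent.Co2Type.Quad Cfsg.Agent.LargeExtra.Base Cfsg.Agent.LargeExtra.Local
open Cfsg.Agent.TypeD4Three.StarModel Cfsg.Agent.TypeD4Three.StarFrame Cfsg.Agent.TypeD4Three.StarEdge
open Cfsg.Agent.TypeD4Three.LocIface Cfsg.Agent.TypeD4Three.InstModel Cfsg.Agent.TypeD4Three.Star
open Cfsg.Agent.TypeD4Three.InstBase Cfsg.Agent.TypeD4Three.InstFix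

section parity

/-- An involutory map on a set of odd size has a fixed point. -/
theorem exists_fix {T : Type*} [Finite T] (hodd : Odd (Nat.card T)) (f : T → T) (hf : ∀ x, f (f x) = x) :
    ∃ x, f x = x := by
  have := Fintype.ofFinite T
  let σ : Equiv.Perm T := ⟨f, f, hf, hf⟩
  have hσ : σ ^ 2 ^ 1 = 1 := by
    rw [pow_one, pow_two]
    ext x
    exact hf x
  have hcard : ¬ 2 ∣ Fintype.card T := by
    rw [← Nat.card_eq_fintype_card, ← even_iff_two_dvd, Nat.not_even_iff_odd]
    exact hodd
  have : Fact (Nat.Prime 2) := ⟨Nat.prime_two⟩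
  exact Equiv.Perm.exists_fixed_point_of_prime hcard hσ

/-- Two commuting involutory maps on a set of odd size have a common fixed point. -/
theorem exists_fix_two {T : Type*} [Finite T] (hodd : Odd (Nat.card T)) (f g : T → T)
    (hf : ∀ x, f (f x) = x) (hg : ∀ x, g (g x) = x) (hfg : ∀ x, f (g x) = g (f x)) :
    ∃ x, f x = x ∧ g x = x := by
  classical
  by_contra hcon
  push Not at hcon
  -- `h x = g x` if `f x = x`, else `f x`
  obtain ⟨x, hx⟩ := exists_fix hodd (fun x => if f x = x then g x else f x) (by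
    intro x
    by_cases hx : f x = x
    · simp only [if_pos hx]
      have h1 : f (g x) = g x := by rw [hfg, hx]
      rw [if_pos h1, hg]
    · simp only [if_neg hx]
      have h1 : ¬ f (f x) = f x := by rw [hf]; exact fun h => hx h.symm
      rw [if_neg h1, hf])
  by_cases hx' : f x = x
  · simp only [if_pos hx'] at hx
    exact hcon x hx' hx
  · simp only [if_neg hx'] at hx
    exact hx' hx

end parity

variable {G : Type*} [Group G] {Q : Subgroup G} {z : G} {lz : Large Q z} {F : Frame lz}

/-- the conjugates of `z` -/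
theorem card_conj [Finite G] : Nat.card {x : G // IsConj z x} = (Subgroup.centralizer ({z} : Set G)).index := by
  let f : G ⧸ Subgroup.centralizer ({z} : Set G) → {x : G // IsConj z x} :=
    Quotient.lift (fun g : G => (⟨g * z * g⁻¹, isConj_iff.2 ⟨g, rfl⟩⟩ : {x : G // IsConj z x})) (by
      intro a b hab
      have h1 : a⁻¹ * b ∈ Subgroup.centralizer ({z} : Set G) := QuotientGroup.leftRel_apply.1 hab
      rw [Subgroup.mem_centralizer_singleton_iff] at h1
      apply Subtype.ext
      show a * z * a⁻¹ = b * z * b⁻¹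
      calc a * z * a⁻¹ = a * (z * (a⁻¹ * b)) * b⁻¹ := by group
        _ = a * (a⁻¹ * b * z) * b⁻¹ := by rw [h1]
        _ = b * z * b⁻¹ := by group)
  refine (Nat.card_congr (Equiv.ofBijective f ⟨?_, ?_⟩)).symm
  · intro x y hxy
    obtain ⟨a, rfl⟩ := QuotientGroup.mk_surjective x
    obtain ⟨b, rfl⟩ := QuotientGroup.mk_surjective y
    have h1 : a * z * a⁻¹ = b * z * b⁻¹ := congrArg Subtype.val hxy
    rw [QuotientGroup.eq, Subgroup.mem_centralizer_singleton_iff]
    calc a⁻¹ * b * z = a⁻¹ * (b * z * b⁻¹) * b := by group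
      _ = a⁻¹ * (a * z * a⁻¹) * b := by rw [h1]
      _ = z * (a⁻¹ * b) := by group
  · rintro ⟨x, hx⟩
    obtain ⟨g, hg⟩ := isConj_iff.1 hx
    exact ⟨(g : G ⧸ _), Subtype.ext hg⟩

theorem odd_conj [Finite G] (lz : Large Q z) : Odd (Nat.card {x : G // IsConj z x}) := by
  rw [card_conj]
  exact Cfsg.Agent.LargeExtra.TwoCentral.odd_index lz

/-- the full vectors -/
abbrev Full (F : Frame lz) : Type _ := {v : lz.V // isFull (F.φ v)}

theorem card_full (F : Frame lz) : Nat.card (Full F) = 81 := by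
  have e1 : Full F ≃ {u : Fin 4 → W // isFull u} :=
    F.φ.toEquiv.subtypeEquiv (fun v => Iff.rfl)
  have e2 : {u : Fin 4 → W // ∀ k, u k ≠ 0} ≃ (Fin 4 → {x : W // x ≠ 0}) :=
    Equiv.subtypePiEquivPi (p := fun (_ : Fin 4) (x : W) => x ≠ 0)
  rw [Nat.card_congr (e1.trans e2), Nat.card_eq_fintype_card, Fintype.card_fun, Fintype.card_fin]
  have : Fintype.card {x : W // x ≠ 0} = 3 := by decide
  rw [this]; rfl

theorem full_act (F : Frame lz) (c : ↥(Subgroup.centralizer ({z} : Set G))) {v : lz.V}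
    (h : isFull (F.φ v)) : isFull (F.φ (lz.act c v)) := by
  intro j
  obtain ⟨k, rfl⟩ := (F.π c).surjective j
  rw [F.hact]
  exact F.g_ne (h k)

/-- commuting involutions fix a common full vector -/
theorem exists_full (F : Frame lz) {s w : G} (hs : s * s = 1) (hw : w * w = 1) (hsz : s * z = z * s)
    (hwz : w * z = z * w) (hsw : s * w = w * s) :
    ∃ v, isFull (F.φ v) ∧ lz.act (cen hsz) v = v ∧ lz.act (cen hwz) v = v := by
  have hfin : Finite (Full F) := by
    apply Nat.finite_of_card_ne_zero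
    rw [card_full]; decide
  obtain ⟨v, h1, h2⟩ := exists_fix_two (T := Full F) (by rw [card_full]; decide)
    (fun v => ⟨lz.act (cen hsz) v.1, full_act F _ v.2⟩) (fun v => ⟨lz.act (cen hwz) v.1, full_act F _ v.2⟩)
    (fun v => Subtype.ext (act_act hs hsz v.1)) (fun v => Subtype.ext (act_act hw hwz v.1))
    (fun v => Subtype.ext (by
      show lz.act (cen hsz) (lz.act (cen hwz) v.1) = lz.act (cen hwz) (lz.act (cen hsz) v.1)
      have h1 : cen hsz * cen hwz = cen hwz * cen hsz := Subtype.ext hsw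
      have h2 : lz.act (cen hsz) * lz.act (cen hwz) = lz.act (cen hwz) * lz.act (cen hsz) := by
        rw [← map_mul, h1, map_mul]
      exact congrArg (fun e : lz.V ≃ₗ[ZMod 2] lz.V => e v.1) h2))
  exact ⟨v.1, v.2, congrArg Subtype.val h1, congrArg Subtype.val h2⟩

/-- two commuting conjugates of `z`, the first equal to `z` -/
theorem con_z [Finite Q] (H : Hyp F) (L : Loc F) {s w : G} (hs : IsConj z s) (hsz : s * z = z * s)
    (hw : w * w = 1) (hwz : w * z = z * w) (hws : w * s = s * w) : In F z w ↔ In F s w := by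
  by_cases hs1 : s = z
  · rw [hs1]
  by_cases hsQ : s ∈ Q
  · obtain ⟨A, p⟩ := exists_pair lz hs hsQ hs1
    exact edge_in H p hwz hws
  have hss := sq_of_isConj lz hs
  have hsC : s ∈ F.C1 := star H hs hsz
  obtain ⟨v, hv, hsv, hwv⟩ := exists_full F hss hw hsz hwz hws.symm
  obtain ⟨c, rfl⟩ := lz.pr_surjective v
  have hcc : IsConj z (c : G) := H.conj_of_wt4 c hv
  have hcz : (c : G) ≠ z := by
    intro h
    apply hv 0
    rw [lz.pr_eq_zero.2 (Or.inr h), map_zero]; rfl
  obtain ⟨A, p⟩ := exists_pair lz hcc c.2 hcz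
  have hsc := conj_of_fix hsz hsv rfl
  have hwc := conj_of_fix hwz hwv rfl
  have hzz : (c : G) * z = z * c := lz.comm_z c c.2
  -- the point `c'` with `s ∈ Q_{c'}`
  have key : ∃ c' : Q, lz.pr c' = lz.pr c ∧ InQ Q z (c' : G) s := by
    rcases lstar H L p hsC hss hsQ hsc with h | h
    · exact ⟨c, rfl, h⟩
    · exact ⟨c * ⟨z, lz.z_mem⟩, pr_mul_z c rfl, h⟩
  obtain ⟨c', hc', hcs⟩ := key
  have hv' : isFull (F.φ (lz.pr c')) := by rw [hc']; exact hv
  have hcc' : IsConj z (c' : G) := H.conj_of_wt4 c' hv'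
  have hcz' : (c' : G) ≠ z := by
    intro h
    apply hv' 0
    rw [lz.pr_eq_zero.2 (Or.inr h), map_zero]; rfl
  obtain ⟨B, q⟩ := exists_pair lz hcc' c'.2 hcz'
  have hwc' : w * c' = c' * w := by
    rcases conj_of_fix hwz (by rw [hc']; exact hwv) (rfl : lz.pr c' = lz.pr c') with h | h
    · rw [mul_inv_eq_iff_eq_mul] at h; exact h
    · exfalso
      have h1 : InQ Q z ((c' : G) * z) s := by
        have := inQ_conj w hcs
        rw [h] at this
        have e : w * s * w⁻¹ = s := by rw [hws]; group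
        rwa [e] at this
      have h2 : InQ Q z s c' := inQ_symm lz hcc' hs hcs
      have hcc'' : IsConj z ((c' : G) * z) := by
        rw [← h]
        exact hcc'.trans (isConj_iff.2 ⟨w, rfl⟩)
      have h3 : InQ Q z s (c' * z) := inQ_symm lz hcc'' hs h1
      have h4 : InQ Q z s z := by
        obtain ⟨g, hg, h5⟩ := h2
        rw [inQ_iff lz hg] at h3
        refine ⟨g, hg, ?_⟩
        have e : g⁻¹ * z * g = (g⁻¹ * c' * g)⁻¹ * (g⁻¹ * (c' * z) * g) := by group
        rw [e]
        exact mul_mem (inv_mem h5) h3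
      exact hsQ ((inQ_z lz).1 (inQ_symm lz hs (IsConj.refl z) h4))
  have h1 := edge_in H q hwz hwc'
  rw [h1]
  -- the edge `c' - s`
  obtain ⟨k, hk⟩ := isConj_iff.1 hcc'
  have hs' : k⁻¹ * s * k ∈ Q := (inQ_iff lz hk).1 hcs
  have hne : k⁻¹ * s * k ≠ z := by
    intro h
    apply hsQ
    have : s = c' := by rw [← hk, ← h]; group
    rw [this]; exact c'.2
  obtain ⟨B', q'⟩ := exists_pair lz ((isConj_conj k).2 hs) hs' hne
  have e : k * (k⁻¹ * s * k) * k⁻¹ = s := by group
  have h2 := edge_in' H (k := k) q' (u := w) (by rw [hk]; exact hwc') (by rw [e]; exact hws)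
  rwa [hk, e] at h2

/-- commuting conjugates of `z` -/
theorem con_comm [Finite Q] (H : Hyp F) (L : Loc F) {s t w : G} (hs : IsConj z s) (ht : IsConj z t)
    (hst : s * t = t * s) (hw : w * w = 1) (hws : w * s = s * w) (hwt : w * t = t * w) :
    In F s w ↔ In F t w := by
  obtain ⟨g, hg⟩ := isConj_iff.1 hs
  have key : ∀ s, In F s w ↔ In F (g⁻¹ * s * g) (g⁻¹ * w * g) := by
    intro s
    constructor
    · intro h
      have := in_conj g⁻¹ h
      rwa [inv_inv] at this
    · intro h
      have := in_conj g h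
      have e1 : g * (g⁻¹ * s * g) * g⁻¹ = s := by group
      have e2 : g * (g⁻¹ * w * g) * g⁻¹ = w := by group
      rwa [e1, e2] at this
  have hcomm : ∀ x y : G, x * y = y * x → (g⁻¹ * x * g) * (g⁻¹ * y * g) = (g⁻¹ * y * g) * (g⁻¹ * x * g) := by
    intro x y hxy
    calc (g⁻¹ * x * g) * (g⁻¹ * y * g) = g⁻¹ * (x * y) * g := by group
      _ = g⁻¹ * (y * x) * g := by rw [hxy]
      _ = _ := by group
  have hgz : g⁻¹ * s * g = z := by rw [← hg]; group
  rw [key s, key t, hgz]
  have h1 := hcomm t s hst.symm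
  have h2 := hcomm w s hws
  rw [hgz] at h1 h2
  refine con_z H L ((isConj_conj g).2 ht) h1 ?_ h2 (hcomm w t hwt)
  calc g⁻¹ * w * g * (g⁻¹ * w * g) = g⁻¹ * (w * w) * g := by group
    _ = 1 := by rw [hw]; group

/-- **(CON)** -/
theorem con [Finite G] (H : Hyp F) (L : Loc F) {s w : G} (hs : IsConj z s) (hw : w * w = 1)
    (hwz : w * z = z * w) (hws : w * s = s * w) (hin : In F z w) : In F s w := by
  classical
  by_contra hns
  have hss := sq_of_isConj lz hs
  have hwi : w⁻¹ = w := inv_eq_of_mul_eq_one_left hw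
  have hzi : z⁻¹ = z := lz.z_inv
  have hsi : s⁻¹ = s := inv_eq_of_mul_eq_one_left hss
  have hc : ∀ (k x : G), IsConj z x → IsConj z (k * x * k⁻¹) := fun k x hx =>
    hx.trans (isConj_iff.2 ⟨k, rfl⟩)
  let kk : G → G := fun x => if w * x = x * w then (if In F x w then s else z) else w
  have hkk : ∀ x, kk x * kk x = 1 := by
    intro x
    show (if w * x = x * w then (if In F x w then s else z) else w) *
      (if w * x = x * w then (if In F x w then s else z) else w) = 1
    split_ifs
    · exact hss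
    · exact lz.z_sq
    · exact hw
  have hcw : ∀ k x : G, k * w = w * k → (w * (k * x * k⁻¹) = (k * x * k⁻¹) * w ↔ w * x = x * w) := by
    intro k x hk
    have hk' : w * k⁻¹ = k⁻¹ * w := by
      calc w * k⁻¹ = k⁻¹ * (k * w) * k⁻¹ := by group
        _ = k⁻¹ * (w * k) * k⁻¹ := by rw [hk]
        _ = k⁻¹ * w := by group
    have e1 : w * (k * x * k⁻¹) = k * (w * x) * k⁻¹ := by
      calc w * (k * x * k⁻¹) = (w * k) * x * k⁻¹ := by group
        _ = (k * w) * x * k⁻¹ := by rw [hk]
        _ = k * (w * x) * k⁻¹ := by group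
    have e2 : (k * x * k⁻¹) * w = k * (x * w) * k⁻¹ := by
      calc k * x * k⁻¹ * w = k * x * (k⁻¹ * w) := by group
        _ = k * x * (w * k⁻¹) := by rw [hk']
        _ = k * (x * w) * k⁻¹ := by group
    rw [e1, e2]
    constructor
    · intro h
      exact mul_left_cancel (mul_right_cancel h)
    · intro h; rw [h]
  have hIn : ∀ k x : G, k * w = w * k → (In F (k * x * k⁻¹) w ↔ In F x w) := by
    intro k x hk
    have e : k * w * k⁻¹ = w := by rw [hk]; group
    constructor
    · intro h
      have := in_conj k⁻¹ h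
      have e1 : k⁻¹ * (k * x * k⁻¹) * k⁻¹⁻¹ = x := by group
      have e2 : k⁻¹ * w * k⁻¹⁻¹ = w := by
        calc k⁻¹ * w * k⁻¹⁻¹ = k⁻¹ * (w * k) := by group
          _ = k⁻¹ * (k * w) := by rw [hk]
          _ = w := by group
      rwa [e1, e2] at this
    · intro h
      have := in_conj k h
      rwa [e] at this
  have hkw : ∀ x, kk x * w = w * kk x := by
    intro x
    show (if w * x = x * w then (if In F x w then s else z) else w) * w =
      w * (if w * x = x * w then (if In F x w then s else z) else w)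
    split_ifs
    · exact hws.symm
    · exact hwz.symm
    · rfl
  have hkk2 : ∀ x, kk (kk x * x * (kk x)⁻¹) = kk x := by
    intro x
    have h1 := hcw (kk x) x (hkw x)
    have h2 := hIn (kk x) x (hkw x)
    show (if w * (kk x * x * (kk x)⁻¹) = (kk x * x * (kk x)⁻¹) * w then
      (if In F (kk x * x * (kk x)⁻¹) w then s else z) else w) = _
    simp only [h1, h2]
    rfl
  obtain ⟨⟨x, hx⟩, hfix⟩ := exists_fix (odd_conj lz)
    (fun x : {x : G // IsConj z x} => ⟨kk x.1 * x.1 * (kk x.1)⁻¹, hc _ _ x.2⟩) (by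
      rintro ⟨x, hx⟩
      apply Subtype.ext
      show kk (kk x * x * (kk x)⁻¹) * (kk x * x * (kk x)⁻¹) * (kk (kk x * x * (kk x)⁻¹))⁻¹ = x
      rw [hkk2]
      have h1 := hkk x
      calc kk x * (kk x * x * (kk x)⁻¹) * (kk x)⁻¹ = (kk x * kk x) * x * (kk x * kk x)⁻¹ := by group
        _ = x := by rw [h1]; group)
  have hfix' : kk x * x * (kk x)⁻¹ = x := congrArg Subtype.val hfix
  rw [mul_inv_eq_iff_eq_mul] at hfix'
  by_cases h1 : w * x = x * w
  · by_cases h2 : In F x w
    · have e : kk x = s := by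
        show (if w * x = x * w then (if In F x w then s else z) else w) = s
        rw [if_pos h1, if_pos h2]
      rw [e] at hfix'
      exact hns ((con_comm H L hx hs hfix'.symm hw h1 hws).1 h2)
    · have e : kk x = z := by
        show (if w * x = x * w then (if In F x w then s else z) else w) = z
        rw [if_pos h1, if_neg h2]
      rw [e] at hfix'
      exact h2 ((con_comm H L (IsConj.refl z) hx hfix' hw hwz h1).1 hin)
  · have e : kk x = w := by
      show (if w * x = x * w then (if In F x w then s else z) else w) = w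
      rw [if_neg h1]
    rw [e] at hfix'
    exact h1 hfix'

end Cfsg.Agent.TypeD4Three.InstCon
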