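import Cfsg.Agent.TypeD4Three.InstBase

/-!
# S1763, case [P]: an involution of `C1` fixing `ã` lies in the large group at `a` or `a z` (helper948)
-/

set_option autoImplicit false

namespace Cfsg.Agent.TypeD4Three.InstFix

open Cfsg.Agent.Co2Type.Quad Cfsg.Agent.LargeExtra.Base Cfsg.Agent.LargeExtra.Local
open Cfsg.Agent.TypeD4Three.StarModel Cfsg.Agent.TypeD4Three.StarFrame Cfsg.Agent.TypeD4Three.StarEdge
open Cfsg.Agent.TypeD4Three.LocIface Cfsg.Agent.TypeD4Three.InstModel Cfsg.Agent.TypeD4Three.Star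
open Cfsg.Agent.TypeD4Three.InstBase

variable {G : Type*} [Group G] {Q : Subgroup G} {z : G} {lz : Large Q z} {F : Frame lz}

/-- an element of `A` outside `Q` does not centralize `Q ∩ A` -/
theorem exists_not_comm_D (L : Loc F) {A : Subgroup G} {a : G} (p : Pair Q z A a) {x : G} (hxA : x ∈ A)
    (hxQ : x ∉ Q) : ∃ d ∈ Q, d ∈ A ∧ x * d ≠ d * x := by
  obtain ⟨g, g1, g2, g3, g4, g5, g6⟩ := swap p
  obtain ⟨c⟩ := L.chart p
  have hx' : g⁻¹ * x * g ∈ Q := (g5 x).2 hxA
  have hx'' : g⁻¹ * x * g ∉ A := fun h => hxQ ((g6 x).1 h)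
  by_contra hcon
  push Not at hcon
  apply hx''
  have key : ∀ d : Q, (d : G) ∈ A → (g⁻¹ * x * g) * (d : G) = d * (g⁻¹ * x * g) := by
    intro d hd
    have e : g⁻¹ * (g * (d : G) * g⁻¹) * g = d := by group
    have h1 : g * (d : G) * g⁻¹ ∈ Q := (g6 _).1 (by rw [e]; exact hd)
    have h2 : g * (d : G) * g⁻¹ ∈ A := (g5 _).1 (by rw [e]; exact d.2)
    have h3 := hcon _ h1 h2
    calc (g⁻¹ * x * g) * (d : G) = g⁻¹ * (x * (g * d * g⁻¹)) * g := by group
      _ = g⁻¹ * (g * d * g⁻¹ * x) * g := by rw [h3]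
      _ = d * (g⁻¹ * x * g) := by group
  rw [mem_A_iff c ⟨_, hx'⟩]
  have key' : ∀ u : Fin 4 → W, isD u → isComm (c.ψ (lz.pr ⟨_, hx'⟩)) u := by
    intro u hu
    obtain ⟨d, hd⟩ := lz.pr_surjective (c.ψ.symm u)
    have h1 : c.ψ (lz.pr d) = u := by rw [hd]; exact c.ψ.apply_symm_apply u
    have h2 := key d ((mem_A_iff c d).2 (by rw [h1]; exact hu))
    rw [← h1]
    exact (comm_iff c ⟨_, hx'⟩ d).1 h2
  generalize c.ψ (lz.pr ⟨_, hx'⟩) = v at key'
  have h1 : ∀ i j : Fin 4, (v i).2 = (v j).2 := by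
    intro i j
    by_cases hij : i = j
    · rw [hij]
    · have h2 : isD (dv i j) := by
        revert hij; revert i j; decide +kernel
      have h3 := key' _ h2
      unfold isComm at h3
      rw [Finset.sum_eq_add i j hij] at h3
      · have h4 : ∀ x : W, om x (1, 0) = x.2 := by decide
        have e1 : dv i j i = (1, 0) := if_pos (Or.inl rfl)
        have e2 : dv i j j = (1, 0) := if_pos (Or.inr rfl)
        rw [e1, e2, h4, h4] at h3
        have : ∀ x y : ZMod 2, x + y = 0 → x = y := by decide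
        exact this _ _ h3
      · intro k _ hk
        have e : dv i j k = 0 := if_neg (by rintro (h | h); exacts [hk.1 h, hk.2 h])
        rw [e, om_zero_right]
      · intro h; exact absurd (Finset.mem_univ _) h
      · intro h; exact absurd (Finset.mem_univ _) h
  refine ⟨h1, ?_⟩
  have h2 : isD (fun _ => (0, 1)) := by decide
  have h3 := key' _ h2
  unfold isComm at h3
  have h4 : ∀ x : W, om x (0, 1) = x.1 := by decide
  simpa only [h4] using h3

theorem lstar [Finite Q] (H : Hyp F) (L : Loc F) {A : Subgroup G} {a : G} (p : Pair Q z A a) {w : G}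
    (hw : w ∈ F.C1) (hw2 : w * w = 1) (hwQ : w ∉ Q) (hwa : w * a * w⁻¹ = a ∨ w * a * w⁻¹ = a * z) :
    InQ Q z a w ∨ InQ Q z (a * z) w := by
  have hwz : w * z = z * w := F.C1_comm hw
  have hza : a * z = z * a := p.comm_za
  -- Step 1
  have h1 : ∃ x ∈ A, ∃ y ∈ Q, x * z = z * x ∧ w = x * y := by
    rcases hwa with hwa | hwa
    · have hwa' : w * a = a * w := by rw [mul_inv_eq_iff_eq_mul] at hwa; exact hwa
      obtain ⟨x, hx, y, hy, hxz, -, h⟩ := (H.edge p hwz hwa').1 hw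
      exact ⟨x, hx, y, hy, hxz, h⟩
    · obtain ⟨t, ht, hta⟩ := exists_not_comm lz p.a_mem p.la.z_ne p.ne
      have htz : t * z = z * t := lz.comm_z t ht
      have hwt : (w * t) * a = a * (w * t) := by
        have h2 : w * a = a * z * w := by rw [mul_inv_eq_iff_eq_mul] at hwa; exact hwa
        calc w * t * a = w * (t * a) := by group
          _ = w * (a * t * z) := by rw [hta]
          _ = w * a * (t * z) := by group
          _ = a * z * w * (z * t) := by rw [h2, htz]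
          _ = a * z * (w * z) * t := by group
          _ = a * (z * z) * w * t := by rw [hwz]; group
          _ = a * (w * t) := by rw [lz.z_sq]; group
      have hwtz : (w * t) * z = z * (w * t) := by
        rw [mul_assoc, htz, ← mul_assoc, hwz, mul_assoc]
      obtain ⟨x, hx, y, hy, hxz, -, h⟩ := (H.edge p hwtz hwt).1 (mul_mem hw (F.Q_le_C1 ht))
      refine ⟨x, hx, y * t⁻¹, mul_mem hy (inv_mem ht), hxz, ?_⟩
      calc w = w * t * t⁻¹ := by group
        _ = x * (y * t⁻¹) := by rw [h]; group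
  -- Step 2: `x` an involution
  have h2 : ∃ x ∈ A, ∃ y ∈ Q, x * z = z * x ∧ w = x * y ∧ x * x = 1 := by
    obtain ⟨x, hx, y, hy, hxz, h⟩ := h1
    have hxQ : x ∉ Q := by
      intro h'
      apply hwQ
      rw [h]; exact mul_mem h' hy
    rcases p.la.sq x hx with hxx | hxx
    · exact ⟨x, hx, y, hy, hxz, h, hxx⟩
    · obtain ⟨d, hdQ, hdA, hd⟩ := exists_not_comm_D L p hx hxQ
      have hdd := p.sq_D hdQ hdA
      have hdx : d * x = x * d * a := by
        rcases p.la.comm d hdA x hx with h' | h'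
        · exact absurd h'.symm hd
        · exact h'
      have hda : d * a = a * d := p.la.comm_z d hdA
      refine ⟨x * d, mul_mem hx hdA, d⁻¹ * y, mul_mem (inv_mem hdQ) hy, ?_, by rw [h]; group, ?_⟩
      · rw [mul_assoc, lz.comm_z d hdQ, ← mul_assoc, hxz, mul_assoc]
      · calc x * d * (x * d) = x * (d * x) * d := by group
          _ = x * (x * d * a) * d := by rw [hdx]
          _ = (x * x) * (d * a) * d := by group
          _ = a * (a * d) * d := by rw [hxx, hda]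
          _ = (a * a) * (d * d) := by group
          _ = 1 := by rw [p.la.z_sq, hdd, one_mul]
  obtain ⟨x, hx, y, hy, hxz, h, hxx⟩ := h2
  have hxQ : x ∉ Q := by
    intro h'
    apply hwQ
    rw [h]; exact mul_mem h' hy
  have hxi : x⁻¹ = x := inv_eq_of_mul_eq_one_left hxx
  -- the action
  obtain ⟨c⟩ := L.chart p
  obtain ⟨π, e, hπ, hf⟩ := exists_fm c hx hxz
  have hnt := nontriv c hxQ hxz hf
  -- `ỹ` is fixed by `x`
  have hfix : fm π e (c.ψ (lz.pr ⟨y, hy⟩)) = c.ψ (lz.pr ⟨y, hy⟩) := by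
    rw [← hf, lz.act_pr]
    congr 1
    have h3 : x * y * x⁻¹ = y⁻¹ := by
      rw [h] at hw2
      have : x * y * x⁻¹ * y = 1 := by rw [hxi, ← hw2]; group
      exact eq_inv_of_mul_eq_one_left this
    have h4 : lz.conjQ (cen hxz) ⟨y, hy⟩ = (⟨y, hy⟩ : Q)⁻¹ := Subtype.ext h3
    rw [h4, lz.pr_inv, lz.neg_eq]
  obtain ⟨r, hr, -⟩ := t5 π e hπ hnt _ hfix
  obtain ⟨t, ht⟩ := lz.pr_surjective (c.ψ.symm r)
  have htr : c.ψ (lz.pr t) = r := by rw [ht]; exact c.ψ.apply_symm_apply r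
  have h5 : lz.pr (t * lz.conjQ (cen hxz) t) = lz.pr ⟨y, hy⟩ := by
    apply c.ψ.injective
    rw [ψ_mul, ← lz.act_pr, hf, htr]
    exact hr
  have h6 := lz.pr_eq_pr.1 h5
  have h6' : (t : G) * (x * t * x⁻¹) = y ∨ (t : G) * (x * t * x⁻¹) = y * z := h6
  have htz : (t : G) * z = z * t := lz.comm_z t t.2
  -- `x y = t⁻¹ x t ·` ... up to `z`
  have h7 : ∃ (t' : G) (_ : t' ∈ Q), w = t' * x * t'⁻¹ ∨ w = t' * x * t'⁻¹ * z := by
    -- `t (x t x⁻¹) = y z^i`; `t x t⁻¹ · ...`
    have hsw : ∀ u : Q, ∃ e : G, (e = 1 ∨ e = z) ∧ (u : G)⁻¹ = u * e := by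
      intro u
      rcases lz.sq u u.2 with h' | h'
      · exact ⟨1, Or.inl rfl, by rw [mul_one]; exact inv_eq_of_mul_eq_one_left h'⟩
      · refine ⟨z, Or.inr rfl, ?_⟩
        rw [inv_eq_iff_mul_eq_one, ← mul_assoc, h', lz.z_sq]
    obtain ⟨e1, he1, he1'⟩ := hsw t
    have hconj : x * (t : G) * x⁻¹ ∈ Q := lz.conj_mem x hxz t t.2
    -- use `t' = x t x⁻¹`
    refine ⟨x * t * x⁻¹, hconj, ?_⟩
    have h8 : x * (t : G) * x⁻¹ * x * (x * t * x⁻¹)⁻¹ = x * ((t : G) * (x * t * x⁻¹) * e1) := by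
      have : (x * (t : G) * x⁻¹)⁻¹ = x * t * x⁻¹ * e1 := by
        have hc : x * e1 = e1 * x := by
          rcases he1 with h' | h' <;> rw [h']
          · rw [one_mul, mul_one]
          · exact hxz
        calc (x * (t : G) * x⁻¹)⁻¹ = x * (t : G)⁻¹ * x⁻¹ := by group
          _ = x * (t * e1) * x⁻¹ := by rw [he1']
          _ = x * t * (e1 * x⁻¹) := by group
          _ = x * t * (e1 * x) := by rw [hxi]
          _ = x * t * (x * e1) := by rw [hc]
          _ = x * t * x⁻¹ * e1 := by rw [hxi]; group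
      rw [this]; group
    rw [h8]
    have hy' : ∃ e2 : G, (e2 = 1 ∨ e2 = z) ∧ (t : G) * (x * t * x⁻¹) * e1 = y * e2 := by
      rcases h6' with h' | h' <;> rcases he1 with h'' | h'' <;> rw [h', h'']
      · exact ⟨1, Or.inl rfl, rfl⟩
      · exact ⟨z, Or.inr rfl, rfl⟩
      · exact ⟨z, Or.inr rfl, by rw [mul_one]⟩
      · exact ⟨1, Or.inl rfl, by rw [mul_assoc, lz.z_sq]⟩
    obtain ⟨e2, he2, he2'⟩ := hy'
    rw [he2', h]
    rcases he2 with h' | h' <;> rw [h']
    · left; rw [mul_one]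
    · right
      rw [← mul_assoc, mul_assoc (x * y), lz.z_sq, mul_one]
  obtain ⟨t', ht', h8⟩ := h7
  have ht'z : t' * z = z * t' := lz.comm_z t' ht'
  -- the point
  have hmem : ∀ s : G, InQ Q z s (t' * x * t'⁻¹) → InQ Q z s z → InQ Q z s w := by
    rintro s ⟨g, hg, h9⟩ h10
    rw [inQ_iff lz hg] at h10
    rw [inQ_iff lz hg]
    rcases h8 with h8 | h8 <;> rw [h8]
    · exact h9
    · have e : g⁻¹ * (t' * x * t'⁻¹ * z) * g = g⁻¹ * (t' * x * t'⁻¹) * g * (g⁻¹ * z * g) := by group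
      rw [e]
      exact mul_mem h9 h10
  have hx1 : InQ Q z (t' * a * t'⁻¹) (t' * x * t'⁻¹) := inQ_conj t' ((inQ_pair p).2 hx)
  have hx2 : InQ Q z (t' * a * t'⁻¹) z := by
    have h9 := inQ_conj t' ((inQ_pair p).2 p.z_mem)
    have e : t' * z * t'⁻¹ = z := by rw [ht'z]; group
    rwa [e] at h9
  have h10 := hmem _ hx1 hx2
  rcases lz.comm t' ht' a p.a_mem with h9 | h9
  · left
    have e : t' * a * t'⁻¹ = a := by rw [h9]; group
    rwa [e] at h10
  · right
    have e : t' * a * t'⁻¹ = a * z := by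
      rw [h9]
      calc a * t' * z * t'⁻¹ = a * (t' * z) * t'⁻¹ := by group
        _ = a * (z * t') * t'⁻¹ := by rw [ht'z]
        _ = a * z := by group
    rwa [e] at h10

end Cfsg.Agent.TypeD4Three.InstFix
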