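import Cfsg.Agent.TypeD4Three.InstSwap

/-!
# S1763, case [P]: the properties of weight two elements (helper948)
-/

set_option autoImplicit false

namespace Cfsg.Agent.TypeD4Three.InstS

open Cfsg.Agent.Co2Type.Quad Cfsg.Agent.LargeExtra.Base Cfsg.Agent.LargeExtra.Local
open Cfsg.Agent.TypeD4Three.StarModel Cfsg.Agent.TypeD4Three.StarFrame Cfsg.Agent.TypeD4Three.StarEdge
open Cfsg.Agent.TypeD4Three.LocIface Cfsg.Agent.TypeD4Three.InstModel Cfsg.Agent.TypeD4Three.Star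
open Cfsg.Agent.TypeD4Three.InstBase Cfsg.Agent.TypeD4Three.InstFix Cfsg.Agent.TypeD4Three.InstCon
open Cfsg.Agent.TypeD4Three.InstSwap

variable {G : Type*} [Group G] {Q : Subgroup G} {z : G} {lz : Large Q z} {F : Frame lz}

/-- involutions of `C1` -/
theorem inv (H : Hyp F) (L : Loc F) {w : G} (hw : w ∈ F.C1) (hw2 : w * w = 1) (hw1 : w ≠ 1) :
    IsConj z w ∨ W1 F w ∨ (w ∉ Q ∧ IsConj z (z * w) ∧ ∃ a, IsConj z a ∧ a * z = z * a ∧ Wt F a w) := by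
  by_cases hwQ : w ∈ Q
  · by_cases hwz : w = z
    · left; rw [hwz]
    rcases two_or_full' L (x := ⟨w, hwQ⟩) hw2 hw1 hwz with h | h
    · right; left; exact ⟨hwQ, h⟩
    · left; exact H.conj_of_wt4 ⟨w, hwQ⟩ h
  · obtain ⟨A, a, p, hA⟩ := H.invol hw hw2 hwQ
    obtain ⟨g, g1, g2, g3, g4, g5, g6⟩ := swap p
    obtain ⟨c⟩ := L.chart p
    have hwa : w ≠ a := by
      intro h; apply hwQ; rw [h]; exact p.a_mem
    have hconj : IsConj z a := isConj_iff.2 ⟨g, g1⟩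
    rcases sv_two_or_full c g1 g5 L (x := ⟨w, hA⟩) hwa hw1 hw2 with h | h
    · right; right
      refine ⟨hwQ, ?_, a, hconj, p.comm_za, Wt_of_sv c g1 g5 h⟩
      have h1 : isPerp (sv c g5 ⟨w, hA⟩) := (sv_perp c g3 g5).1 (F.C1_comm hw)
      have h2 : ¬ isD (sv c g5 ⟨w, hA⟩) := fun h' => hwQ ((sv_D c g5 g6).2 h')
      have h3 := t1 _ h1 h h2
      rw [← sv_z c g3 g5 p.z_mem, add_comm, ← sv_mul] at h3
      refine (sv_full c g1 g5 H L ?_).2 h3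
      show z * w ≠ a
      intro h'
      apply hwQ
      have : w = z⁻¹ * a := by rw [← h']; group
      rw [this]
      exact mul_mem (inv_mem lz.z_mem) p.a_mem
    · left
      exact (sv_full c g1 g5 H L (x := ⟨w, hA⟩) hwa).2 h

theorem dich (H : Hyp F) (L : Loc F) {w : G} (hw : w ∈ F.C1) (hw2 : w * w = 1) (hwQ : w ∉ Q) :
    IsConj z w ∨ IsConj z (z * w) := by
  have hw1 : w ≠ 1 := by
    rintro rfl
    exact hwQ Q.one_mem
  rcases inv H L hw hw2 hw1 with h | h | ⟨-, h, -⟩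
  · exact Or.inl h
  · obtain ⟨h, -⟩ := h; exact absurd h hwQ
  · exact Or.inr h

theorem not_mem_Q (H : Hyp F) (L : Loc F) {x : G} (hx : IsConj z x) (hne : x ≠ z)
    (hzx : ¬ IsConj z (z * x)) : x ∉ Q := by
  intro hxQ
  apply hzx
  have h1 := full_of_isConj L (x := ⟨x, hxQ⟩) hx hne
  have h2 : lz.pr ⟨z * x, mul_mem lz.z_mem hxQ⟩ = lz.pr ⟨x, hxQ⟩ := by
    apply pr_mul_z
    show z * x = x * z
    rw [lz.comm_z x hxQ]
  exact H.conj_of_wt4 ⟨z * x, mul_mem lz.z_mem hxQ⟩ (by rw [h2]; exact h1)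

theorem beta (H : Hyp F) {w : G} (hw : W1 F w) :
    ∃ y, IsConj z y ∧ y * z = z * y ∧ y * w = w * y ∧ IsConj z (y * w) := by
  obtain ⟨hwQ, hw⟩ := hw
  obtain ⟨u, h1, h2, h3⟩ := exists_beta _ hw
  obtain ⟨y, hy⟩ := lz.pr_surjective (F.φ.symm u)
  have hyu : F.φ (lz.pr y) = u := by rw [hy]; exact F.φ.apply_symm_apply u
  refine ⟨y, H.conj_of_wt4 y (by rw [hyu]; exact h1), lz.comm_z y y.2, ?_, ?_⟩
  · refine (lz.b_pr y ⟨w, hwQ⟩).1 ?_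
    rw [F.hb, hyu]
    exact h3
  · refine H.conj_of_wt4 (y * ⟨w, hwQ⟩) ?_
    rw [lz.pr_mul, map_add, hyu]
    exact h2

theorem mul_sq {x w : G} (hx : x * x = 1) (hw : w * w = 1) (h : w * x = x * w) :
    x * w * (x * w) = 1 := by
  calc x * w * (x * w) = x * (w * x) * w := by group
    _ = (x * x) * (w * w) := by rw [h]; group
    _ = 1 := by rw [hx, hw, one_mul]

theorem c1 (H : Hyp F) (L : Loc F) {w : G} (hw : W1 F w) {x : G} (hx : IsConj z x)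
    (hzx : z * x = x * z) (hwx : w * x = x * w) (hne : x ≠ z) (hxw : ¬ IsConj z (x * w)) :
    IsConj z (z * x) ∨ IsConj z (z * x * w) := by
  by_contra hcon
  push Not at hcon
  obtain ⟨h1, h2⟩ := hcon
  have hxQ := not_mem_Q H L hx hne h1
  have hxC : x ∈ F.C1 := star H hx hzx.symm
  have hwQ := hw.1
  have h3 : x * w ∉ Q := by
    intro h
    apply hxQ
    have : x = x * w * w⁻¹ := by group
    rw [this]; exact mul_mem h (inv_mem hwQ)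
  rcases dich H L (mul_mem hxC (F.Q_le_C1 hwQ))
      (mul_sq (sq_of_isConj lz hx) (hw.sq L) hwx) h3 with h | h
  · exact hxw h
  · apply h2
    rwa [mul_assoc]

/-- `c2` -/
theorem c2 [Finite Q] (H : Hyp F) (L : Loc F) {w : G} (hw : W1 F w) {y : G} (hy : IsConj z y)
    (hzy : z * y = y * z) (hwy : w * y = y * w) (hyw : IsConj z (y * w)) (h1 : ¬ IsConj z (z * y)) :
    ∃ a, IsConj z a ∧ a * z = z * a ∧ St F a w (z * y) := by
  have hne : y ≠ z := by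
    intro h
    rw [h] at hyw
    exact (hw.mul_z).not_isConj L hyw
  have hyQ := not_mem_Q H L hy hne h1
  have hyC : y ∈ F.C1 := star H hy hzy.symm
  have hyy := sq_of_isConj lz hy
  obtain ⟨B, b, q, hB⟩ := H.invol hyC hyy hyQ
  obtain ⟨d⟩ := L.chart q
  obtain ⟨π, e, hπ, hf⟩ := exists_fm d hB hzy.symm
  obtain ⟨hwQ, hwt⟩ := hw
  have hwfix : fm π e (d.ψ (lz.pr ⟨w, hwQ⟩)) = d.ψ (lz.pr ⟨w, hwQ⟩) := by
    rw [← hf]
    congr 1
    exact fix_of_comm hzy.symm hwy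
  obtain ⟨u, hu1, hu2, hu3⟩ := t8 π e _ ((two_iff d _).2 hwt) hwfix
  obtain ⟨s, hs⟩ := lz.pr_surjective (d.ψ.symm u)
  have hsu : d.ψ (lz.pr s) = u := by rw [hs]; exact d.ψ.apply_symm_apply u
  have hcf : isFull (F.φ (lz.pr (⟨w, hwQ⟩ * s))) := by
    rw [← full_iff d, ψ_mul, hsu]
    exact hu2
  have hcfix : lz.act (cen hzy.symm) (lz.pr (⟨w, hwQ⟩ * s)) = lz.pr (⟨w, hwQ⟩ * s) := by
    apply d.ψ.injective
    rw [hf, ψ_mul, hsu]
    have : fm π e (d.ψ (lz.pr ⟨w, hwQ⟩) + u) = fm π e (d.ψ (lz.pr ⟨w, hwQ⟩)) + fm π e u := by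
      funext j
      rw [Pi.add_apply, fm_apply, fm_apply, fm_apply, Pi.add_apply]
      apply Prod.ext
      · show ((d.ψ (lz.pr ⟨w, hwQ⟩)) (π j)).1 + (u (π j)).1 +
          e * (((d.ψ (lz.pr ⟨w, hwQ⟩)) (π j)).2 + (u (π j)).2) = _
        show _ = ((d.ψ (lz.pr ⟨w, hwQ⟩)) (π j)).1 + e * ((d.ψ (lz.pr ⟨w, hwQ⟩)) (π j)).2 +
          ((u (π j)).1 + e * (u (π j)).2)
        ring
      · rfl
    rw [this, hwfix, hu3]
  obtain ⟨a, A, p, hpa, hyA⟩ := exists_at H L hy hzy.symm hyQ hcf hcfix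
  obtain ⟨c⟩ := L.chart p
  obtain ⟨g, g1, g2, g3, g4, g5, g6⟩ := swap p
  -- `w ∈ A`
  have hA0 : c.ψ (lz.pr ⟨w, hwQ⟩) + c.ψ (lz.pr s) = A0 := by
    rw [← ψ_mul, ← hpa]
    exact ψ_va c
  have hst : isTwo (F.φ (lz.pr s)) := by
    rw [← two_iff d, hsu]; exact hu1
  have hchar : ∀ x y : Fin 4 → W, x + y = A0 → A0 + x = y := by
    intro x y h
    rw [← h]
    funext j
    have : ∀ x y : W, x + y + x = y := by decide
    exact this _ _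
  have hwA : w ∈ A := by
    refine (mem_A_iff c ⟨w, hwQ⟩).2 (t7 _ ((two_iff c _).2 hwt) ?_)
    rw [hchar _ _ hA0]
    exact (two_iff c _).2 hst
  have hya : y ≠ a := by
    intro h; apply hyQ; rw [h]; exact a.2
  have hyz : isPerp (sv c g5 ⟨y, hyA⟩) := (sv_perp c g3 g5).1 hzy.symm
  have hyf : isFull (sv c g5 ⟨y, hyA⟩) := (sv_full c g1 g5 H L (x := ⟨y, hyA⟩) hya).1 hy
  have hzya : z * y ≠ a := by
    intro h
    apply hyQ
    have : y = z⁻¹ * a := by rw [← h]; group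
    rw [this]
    exact mul_mem (inv_mem lz.z_mem) a.2
  have hzysv : sv c g5 (⟨z, p.z_mem⟩ * ⟨y, hyA⟩) = sv c g5 ⟨y, hyA⟩ + A0 := by
    rw [sv_mul, sv_z c g3 g5, add_comm]
  have hyn : ¬ isFull (sv c g5 ⟨y, hyA⟩ + A0) := by
    rw [← hzysv]
    intro h
    exact h1 ((sv_full c g1 g5 H L (x := ⟨z, p.z_mem⟩ * ⟨y, hyA⟩) hzya).2 h)
  have hyne : sv c g5 ⟨y, hyA⟩ ≠ A0 := by
    intro h
    apply hyQ
    refine (sv_D c g5 g6 (x := ⟨y, hyA⟩)).2 ?_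
    rw [h]; decide
  have hw1 : isTwo (sv c g5 ⟨w, hwA⟩) := sv_two c g1 g5 H L (x := ⟨w, hwA⟩) ⟨hwQ, hwt⟩
  have hw2 : isD (sv c g5 ⟨w, hwA⟩) := (sv_D c g5 g6 (x := ⟨w, hwA⟩)).1 hwQ
  have hyw' : isFull (sv c g5 ⟨y, hyA⟩ + sv c g5 ⟨w, hwA⟩) := by
    rw [← sv_mul]
    refine (sv_full c g1 g5 H L (x := ⟨y, hyA⟩ * ⟨w, hwA⟩) ?_).1 hyw
    show y * w ≠ a
    intro h
    apply hyQ
    have : y = a * w⁻¹ := by rw [← h]; group
    rw [this]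
    exact mul_mem a.2 (inv_mem hwQ)
  have h7 := (t2 _ _ hyf hyz hyn hyne hw1 hw2 hyw').1
  rw [← hzysv] at h7
  exact ⟨a, isConj_iff.2 ⟨g, g1⟩, p.comm_za, St_of_sv c g1 g5 h7⟩

/-! ### `S_c` -/

/-- the situation of `S_c`: `x` is a conjugate of `z` in `C1 - Q`, `z x` is not a conjugate of `z` -/
structure XX (z : G) (Q : Subgroup G) (x : G) : Prop where
  conj : IsConj z x
  comm : x * z = z * x
  nQ : x ∉ Q
  nz : ¬ IsConj z (z * x)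

section XX

variable {x : G} (X : XX z Q x) {A : Subgroup G} {a : G} {p : Pair Q z A a} (c : Chart F p) {g : G}
  (g1 : g * z * g⁻¹ = a) (g3 : g⁻¹ * z * g = a)
  (g5 : ∀ x, g⁻¹ * x * g ∈ Q ↔ x ∈ A) (g6 : ∀ x, g⁻¹ * x * g ∈ A ↔ x ∈ Q) (hxA : x ∈ A)

include X

theorem XX.ne {y : G} (hy : y ∈ Q) {b : G} (hb : b ∈ Q) : x * y ≠ b := by
  intro h
  apply X.nQ
  have : x = b * y⁻¹ := by rw [← h]; group
  rw [this]
  exact mul_mem hb (inv_mem hy)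

include g1 g3 g6 in
theorem XX.all (H : Hyp F) (L : Loc F) : isFull (sv c g5 ⟨x, hxA⟩) ∧ isPerp (sv c g5 ⟨x, hxA⟩) ∧
    ¬ isFull (sv c g5 ⟨x, hxA⟩ + A0) ∧ sv c g5 ⟨x, hxA⟩ ≠ A0 := by
  have hxa : x ≠ a := by
    intro h; apply X.nQ; rw [h]; exact p.a_mem
  refine ⟨(sv_full c g1 g5 H L (x := ⟨x, hxA⟩) hxa).1 X.conj, (sv_perp c g3 g5).1 X.comm, ?_, ?_⟩
  · rw [← sv_z c g3 g5 p.z_mem, add_comm, ← sv_mul]
    intro h
    apply X.nz
    refine (sv_full c g1 g5 H L (x := ⟨z, p.z_mem⟩ * ⟨x, hxA⟩) ?_).2 h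
    show z * x ≠ a
    rw [← X.comm]
    exact X.ne lz.z_mem p.a_mem
  · intro h
    apply X.nQ
    refine (sv_D c g5 g6 (x := ⟨x, hxA⟩)).2 ?_
    rw [h]; decide

include g1 in
theorem XX.mul_iff (H : Hyp F) (L : Loc F) {y : G} (hy : y ∈ Q) (hyA : y ∈ A) :
    IsConj z (x * y) ↔ isFull (sv c g5 ⟨x, hxA⟩ + sv c g5 ⟨y, hyA⟩) := by
  rw [← sv_mul]
  exact sv_full c g1 g5 H L (x := ⟨x, hxA⟩ * ⟨y, hyA⟩) (X.ne hy p.a_mem)

end XX

theorem add_self_fun (u : Fin 4 → W) : u + u = 0 := by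
  funext j
  have : ∀ x : W, x + x = 0 := by decide
  exact this _

theorem hchar {x y : Fin 4 → W} (h : x + y = A0) : A0 + x = y := by
  rw [← h, add_comm x y, add_assoc, add_self_fun, add_zero]

theorem lemA [Finite Q] (H : Hyp F) (L : Loc F) {x : G} (X : XX z Q x) {r s : Q}
    (hr : isTwo (F.φ (lz.pr r))) (hs : isTwo (F.φ (lz.pr s)))
    (hrs : isFull (F.φ (lz.pr r) + F.φ (lz.pr s))) (hrx : (r : G) * x = x * r)
    (hsx : (s : G) * x = x * s) (hxr : IsConj z (x * r)) :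
    IsConj z (x * s) ↔ IsConj z (x * (r * s)) := by
  have hfull : isFull (F.φ (lz.pr (r * s))) := by rw [lz.pr_mul, map_add]; exact hrs
  have hcomm : ((r * s : Q) : G) * x = x * (r * s : Q) := by
    show (r : G) * s * x = x * (r * s)
    rw [mul_assoc, hsx, ← mul_assoc, hrx, mul_assoc]
  obtain ⟨a, A, p, hpa, hxA⟩ := exists_at H L X.conj X.comm X.nQ hfull (fix_of_comm X.comm hcomm)
  obtain ⟨c⟩ := L.chart p
  obtain ⟨g, g1, g2, g3, g4, g5, g6⟩ := swap p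
  have hA0 : c.ψ (lz.pr r) + c.ψ (lz.pr s) = A0 := by
    rw [← ψ_mul, ← hpa]
    exact ψ_va c
  have hrA : (r : G) ∈ A := by
    refine (mem_A_iff c r).2 (t7 _ ((two_iff c _).2 hr) ?_)
    rw [hchar hA0]
    exact (two_iff c _).2 hs
  have hsA : (s : G) ∈ A := by
    refine (mem_A_iff c s).2 (t7 _ ((two_iff c _).2 hs) ?_)
    rw [hchar ((add_comm _ _).trans hA0)]
    exact (two_iff c _).2 hr
  obtain ⟨x1, x2, x3, x4⟩ := X.all c g1 g3 g5 g6 hxA H L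
  have hr1 : isTwo (sv c g5 ⟨r, hrA⟩) := sv_two c g1 g5 H L (x := ⟨r, hrA⟩) ⟨r.2, hr⟩
  have hr2 : isD (sv c g5 ⟨r, hrA⟩) := (sv_D c g5 g6 (x := ⟨r, hrA⟩)).1 r.2
  have hxr' := (X.mul_iff c g1 g5 hxA H L r.2 hrA).1 hxr
  rw [X.mul_iff c g1 g5 hxA H L s.2 hsA, X.mul_iff c g1 g5 hxA H L (mul_mem r.2 s.2) (mul_mem hrA hsA)]
  have hmul : sv c g5 ⟨(r : G) * s, mul_mem hrA hsA⟩ = sv c g5 ⟨r, hrA⟩ + sv c g5 ⟨s, hsA⟩ :=
    sv_mul c g5 ⟨r, hrA⟩ ⟨s, hsA⟩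
  have hpr : lz.pr (r * s) = lz.pr a := hpa.symm
  rcases lz.pr_eq_pr.1 hpr with h | h
  · -- `r s = a`
    have h1 : sv c g5 ⟨(r : G) * s, mul_mem hrA hsA⟩ = 0 := (sv_zero_iff c g1 g5).2 (Or.inr h)
    have h2 : sv c g5 ⟨s, hsA⟩ = sv c g5 ⟨r, hrA⟩ := by
      rw [h1] at hmul
      calc sv c g5 ⟨s, hsA⟩ = (sv c g5 ⟨r, hrA⟩ + sv c g5 ⟨s, hsA⟩) + sv c g5 ⟨r, hrA⟩ := by
            rw [add_comm (sv c g5 ⟨r, hrA⟩), add_assoc, add_self_fun, add_zero]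
        _ = _ := by rw [← hmul, zero_add]
    rw [h1, h2, add_zero]
    exact ⟨fun _ => x1, fun _ => hxr'⟩
  · -- `r s = a z`
    have h1 : sv c g5 ⟨(r : G) * s, mul_mem hrA hsA⟩ = A0 := by
      have e : (⟨(r : G) * s, mul_mem hrA hsA⟩ : A) = ⟨a, p.la.z_mem⟩ * ⟨z, p.z_mem⟩ := Subtype.ext h
      rw [e, sv_mul, sv_z c g3 g5, (sv_zero_iff c g1 g5).2 (Or.inr rfl), zero_add]
    have h2 : sv c g5 ⟨s, hsA⟩ = sv c g5 ⟨r, hrA⟩ + A0 := by
      rw [h1] at hmul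
      rw [hmul, ← add_assoc, add_self_fun, zero_add]
    rw [h1, h2, ← add_assoc]
    have h3 := (t2 _ _ x1 x2 x3 x4 hr1 hr2 hxr').2
    exact ⟨fun h' => absurd h' h3, fun h' => absurd h' x3⟩

theorem lemB [Finite Q] (H : Hyp F) (L : Loc F) {x : G} (X : XX z Q x) {w r s : Q}
    (hw : isTwo (F.φ (lz.pr w))) (hs : isTwo (F.φ (lz.pr s)))
    (hws : isFull (F.φ (lz.pr w) + F.φ (lz.pr s))) (hr : isFull (F.φ (lz.pr r)))
    (hrws : isFull (F.φ (lz.pr r) + (F.φ (lz.pr w) + F.φ (lz.pr s)))) (hwx : (w : G) * x = x * w)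
    (hrx : (r : G) * x = x * r) (hsx : (s : G) * x = x * s) (hxw : IsConj z (x * w)) :
    IsConj z (x * r) ↔ ¬ IsConj z (x * (r * w)) := by
  have hfull : isFull (F.φ (lz.pr (w * s))) := by rw [lz.pr_mul, map_add]; exact hws
  have hcomm : ((w * s : Q) : G) * x = x * (w * s : Q) := by
    show (w : G) * s * x = x * (w * s)
    rw [mul_assoc, hsx, ← mul_assoc, hwx, mul_assoc]
  obtain ⟨a, A, p, hpa, hxA⟩ := exists_at H L X.conj X.comm X.nQ hfull (fix_of_comm X.comm hcomm)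
  obtain ⟨c⟩ := L.chart p
  obtain ⟨g, g1, g2, g3, g4, g5, g6⟩ := swap p
  have hA0 : c.ψ (lz.pr w) + c.ψ (lz.pr s) = A0 := by
    rw [← ψ_mul, ← hpa]
    exact ψ_va c
  have hwA : (w : G) ∈ A := by
    refine (mem_A_iff c w).2 (t7 _ ((two_iff c _).2 hw) ?_)
    rw [hchar hA0]
    exact (two_iff c _).2 hs
  -- `r ∈ A`
  have hra : isFull (F.φ (lz.pr (r * a))) := by
    rw [lz.pr_mul, map_add, hpa, lz.pr_mul, map_add]
    exact hrws
  have hrA : (r : G) ∈ A := by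
    obtain ⟨π, e, hπ, hf⟩ := exists_fm c hxA X.comm
    refine (mem_A_iff c r).2 (t4 π e hπ (nontriv c X.nQ X.comm hf) _ ((full_iff c _).2 hr) ?_ ?_)
    · have h1 := (full_iff c _).2 hra
      rw [ψ_mul] at h1
      have h2 : c.ψ (lz.pr a) = A0 := ψ_va c
      rwa [h2] at h1
    · rw [← hf]
      congr 1
      exact fix_of_comm X.comm hrx
  obtain ⟨x1, x2, x3, x4⟩ := X.all c g1 g3 g5 g6 hxA H L
  have hw1 : isTwo (sv c g5 ⟨w, hwA⟩) := sv_two c g1 g5 H L (x := ⟨w, hwA⟩) ⟨w.2, hw⟩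
  have hw2 : isD (sv c g5 ⟨w, hwA⟩) := (sv_D c g5 g6 (x := ⟨w, hwA⟩)).1 w.2
  have hxw' := (X.mul_iff c g1 g5 hxA H L w.2 hwA).1 hxw
  have hra1 : (r : G) ≠ a := by
    intro h
    apply hra 0
    have e : r * a = a * a := by rw [Subtype.ext h]
    rw [e, lz.pr_mul, lz.add_self, map_zero]; rfl
  have hr1 : isFull (sv c g5 ⟨r, hrA⟩) :=
    (sv_full c g1 g5 H L (x := ⟨r, hrA⟩) hra1).1 (H.conj_of_wt4 r hr)
  have hr2 : isD (sv c g5 ⟨r, hrA⟩) := (sv_D c g5 g6 (x := ⟨r, hrA⟩)).1 r.2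
  have hr3 : sv c g5 ⟨r, hrA⟩ ≠ A0 := by
    intro h
    have h1 : sv c g5 (⟨r, hrA⟩ * ⟨z, p.z_mem⟩) = 0 := by
      rw [sv_mul, sv_z c g3 g5, h, add_self_fun]
    rcases (sv_zero_iff c g1 g5).1 h1 with h2 | h2
    · have h3 : (r : G) = z := by
        have h4 : (r : G) * z = 1 := h2
        rw [eq_inv_of_mul_eq_one_left h4, lz.z_inv]
      apply hr 0
      rw [lz.pr_eq_zero.2 (Or.inr h3), map_zero]; rfl
    · have h4 : (r : G) * z = a := h2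
      have h5 : lz.pr a = lz.pr r := pr_mul_z r h4.symm
      apply hra 0
      rw [lz.pr_mul, h5, lz.add_self, map_zero]; rfl
  have hr4 : isComm (sv c g5 ⟨x, hxA⟩) (sv c g5 ⟨r, hrA⟩) :=
    (sv_comm c g5 (x := ⟨x, hxA⟩) (y := ⟨r, hrA⟩)).1 hrx.symm
  rw [X.mul_iff c g1 g5 hxA H L r.2 hrA, X.mul_iff c g1 g5 hxA H L (mul_mem r.2 w.2) (mul_mem hrA hwA)]
  have hmul : sv c g5 ⟨(r : G) * w, mul_mem hrA hwA⟩ = sv c g5 ⟨r, hrA⟩ + sv c g5 ⟨w, hwA⟩ :=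
    sv_mul c g5 ⟨r, hrA⟩ ⟨w, hwA⟩
  rw [hmul, ← add_assoc]
  exact t3 _ _ _ x1 x2 x3 x4 hr1 hr2 hr3 hr4 hw1 hw2 hxw'

/-- for `π ≠ 1` a fixed vector is fixed by a commuting element -/
theorem comm_of_fix {x : G} (hxx : x * x = 1) (hxz : x * z = z * x) {A : Subgroup G} {a : G}
    {p : Pair Q z A a} (c : Chart F p) {π : Equiv.Perm (Fin 4)} {e : ZMod 2} (hπ : isV π)
    (hπ1 : π ≠ 1) (hf : ∀ v, c.ψ (lz.act (cen hxz) v) = fm π e (c.ψ v)) {s : Q}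
    (hs : fm π e (c.ψ (lz.pr s)) = c.ψ (lz.pr s)) : (s : G) * x = x * s := by
  obtain ⟨u, hu, hu'⟩ := t5 π e hπ (Or.inl hπ1) _ hs
  have hu'' := hu'.resolve_left hπ1
  obtain ⟨t, ht⟩ := lz.pr_surjective (c.ψ.symm u)
  have htu : c.ψ (lz.pr t) = u := by rw [ht]; exact c.ψ.apply_symm_apply u
  obtain ⟨r, hr, hrx, -⟩ := inR_of (lz := lz) hxx hxz (v := lz.pr t) (by
    rw [c.hb, hf, htu]
    exact hu'')
  have h1 : lz.pr s = lz.pr r := by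
    apply c.ψ.injective
    rw [hr, map_add, hf, htu, hu]
  rcases lz.pr_eq_pr.1 h1 with h | h
  · rw [h]; exact hrx
  · rw [h, mul_assoc, ← hxz, ← mul_assoc, hrx, mul_assoc]

/-- **`S_c`** -/
theorem S_c [Finite Q] (H : Hyp F) (L : Loc F) {w v : G} (hS : S1 F w v) {x : G} (hx : IsConj z x)
    (hzx : z * x = x * z) (hwx : w * x = x * w) (hvx : v * x = x * v) (hne : x ≠ z) :
    IsConj z (z * x) ∨ IsConj z (z * x * w) ∨ IsConj z (z * x * v) ∨ IsConj z (z * x * (w * v)) := by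
  by_contra hcon
  push Not at hcon
  obtain ⟨n1, n2, n3, n4⟩ := hcon
  have hxQ := not_mem_Q H L hx hne n1
  have X : XX z Q x := ⟨hx, hzx.symm, hxQ, n1⟩
  have hxC : x ∈ F.C1 := star H hx hzx.symm
  have hxx := sq_of_isConj lz hx
  obtain ⟨hwQ, hvQ, hS⟩ := hS
  obtain ⟨i1, i2, i3, i4⟩ := isS_all _ _ hS
  have hwv : w * v = v * w := by
    refine (lz.b_pr ⟨w, hwQ⟩ ⟨v, hvQ⟩).1 ?_
    rw [F.hb]; exact i4
  have hww : w * w = 1 := sq_of_two L (x := ⟨w, hwQ⟩) i1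
  have hvv : v * v = 1 := sq_of_two L (x := ⟨v, hvQ⟩) i2
  have key : ∀ f : G, f ∈ Q → f * f = 1 → f * x = x * f → ¬ IsConj z (z * x * f) → IsConj z (x * f) := by
    intro f hf hff hfx hn
    have h3 : x * f ∉ Q := fun h => X.ne hf h rfl
    rcases dich H L (mul_mem hxC (F.Q_le_C1 hf)) (mul_sq hxx hff hfx) h3 with h | h
    · exact h
    · exfalso; apply hn; rwa [mul_assoc]
  have k1 := key w hwQ hww hwx n2
  have k2 := key v hvQ hvv hvx n3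
  have hwvx : w * v * x = x * (w * v) := by rw [mul_assoc, hvx, ← mul_assoc, hwx, mul_assoc]
  have k3 := key (w * v) (mul_mem hwQ hvQ) (mul_sq hww hvv hwv.symm) hwvx n4
  -- the planes
  obtain ⟨B, b, q, hB⟩ := H.invol hxC hxx hxQ
  obtain ⟨d⟩ := L.chart q
  obtain ⟨π, e, hπ, hf⟩ := exists_fm d hB hzx.symm
  have hnt := nontriv d hxQ hzx.symm hf
  have hwfix : fm π e (d.ψ (lz.pr ⟨w, hwQ⟩)) = d.ψ (lz.pr ⟨w, hwQ⟩) := by
    rw [← hf]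
    congr 1
    exact fix_of_comm hzx.symm hwx
  have hvfix : fm π e (d.ψ (lz.pr ⟨v, hvQ⟩)) = d.ψ (lz.pr ⟨v, hvQ⟩) := by
    rw [← hf]
    congr 1
    exact fix_of_comm hzx.symm hvx
  obtain ⟨hπ1, u, u1, u2, u3, u4, u5, u6, u', u7, u8, u9, u10⟩ := t6 π e hπ hnt _ _ ((S_iff d _ _).2 hS)
    hwfix hvfix
  obtain ⟨s, hs⟩ := lz.pr_surjective (d.ψ.symm u)
  have hsu : d.ψ (lz.pr s) = u := by rw [hs]; exact d.ψ.apply_symm_apply u
  obtain ⟨s', hs'⟩ := lz.pr_surjective (d.ψ.symm u')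
  have hsu' : d.ψ (lz.pr s') = u' := by rw [hs']; exact d.ψ.apply_symm_apply u'
  have hsx := comm_of_fix hxx hzx.symm d hπ hπ1 hf (s := s) (by rw [hsu]; exact u6)
  have hsx' := comm_of_fix hxx hzx.symm d hπ hπ1 hf (s := s') (by rw [hsu']; exact u9)
  have tr : ∀ y : lz.V, isFull (d.ψ y) → isFull (F.φ y) := fun y => (full_iff d y).1
  -- transfer to `F`
  have f1 : isTwo (F.φ (lz.pr s)) := by rw [← two_iff d, hsu]; exact u1
  have f2 : isTwo (F.φ (lz.pr s')) := by rw [← two_iff d, hsu']; exact u7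
  have f3 : isFull (F.φ (lz.pr ⟨v, hvQ⟩) + F.φ (lz.pr s)) := by
    rw [← map_add]; apply tr; rw [map_add, hsu]; exact u3
  have f4 : isFull (F.φ (lz.pr (⟨w, hwQ⟩ * ⟨v, hvQ⟩)) + F.φ (lz.pr s)) := by
    rw [← map_add]; apply tr; rw [map_add, hsu, ψ_mul]; exact u4
  have f5 : isFull (F.φ (lz.pr ⟨w, hwQ⟩) + F.φ (lz.pr s')) := by
    rw [← map_add]; apply tr; rw [map_add, hsu']; exact u8
  have f6 : isFull (F.φ (lz.pr (⟨v, hvQ⟩ * s))) := by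
    rw [lz.pr_mul, map_add]; exact f3
  have f7 : isFull (F.φ (lz.pr (⟨v, hvQ⟩ * s)) + (F.φ (lz.pr ⟨w, hwQ⟩) + F.φ (lz.pr s'))) := by
    rw [← map_add, ← map_add]; apply tr
    rw [map_add, map_add, hsu', ψ_mul, hsu]; exact u10
  have f8 : isTwo (F.φ (lz.pr (⟨w, hwQ⟩ * ⟨v, hvQ⟩))) := by
    rw [lz.pr_mul, map_add]; exact i3
  have hws : w * s = s * w := by
    refine (comm_iff d ⟨w, hwQ⟩ s).2 ?_
    rw [hsu]; exact u5
  have l1 := lemA H L X (r := ⟨v, hvQ⟩) (s := s) i2 f1 f3 hvx hsx k2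
  have l2 := lemA H L X (r := ⟨w, hwQ⟩ * ⟨v, hvQ⟩) (s := s) f8 f1 f4 hwvx hsx k3
  have hvsx : ((⟨v, hvQ⟩ * s : Q) : G) * x = x * (⟨v, hvQ⟩ * s : Q) := by
    show v * s * x = x * (v * s)
    rw [mul_assoc, hsx, ← mul_assoc, hvx, mul_assoc]
  have l3 := lemB H L X (w := ⟨w, hwQ⟩) (r := ⟨v, hvQ⟩ * s) (s := s') i1 f2 f5 f6 f7 hwx hvsx hsx' k1
  have e1 : x * (w * v * s) = x * (v * s * w) := by
    rw [mul_assoc v, ← hws, ← mul_assoc v, ← hwv]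
  have l1' : IsConj z (x * s) ↔ IsConj z (x * (v * s)) := l1
  have l2' : IsConj z (x * s) ↔ IsConj z (x * (w * v * s)) := l2
  have l3' : IsConj z (x * (v * s)) ↔ ¬ IsConj z (x * (v * s * w)) := l3
  rw [e1] at l2'
  rw [← l1', ← l2'] at l3'
  exact (iff_not_self l3')

end Cfsg.Agent.TypeD4Three.InstS
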