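import Cfsg.Agent.TypeD4Three.InstCon

/-!
# S1763, case [P]: weights at a neighbour `a`, weight two elements (helper948)
-/

set_option autoImplicit false

namespace Cfsg.Agent.TypeD4Three.InstSwap

open Cfsg.Agent.Co2Type.Quad Cfsg.Agent.LargeExtra.Base Cfsg.Agent.LargeExtra.Local
open Cfsg.Agent.TypeD4Three.StarModel Cfsg.Agent.TypeD4Three.StarFrame Cfsg.Agent.TypeD4Three.StarEdge
open Cfsg.Agent.TypeD4Three.LocIface Cfsg.Agent.TypeD4Three.InstModel Cfsg.Agent.TypeD4Three.Star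
open Cfsg.Agent.TypeD4Three.InstBase Cfsg.Agent.TypeD4Three.InstFix Cfsg.Agent.TypeD4Three.InstCon

variable {G : Type*} [Group G] {Q : Subgroup G} {z : G} {lz : Large Q z} {F : Frame lz}

/-! ### weight two -/

/-- weight two at `z` -/
def W1 (F : Frame lz) (w : G) : Prop := ∃ h : w ∈ Q, isTwo (F.φ (lz.pr ⟨w, h⟩))

/-- weight two at `s` -/
def Wt (F : Frame lz) (s w : G) : Prop := ∃ g, g * z * g⁻¹ = s ∧ W1 F (g⁻¹ * w * g)

/-- the relation `S` at `z` -/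
def S1 (F : Frame lz) (w v : G) : Prop := ∃ (hw : w ∈ Q) (hv : v ∈ Q),
  isS (F.φ (lz.pr ⟨w, hw⟩)) (F.φ (lz.pr ⟨v, hv⟩))

/-- the relation `S` at `s` -/
def St (F : Frame lz) (s w v : G) : Prop := ∃ g, g * z * g⁻¹ = s ∧ S1 F (g⁻¹ * w * g) (g⁻¹ * v * g)

theorem act_zero_iff (F : Frame lz) (c : ↥(Subgroup.centralizer ({z} : Set G))) (v : lz.V) (k : Fin 4) :
    F.φ (lz.act c v) (F.π c k) = 0 ↔ F.φ v k = 0 := by
  rw [F.hact]
  constructor
  · intro h
    by_contra h0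
    exact F.g_ne h0 h
  · intro h
    rw [h, F.g_zero]

theorem two_act (F : Frame lz) (c : ↥(Subgroup.centralizer ({z} : Set G))) {v : lz.V}
    (h : isTwo (F.φ v)) : isTwo (F.φ (lz.act c v)) := by
  obtain ⟨k, l, hkl, h⟩ := h
  refine ⟨F.π c k, F.π c l, fun h' => hkl ((F.π c).injective h'), fun j => ?_⟩
  obtain ⟨i, rfl⟩ := (F.π c).surjective j
  rw [Ne, act_zero_iff, ← Ne, h i, (F.π c).injective.eq_iff, (F.π c).injective.eq_iff]

theorem S_act (F : Frame lz) (c : ↥(Subgroup.centralizer ({z} : Set G))) {v w : lz.V}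
    (h : isS (F.φ v) (F.φ w)) : isS (F.φ (lz.act c v)) (F.φ (lz.act c w)) := by
  obtain ⟨k, l, hkl, h1, h2, h3, h4⟩ := h
  have key : ∀ k, F.φ v k + F.φ w k ≠ 0 →
      F.φ (lz.act c v) (F.π c k) + F.φ (lz.act c w) (F.π c k) ≠ 0 := by
    intro k hk
    have := (not_congr (act_zero_iff F c (v + w) k)).2
      (by rw [map_add, Pi.add_apply]; exact hk)
    rw [map_add, map_add, Pi.add_apply] at this
    exact this
  refine ⟨F.π c k, F.π c l, fun h' => hkl ((F.π c).injective h'), fun j => ?_, fun j => ?_,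
    key _ h3, key _ h4⟩
  · obtain ⟨i, rfl⟩ := (F.π c).surjective j
    rw [Ne, act_zero_iff, ← Ne, h1 i, (F.π c).injective.eq_iff, (F.π c).injective.eq_iff]
  · obtain ⟨i, rfl⟩ := (F.π c).surjective j
    rw [Ne, act_zero_iff, ← Ne, h2 i, (F.π c).injective.eq_iff, (F.π c).injective.eq_iff]

theorem W1_conj {w k : G} (hk : k * z = z * k) (h : W1 F w) : W1 F (k * w * k⁻¹) := by
  obtain ⟨hw, h⟩ := h
  refine ⟨lz.conj_mem k hk w hw, ?_⟩
  have := two_act F (cen hk) h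
  rwa [lz.act_pr] at this

theorem S1_conj {w v k : G} (hk : k * z = z * k) (h : S1 F w v) : S1 F (k * w * k⁻¹) (k * v * k⁻¹) := by
  obtain ⟨hw, hv, h⟩ := h
  refine ⟨lz.conj_mem k hk w hw, lz.conj_mem k hk v hv, ?_⟩
  have := S_act F (cen hk) h
  rwa [lz.act_pr, lz.act_pr] at this

theorem Wt_iff {g s w : G} (hg : g * z * g⁻¹ = s) : Wt F s w ↔ W1 F (g⁻¹ * w * g) := by
  constructor
  · rintro ⟨g', hg', h⟩
    have hc : (g⁻¹ * g') * z = z * (g⁻¹ * g') := by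
      have h1 : g' * z * g'⁻¹ = g * z * g⁻¹ := hg'.trans hg.symm
      calc g⁻¹ * g' * z = g⁻¹ * (g' * z * g'⁻¹) * g' := by group
        _ = g⁻¹ * (g * z * g⁻¹) * g' := by rw [h1]
        _ = z * (g⁻¹ * g') := by group
    have h2 := W1_conj hc h
    have e : g⁻¹ * g' * (g'⁻¹ * w * g') * (g⁻¹ * g')⁻¹ = g⁻¹ * w * g := by group
    rwa [e] at h2
  · intro h
    exact ⟨g, hg, h⟩

theorem St_iff {g s w v : G} (hg : g * z * g⁻¹ = s) : St F s w v ↔ S1 F (g⁻¹ * w * g) (g⁻¹ * v * g) := by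
  constructor
  · rintro ⟨g', hg', h⟩
    have hc : (g⁻¹ * g') * z = z * (g⁻¹ * g') := by
      have h1 : g' * z * g'⁻¹ = g * z * g⁻¹ := hg'.trans hg.symm
      calc g⁻¹ * g' * z = g⁻¹ * (g' * z * g'⁻¹) * g' := by group
        _ = g⁻¹ * (g * z * g⁻¹) * g' := by rw [h1]
        _ = z * (g⁻¹ * g') := by group
    have h2 := S1_conj hc h
    have e : ∀ w, g⁻¹ * g' * (g'⁻¹ * w * g') * (g⁻¹ * g')⁻¹ = g⁻¹ * w * g := by intro w; group
    rwa [e, e] at h2
  · intro h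
    exact ⟨g, hg, h⟩

theorem Wt_z {w : G} : Wt F z w ↔ W1 F w := by
  have h : (1 : G) * z * 1⁻¹ = z := by group
  rw [Wt_iff h]
  have e : (1 : G)⁻¹ * w * 1 = w := by group
  rw [e]

theorem St_z {w v : G} : St F z w v ↔ S1 F w v := by
  have h : (1 : G) * z * 1⁻¹ = z := by group
  rw [St_iff h]
  have e : ∀ w : G, (1 : G)⁻¹ * w * 1 = w := by intro w; group
  rw [e, e]

theorem Wt_conj (k : G) {s w : G} (h : Wt F s w) : Wt F (k * s * k⁻¹) (k * w * k⁻¹) := by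
  obtain ⟨g, hg, hx⟩ := h
  refine ⟨k * g, ?_, ?_⟩
  · rw [← hg]; group
  · have e : (k * g)⁻¹ * (k * w * k⁻¹) * (k * g) = g⁻¹ * w * g := by group
    rwa [e]

theorem St_conj (k : G) {s w v : G} (h : St F s w v) :
    St F (k * s * k⁻¹) (k * w * k⁻¹) (k * v * k⁻¹) := by
  obtain ⟨g, hg, hx⟩ := h
  refine ⟨k * g, ?_, ?_⟩
  · rw [← hg]; group
  · have e : ∀ w, (k * g)⁻¹ * (k * w * k⁻¹) * (k * g) = g⁻¹ * w * g := by intro w; group
    rwa [e, e]

theorem W1.not_isConj (L : Loc F) {w : G} (h : W1 F w) : ¬ IsConj z w := by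
  obtain ⟨hw, h⟩ := h
  exact not_isConj_of_two L h

theorem W1.mul_z {w : G} (h : W1 F w) : W1 F (z * w) := by
  obtain ⟨hw, h⟩ := h
  refine ⟨mul_mem lz.z_mem hw, ?_⟩
  have : lz.pr ⟨z * w, mul_mem lz.z_mem hw⟩ = lz.pr ⟨w, hw⟩ := by
    apply pr_mul_z
    show z * w = w * z
    rw [lz.comm_z w hw]
  rwa [this]

theorem W1.sq (L : Loc F) {w : G} (h : W1 F w) : w * w = 1 := by
  obtain ⟨hw, h⟩ := h
  exact sq_of_two L h

theorem W1.ne (h1 : W1 F (1 : G)) : False := by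
  obtain ⟨hw, h⟩ := h1
  apply ne_zero_of_two _ h
  rw [lz.pr_eq_zero.2 (Or.inl rfl), map_zero]

/-! ### the swapped coordinates -/

section sv

variable {A : Subgroup G} {a : G} {p : Pair Q z A a} (c : Chart F p) {g : G}
  (g1 : g * z * g⁻¹ = a) (g3 : g⁻¹ * z * g = a)
  (g5 : ∀ x, g⁻¹ * x * g ∈ Q ↔ x ∈ A) (g6 : ∀ x, g⁻¹ * x * g ∈ A ↔ x ∈ Q)

/-- the coordinates of `y ∈ A` at `a` -/
noncomputable def sv (y : A) : Fin 4 → W := c.ψ (lz.pr ⟨g⁻¹ * y * g, (g5 y).2 y.2⟩)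

theorem sv_mul (x y : A) : sv c g5 (x * y) = sv c g5 x + sv c g5 y := by
  unfold sv
  rw [← ψ_mul]
  congr 2
  apply Subtype.ext
  show g⁻¹ * ((x : G) * y) * g = g⁻¹ * x * g * (g⁻¹ * y * g)
  group

include g3 in
theorem sv_z (hz : z ∈ A) : sv c g5 ⟨z, hz⟩ = A0 := by
  rw [← ψ_va c]
  unfold sv
  congr 2
  exact Subtype.ext g3

include g1 in
theorem sv_zero_iff {y : A} : sv c g5 y = 0 ↔ (y : G) = 1 ∨ (y : G) = a := by
  unfold sv
  rw [map_eq_zero_iff c.ψ c.ψ.injective, lz.pr_eq_zero]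
  constructor
  · rintro (h | h)
    · left
      have h' : g⁻¹ * (y : G) * g = 1 := h
      calc (y : G) = g * (g⁻¹ * y * g) * g⁻¹ := by group
        _ = 1 := by rw [h']; group
    · right
      have h' : g⁻¹ * (y : G) * g = z := h
      calc (y : G) = g * (g⁻¹ * y * g) * g⁻¹ := by group
        _ = a := by rw [h', g1]
  · rintro (h | h)
    · left
      show g⁻¹ * (y : G) * g = 1
      rw [h]; group
    · right
      show g⁻¹ * (y : G) * g = z
      rw [h, ← g1]; group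

theorem sv_comm {x y : A} : (x : G) * y = y * x ↔ isComm (sv c g5 x) (sv c g5 y) := by
  unfold sv
  rw [← comm_iff c]
  show _ ↔ g⁻¹ * (x : G) * g * (g⁻¹ * y * g) = g⁻¹ * y * g * (g⁻¹ * x * g)
  have e : ∀ x y : G, g⁻¹ * x * g * (g⁻¹ * y * g) = g⁻¹ * (x * y) * g := by intro x y; group
  rw [e, e]
  constructor
  · intro h; rw [h]
  · intro h
    exact mul_left_cancel (mul_right_cancel h)

include g3 in
theorem sv_perp {x : A} : (x : G) * z = z * x ↔ isPerp (sv c g5 x) := by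
  unfold sv
  rw [← perp_iff c]
  show _ ↔ g⁻¹ * (x : G) * g * a = a * (g⁻¹ * x * g)
  rw [← g3]
  have e : ∀ x y : G, g⁻¹ * x * g * (g⁻¹ * y * g) = g⁻¹ * (x * y) * g := by intro x y; group
  rw [e, e]
  constructor
  · intro h; rw [h]
  · intro h
    exact mul_left_cancel (mul_right_cancel h)

include g6 in
theorem sv_D {x : A} : (x : G) ∈ Q ↔ isD (sv c g5 x) := by
  unfold sv
  rw [← mem_A_iff c]
  exact (g6 x).symm

include g1 in
theorem sv_full (H : Hyp F) (L : Loc F) {x : A} (hx : (x : G) ≠ a) :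
    IsConj z (x : G) ↔ isFull (sv c g5 x) := by
  unfold sv
  rw [full_iff c, ← isConj_iff_full L H]
  · exact (isConj_conj g).symm
  · intro h
    apply hx
    have h' : g⁻¹ * (x : G) * g = z := h
    calc (x : G) = g * (g⁻¹ * x * g) * g⁻¹ := by group
      _ = a := by rw [h', g1]

include g1 in
theorem sv_two_or_full (L : Loc F) {x : A} (hx : (x : G) ≠ a) (hx1 : (x : G) ≠ 1)
    (hx2 : (x : G) * x = 1) : isTwo (sv c g5 x) ∨ isFull (sv c g5 x) := by
  unfold sv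
  rw [full_iff c, two_iff c]
  apply two_or_full' L
  · show g⁻¹ * (x : G) * g * (g⁻¹ * x * g) = 1
    calc g⁻¹ * (x : G) * g * (g⁻¹ * x * g) = g⁻¹ * (x * x) * g := by group
      _ = 1 := by rw [hx2]; group
  · intro h
    apply hx1
    have h' : g⁻¹ * (x : G) * g = 1 := h
    calc (x : G) = g * (g⁻¹ * x * g) * g⁻¹ := by group
      _ = 1 := by rw [h']; group
  · intro h
    apply hx
    have h' : g⁻¹ * (x : G) * g = z := h
    calc (x : G) = g * (g⁻¹ * x * g) * g⁻¹ := by group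
      _ = a := by rw [h', g1]

include g1 in
theorem sv_two (H : Hyp F) (L : Loc F) {x : A} (h : W1 F (x : G)) : isTwo (sv c g5 x) := by
  have hxa : (x : G) ≠ a := by
    intro h'
    apply h.not_isConj L
    rw [h', ← g1]
    exact isConj_iff.2 ⟨g, rfl⟩
  have hx1 : (x : G) ≠ 1 := by
    intro h'
    rw [h'] at h
    exact h.ne
  rcases sv_two_or_full c g1 g5 L hxa hx1 (h.sq L) with h1 | h1
  · exact h1
  · exact absurd ((sv_full c g1 g5 H L hxa).2 h1) (h.not_isConj L)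

include g1 in
theorem Wt_of_sv {x : A} (h : isTwo (sv c g5 x)) : Wt F a x := by
  rw [Wt_iff g1]
  refine ⟨(g5 x).2 x.2, ?_⟩
  rw [← two_iff c]
  exact h

include g1 in
theorem St_of_sv {x y : A} (h : isS (sv c g5 x) (sv c g5 y)) : St F a x y := by
  rw [St_iff g1]
  refine ⟨(g5 x).2 x.2, (g5 y).2 y.2, ?_⟩
  rw [← S_iff c]
  exact h

end sv

/-! ### a pair over a fixed full vector -/

theorem exists_at [Finite Q] (H : Hyp F) (L : Loc F) {x : G} (hx : IsConj z x) (hxz : x * z = z * x)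
    (hxQ : x ∉ Q) {c : Q} (hc : isFull (F.φ (lz.pr c))) (hfix : lz.act (cen hxz) (lz.pr c) = lz.pr c) :
    ∃ (a : Q) (A : Subgroup G) (_ : Pair Q z A (a : G)), lz.pr a = lz.pr c ∧ x ∈ A := by
  have hcc : IsConj z (c : G) := H.conj_of_wt4 c hc
  have hcz : (c : G) ≠ z := by
    intro h
    apply hc 0
    rw [lz.pr_eq_zero.2 (Or.inr h), map_zero]; rfl
  obtain ⟨A, p⟩ := exists_pair lz hcc c.2 hcz
  have hsc := conj_of_fix hxz hfix rfl
  rcases lstar H L p (star H hx hxz) (sq_of_isConj lz hx) hxQ hsc with h | h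
  · exact ⟨c, A, p, rfl, (inQ_pair p).1 h⟩
  · have hpr : lz.pr (c * ⟨z, lz.z_mem⟩) = lz.pr c := pr_mul_z c rfl
    have hc' : isFull (F.φ (lz.pr (c * ⟨z, lz.z_mem⟩))) := by rw [hpr]; exact hc
    have hcc' : IsConj z ((c * ⟨z, lz.z_mem⟩ : Q) : G) := H.conj_of_wt4 _ hc'
    have hcz' : ((c * ⟨z, lz.z_mem⟩ : Q) : G) ≠ z := by
      intro h
      apply hc' 0
      rw [lz.pr_eq_zero.2 (Or.inr h), map_zero]; rfl
    obtain ⟨B, q⟩ := exists_pair lz hcc' (c * ⟨z, lz.z_mem⟩ : Q).2 hcz'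
    exact ⟨_, B, q, hpr, (inQ_pair q).1 h⟩

theorem fix_of_comm {x : G} (hxz : x * z = z * x) {c : Q} (h : (c : G) * x = x * c) :
    lz.act (cen hxz) (lz.pr c) = lz.pr c := inR_fix hxz ⟨c, rfl, h⟩

end Cfsg.Agent.TypeD4Three.InstSwap
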