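import Cfsg.Agent.TypeD4Three.FrameInv

/-!
# S1763, case [P] : elements inverted by `y` (helper754)
-/

set_option autoImplicit false

namespace Cfsg.Agent.TypeD4Three

open Cfsg.Agent.Co2Type.Quad

variable {G : Type*} [Group G]

theorem prod4_inv {w : Fin 4 → G} (hw : ∀ k l, w k * w l = w l * w k) : (prod4 w)⁻¹ = prod4 fun k => (w k)⁻¹ := by
  rw [inv_eq_iff_mul_eq_one, ← prod4_mul]
  · simp only [prod4, mul_inv_cancel, mul_one]
  · intro k l _
    have : Commute (w k) (w l) := hw k l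
    exact this.inv_right.eq

namespace Input

variable {Q : Subgroup G} {z : G} {h : Large Q z} (inp : Input h)

theorem pow_u' {k l : Fin 4} (hkl : k ≠ l) (n : ℕ) : (inp.ξ k ^ n) (inp.u l) = inp.u l := by
  induction n with
  | zero => rfl
  | succ n ih =>
    rw [pow_succ']
    show inp.ξ k ((inp.ξ k ^ n) (inp.u l)) = _
    rw [ih, inp.ξ_u' k l hkl]

theorem prod_comm (i : Fin 4 → ℕ) (k : Fin 4) :
    (inp.ξ 0 ^ i 0 * inp.ξ 1 ^ i 1 * inp.ξ 2 ^ i 2 * inp.ξ 3 ^ i 3) * inp.ξ k =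
      inp.ξ k * (inp.ξ 0 ^ i 0 * inp.ξ 1 ^ i 1 * inp.ξ 2 ^ i 2 * inp.ξ 3 ^ i 3) := by
  have h0 : Commute (inp.ξ 0 ^ i 0) (inp.ξ k) := (show Commute (inp.ξ 0) (inp.ξ k) from inp.xi_comm 0 k).pow_left _
  have h1 : Commute (inp.ξ 1 ^ i 1) (inp.ξ k) := (show Commute (inp.ξ 1) (inp.ξ k) from inp.xi_comm 1 k).pow_left _
  have h2 : Commute (inp.ξ 2 ^ i 2) (inp.ξ k) := (show Commute (inp.ξ 2) (inp.ξ k) from inp.xi_comm 2 k).pow_left _
  have h3 : Commute (inp.ξ 3 ^ i 3) (inp.ξ k) := (show Commute (inp.ξ 3) (inp.ξ k) from inp.xi_comm 3 k).pow_left _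
  exact (((h0.mul_left h1).mul_left h2).mul_left h3).eq

theorem prod_u (i : Fin 4 → ℕ) (k : Fin 4) :
    (inp.ξ 0 ^ i 0 * inp.ξ 1 ^ i 1 * inp.ξ 2 ^ i 2 * inp.ξ 3 ^ i 3) (inp.u k) = (inp.ξ k ^ i k) (inp.u k) := by
  show (inp.ξ 0 ^ i 0) ((inp.ξ 1 ^ i 1) ((inp.ξ 2 ^ i 2) ((inp.ξ 3 ^ i 3) (inp.u k)))) = _
  have hcomm : ∀ k l, ∀ m n : ℕ, inp.ξ k ^ m * inp.ξ l ^ n = inp.ξ l ^ n * inp.ξ k ^ m := by
    intro k l m n
    have : Commute (inp.ξ k) (inp.ξ l) := inp.xi_comm k l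
    exact (this.pow_pow m n).eq
  have hfix : ∀ l, l ≠ k → ∀ m n : ℕ, (inp.ξ l ^ m) ((inp.ξ k ^ n) (inp.u k)) = (inp.ξ k ^ n) (inp.u k) := by
    intro l hl m n
    have : (inp.ξ l ^ m * inp.ξ k ^ n) (inp.u k) = (inp.ξ k ^ n * inp.ξ l ^ m) (inp.u k) := by rw [hcomm]
    have h2 : (inp.ξ l ^ m) ((inp.ξ k ^ n) (inp.u k)) = (inp.ξ k ^ n) ((inp.ξ l ^ m) (inp.u k)) := this
    rw [h2, inp.pow_u' hl m]
  rcases fin4 k with rfl | rfl | rfl | rfl
  · rw [inp.pow_u' (show (3 : Fin 4) ≠ 0 by decide), inp.pow_u' (show (2 : Fin 4) ≠ 0 by decide),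
      inp.pow_u' (show (1 : Fin 4) ≠ 0 by decide)]
  · rw [inp.pow_u' (show (3 : Fin 4) ≠ 1 by decide), inp.pow_u' (show (2 : Fin 4) ≠ 1 by decide), hfix 0 (by decide)]
  · rw [inp.pow_u' (show (3 : Fin 4) ≠ 2 by decide), hfix 1 (by decide), hfix 0 (by decide)]
  · rw [hfix 2 (by decide), hfix 1 (by decide), hfix 0 (by decide)]

theorem prod_v (i : Fin 4 → ℕ) (k : Fin 4) :
    (inp.ξ 0 ^ i 0 * inp.ξ 1 ^ i 1 * inp.ξ 2 ^ i 2 * inp.ξ 3 ^ i 3) (inp.v k) = (inp.ξ k ^ i k) (inp.v k) := by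
  rw [← inp.ξ_u k]
  have h1 := inp.prod_comm i k
  have h2 : ((inp.ξ 0 ^ i 0 * inp.ξ 1 ^ i 1 * inp.ξ 2 ^ i 2 * inp.ξ 3 ^ i 3) * inp.ξ k) (inp.u k) =
    (inp.ξ k * (inp.ξ 0 ^ i 0 * inp.ξ 1 ^ i 1 * inp.ξ 2 ^ i 2 * inp.ξ 3 ^ i 3)) (inp.u k) := by rw [h1]
  have h3 : (inp.ξ 0 ^ i 0 * inp.ξ 1 ^ i 1 * inp.ξ 2 ^ i 2 * inp.ξ 3 ^ i 3) (inp.ξ k (inp.u k)) =
    inp.ξ k ((inp.ξ 0 ^ i 0 * inp.ξ 1 ^ i 1 * inp.ξ 2 ^ i 2 * inp.ξ 3 ^ i 3) (inp.u k)) := h2
  rw [h3, inp.prod_u]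
  have h4 : Commute (inp.ξ k) (inp.ξ k ^ i k) := (Commute.refl _).pow_right _
  have h5 : (inp.ξ k * inp.ξ k ^ i k) (inp.u k) = (inp.ξ k ^ i k * inp.ξ k) (inp.u k) := by rw [h4.eq]
  exact h5

/-- exponents can be read off -/
theorem prod_inj {i j : Fin 4 → ℕ} (hi : ∀ k, i k < 3) (hj : ∀ k, j k < 3)
    (e : inp.ξ 0 ^ i 0 * inp.ξ 1 ^ i 1 * inp.ξ 2 ^ i 2 * inp.ξ 3 ^ i 3 =
      inp.ξ 0 ^ j 0 * inp.ξ 1 ^ j 1 * inp.ξ 2 ^ j 2 * inp.ξ 3 ^ j 3) : i = j := by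
  funext k
  have h1 := inp.prod_u i k
  rw [e, inp.prod_u j k] at h1
  have hu : ∀ n, n < 3 → (n = 0 ∧ (inp.ξ k ^ n) (inp.u k) = inp.u k) ∨ (n = 1 ∧ (inp.ξ k ^ n) (inp.u k) = inp.v k) ∨
      (n = 2 ∧ (inp.ξ k ^ n) (inp.u k) = inp.u k + inp.v k) := by
    intro n hn
    have : n = 0 ∨ n = 1 ∨ n = 2 := by omega
    rcases this with rfl | rfl | rfl
    · left; exact ⟨rfl, rfl⟩
    · right; left; refine ⟨rfl, ?_⟩; rw [pow_one, inp.ξ_u]
    · right; right; refine ⟨rfl, ?_⟩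
      rw [pow_two]
      show inp.ξ k (inp.ξ k (inp.u k)) = _
      rw [inp.ξ_u, inp.ξ_v]
  have huv : inp.u k ≠ inp.v k := by
    intro h2
    have h3 := inp.b_uv k
    rw [← h2, h.b_self] at h3
    exact absurd h3 (by decide)
  have hu0 : inp.u k ≠ 0 := by
    intro h2
    have h3 := inp.b_uv k
    rw [h2, map_zero, LinearMap.zero_apply] at h3
    exact absurd h3 (by decide)
  have hv0 : inp.v k ≠ 0 := by
    intro h2
    have h3 := inp.b_uv k
    rw [h2, map_zero] at h3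
    exact absurd h3 (by decide)
  rcases hu (i k) (hi k) with ⟨a1, a2⟩ | ⟨a1, a2⟩ | ⟨a1, a2⟩ <;>
    rcases hu (j k) (hj k) with ⟨b1, b2⟩ | ⟨b1, b2⟩ | ⟨b1, b2⟩ <;> rw [a2, b2] at h1
  · rw [a1, b1]
  · exact absurd h1.symm huv
  · exact absurd h1 (by rw [add_eq_left]; exact hv0)
  · exact absurd h1 huv
  · rw [a1, b1]
  · exact absurd h1 (by rw [add_eq_right]; exact hu0)
  · exact absurd h1.symm (by rw [add_eq_left]; exact hv0)
  · exact absurd h1.symm (by rw [add_eq_right]; exact hu0)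
  · rw [a1, b1]

end Input

namespace Inv

variable {Q : Subgroup G} {z y : G} {x I J : Fin 4 → G} (F : Frame Q z x I J) (hy : Inv z x I J y)

include F hy

theorem conj_prod4_x (i : Fin 4 → ℕ) :
    y * prod4 (fun k => x k ^ i k) * y⁻¹ = (prod4 (fun k => x k ^ i k))⁻¹ := by
  rw [prod4_conj, prod4_inv]
  · congr 1
    funext k
    rw [← conj_pow, hy.yx k, inv_pow]
  · intro k l
    have : Commute (x k) (x l) := F.xx k l
    exact (this.pow_pow _ _).eq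

omit hy in
theorem act_fix_coord {i : Fin 4 → ℕ} (hi : ∀ k, i k < 3) {f : F.large.V ≃ₗ[ZMod 2] F.large.V}
    (hf : f = F.input.ξ 0 ^ i 0 * F.input.ξ 1 ^ i 1 * F.input.ξ 2 ^ i 2 * F.input.ξ 3 ^ i 3)
    (hfa : f ∈ F.large.act.range) {c : Fin 4 → ZMod 2}
    (hfix : f (F.input.comb fun k => (c k, 0)) = F.input.comb fun k => (c k, 0)) (k : Fin 4) : i k = 0 ∨ c k = 0 := by
  obtain ⟨g, rfl⟩ := hfa
  have h1 := F.large.b_act g (F.input.comb fun k => (c k, 0)) (F.input.u k)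
  rw [hfix, F.input.b_comb_u, hf, F.input.prod_u] at h1
  have : i k = 0 ∨ i k = 1 ∨ i k = 2 := by have := hi k; omega
  rcases this with h2 | h2 | h2
  · left; exact h2
  · right
    rw [h2, pow_one, F.input.ξ_u, F.input.b_comb_v] at h1
    exact h1
  · right
    have h3 : (F.input.ξ k ^ 2) (F.input.u k) = F.input.u k + F.input.v k := by
      rw [pow_two]
      show F.input.ξ k (F.input.ξ k (F.input.u k)) = _
      rw [F.input.ξ_u, F.input.ξ_v]
    rw [h2, h3, map_add, F.input.b_comb_u, F.input.b_comb_v] at h1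
    simpa using h1

omit hy in
theorem pr_prod4 {w : Fin 4 → G} (hw : ∀ k, w k ∈ Q) :
    F.large.pr ⟨prod4 w, prod4_mem hw⟩ = ∑ k, F.large.pr ⟨w k, hw k⟩ := by
  rw [Fin.sum_univ_four, ← F.large.pr_mul, ← F.large.pr_mul, ← F.large.pr_mul]
  rfl

omit hy in
theorem pr_bif {a : Fin 4 → G} (ha : ∀ k, a k ∈ Q) (c : Fin 4 → ZMod 2)
    (hm : ∀ k, (bif decide (c k = 1) then a k else 1) ∈ Q) :
    F.large.pr ⟨prod4 fun k => bif decide (c k = 1) then a k else 1, prod4_mem hm⟩ =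
      ∑ k, c k • F.large.pr ⟨a k, ha k⟩ := by
  rw [pr_prod4 F hm]
  refine Finset.sum_congr rfl fun k _ => ?_
  rcases Input.zmod_two (c k) with h1 | h1
  · have h2 : (bif decide (c k = 1) then a k else 1) = 1 := by rw [h1]; rfl
    have h3 : F.large.pr ⟨bif decide (c k = 1) then a k else 1, hm k⟩ = 0 := F.large.pr_eq_zero.2 (Or.inl h2)
    have h4 : c k • F.large.pr ⟨a k, ha k⟩ = 0 := by rw [h1, zero_smul]
    rw [h4]; exact h3
  · have h2 : (bif decide (c k = 1) then a k else 1) = a k := by rw [h1]; rfl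
    have h3 : F.large.pr ⟨bif decide (c k = 1) then a k else 1, hm k⟩ = F.large.pr ⟨a k, ha k⟩ :=
      congrArg _ (Subtype.ext h2)
    have h4 : c k • F.large.pr ⟨a k, ha k⟩ = F.large.pr ⟨a k, ha k⟩ := by rw [h1, one_smul]
    rw [h4]; exact h3

/-- **Lemma D**. -/
theorem exists_prod [Finite G] {u : G} (huz : u * z = z * u) (ho : Odd (orderOf u)) (huy : y * u * y⁻¹ = u⁻¹) :
    ∃ (i : Fin 4 → ℕ) (s : Fin 4 → Bool), (∀ k, i k < 3) ∧ u = prod4 (fun k => rt x I k (s k) ^ i k) ∧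
      F.large.act ⟨u, Subgroup.mem_centralizer_singleton_iff.2 huz⟩ =
        F.input.ξ 0 ^ i 0 * F.input.ξ 1 ^ i 1 * F.input.ξ 2 ^ i 2 * F.input.ξ 3 ^ i 3 := by
  have hfin := F.finiteQ
  obtain ⟨i, hi, ⟨q, hq, hqe⟩, hact⟩ := F.exists_conj_prod huz ho (act_comm F hy huz ho huy)
  set e := prod4 (fun k => x k ^ i k) with he
  have hez := F.prod4_x_comm i
  have heC : e ∈ Subgroup.centralizer ({z} : Set G) := Subgroup.mem_centralizer_singleton_iff.2 hez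
  have huC : u ∈ Subgroup.centralizer ({z} : Set G) := Subgroup.mem_centralizer_singleton_iff.2 huz
  have hqC : q ∈ Subgroup.centralizer ({z} : Set G) :=
    Subgroup.mem_centralizer_singleton_iff.2 (F.large.comm_z q hq)
  have hae : F.large.act ⟨e, heC⟩ = F.input.ξ 0 ^ i 0 * F.input.ξ 1 ^ i 1 * F.input.ξ 2 ^ i 2 * F.input.ξ 3 ^ i 3 := by
    rw [← hact]
    have h1 : (⟨u, huC⟩ : Subgroup.centralizer ({z} : Set G)) = ⟨q, hqC⟩ * ⟨e, heC⟩ * ⟨q, hqC⟩⁻¹ := Subtype.ext hqe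
    rw [h1, map_mul, map_mul, map_inv, F.large.act_mem ⟨q, hqC⟩ hq]; group
  have he3 : e * e * e = 1 := by rw [← pow_three']; exact F.prod4_x_cube i
  have hye : y * e * y⁻¹ = e⁻¹ := conj_prod4_x F hy i
  -- the element `d`
  have hqy : y * q * y⁻¹ ∈ Q := F.large.conj_mem y hy.yz q hq
  have hcom : e * (q⁻¹ * (y * q * y⁻¹)) * e⁻¹ = q⁻¹ * (y * q * y⁻¹) := by
    have h1 : y * u * y⁻¹ = (y * q * y⁻¹) * e⁻¹ * (y * q * y⁻¹)⁻¹ := by
      rw [hqe]
      calc y * (q * e * q⁻¹) * y⁻¹ = (y * q * y⁻¹) * (y * e * y⁻¹) * (y * q * y⁻¹)⁻¹ := by group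
        _ = _ := by rw [hye]
    rw [huy, hqe] at h1
    have h2 : q * e⁻¹ * q⁻¹ = (y * q * y⁻¹) * e⁻¹ * (y * q * y⁻¹)⁻¹ := by rw [← h1]; group
    have h3 : (y * q * y⁻¹) * e⁻¹ = q * e⁻¹ * q⁻¹ * (y * q * y⁻¹) := by rw [h2]; group
    calc e * (q⁻¹ * (y * q * y⁻¹)) * e⁻¹ = e * q⁻¹ * ((y * q * y⁻¹) * e⁻¹) := by group
      _ = e * q⁻¹ * (q * e⁻¹ * q⁻¹ * (y * q * y⁻¹)) := by rw [h3]
      _ = _ := by group
  have hd : q⁻¹ * (y * q * y⁻¹) ∈ Q := Q.mul_mem (Q.inv_mem hq) hqy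
  obtain ⟨c, hc⟩ := F.input.comb_surjective (F.large.pr ⟨q, hq⟩)
  have hprd : F.large.pr ⟨q⁻¹ * (y * q * y⁻¹), hd⟩ = F.input.comb fun k => ((c k).2, 0) := by
    have h1 : (⟨q⁻¹ * (y * q * y⁻¹), hd⟩ : Q) = ⟨q, hq⟩⁻¹ * F.large.conjQ ⟨y, mem F hy⟩ ⟨q, hq⟩ := rfl
    rw [h1, F.large.pr_mul, F.large.pr_inv, F.large.neg_eq, ← F.large.act_pr, ← hc, act_comb F hy]
  have hfix : F.large.act ⟨e, heC⟩ (F.input.comb fun k => ((c k).2, 0)) = F.input.comb fun k => ((c k).2, 0) := by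
    rw [← hprd, F.large.act_pr]
    exact congrArg _ (Subtype.ext hcom)
  have hzero := act_fix_coord F hi hae ⟨_, rfl⟩ hfix
  -- the element `q'`
  set p : Fin 4 → G := fun k => bif decide ((c k).1 = 1) then I k else 1 with hp
  have hpQ : ∀ k, p k ∈ Q := by
    intro k
    show (bif decide ((c k).1 = 1) then I k else 1) ∈ Q
    cases decide ((c k).1 = 1)
    · exact Q.one_mem
    · exact F.I_mem k
  have hq'Q : prod4 p ∈ Q := prod4_mem hpQ
  have hpr' : F.large.pr ⟨prod4 p, hq'Q⟩ = ∑ k, (c k).1 • F.input.u k := pr_bif F F.I_mem (fun k => (c k).1) hpQ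
  have hr : (prod4 p)⁻¹ * q ∈ Q := Q.mul_mem (Q.inv_mem hq'Q) hq
  have hprr : F.large.pr ⟨(prod4 p)⁻¹ * q, hr⟩ = ∑ k, (c k).2 • F.input.v k := by
    have h1 : (⟨(prod4 p)⁻¹ * q, hr⟩ : Q) = ⟨prod4 p, hq'Q⟩⁻¹ * ⟨q, hq⟩ := rfl
    rw [h1, F.large.pr_mul, F.large.pr_inv, F.large.neg_eq, hpr', ← hc]
    unfold Input.comb
    rw [← Finset.sum_add_distrib]
    refine Finset.sum_congr rfl fun k _ => ?_
    rw [← add_assoc, F.large.add_self, zero_add]
  have hre : e * ((prod4 p)⁻¹ * q) = (prod4 p)⁻¹ * q * e := by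
    refine F.comm_of_act hez he3 hr ?_
    rw [hprr, map_sum]
    refine Finset.sum_congr rfl fun k _ => ?_
    rw [map_smul, hae, F.input.prod_v]
    rcases hzero k with h1 | h1
    · rw [h1]; rfl
    · rw [h1, zero_smul, zero_smul]
  have hu2 : u = prod4 p * e * (prod4 p)⁻¹ := by
    calc u = q * e * q⁻¹ := hqe
      _ = prod4 p * ((prod4 p)⁻¹ * q * e) * q⁻¹ := by group
      _ = prod4 p * (e * ((prod4 p)⁻¹ * q)) * q⁻¹ := by rw [hre]
      _ = _ := by group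
  refine ⟨i, fun k => decide ((c k).1 = 1), hi, ?_, hact⟩
  rw [hu2, he, prod4_conj]
  congr 1
  funext k
  rw [← conj_pow]
  congr 1
  rw [prod4_conj_single (k := k)]
  · show (bif decide ((c k).1 = 1) then I k else 1) * x k * (bif decide ((c k).1 = 1) then I k else 1)⁻¹ =
      rt x I k (decide ((c k).1 = 1))
    unfold rt
    cases decide ((c k).1 = 1)
    · simp
    · rfl
  · intro a b
    show (bif decide ((c a).1 = 1) then I a else 1) * (bif decide ((c b).1 = 1) then I b else 1) =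
      (bif decide ((c b).1 = 1) then I b else 1) * (bif decide ((c a).1 = 1) then I a else 1)
    by_cases hab : a = b
    · rw [hab]
    · cases decide ((c a).1 = 1) <;> cases decide ((c b).1 = 1)
      · simp
      · simp
      · simp
      · exact F.I_I a b hab
  · intro l hl
    show (bif decide ((c l).1 = 1) then I l else 1) * x k = x k * (bif decide ((c l).1 = 1) then I l else 1)
    cases decide ((c l).1 = 1)
    · simp
    · exact (F.x_I' k l hl.symm).symm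

/-- Involutions inverting the frame modulo `Q` are conjugate. -/
theorem conj_y [Finite G] {w : G} (hwz : w * z = z * w) (hw : w * w = 1) (hwx : ∀ k, w * x k * w⁻¹ * x k ∈ Q) :
    ∃ g ∈ Subgroup.closure (Set.range x) ⊔ Q, g * z = z * g ∧ w = g * y * g⁻¹ := by
  have hfin := F.finiteQ
  have hwC : w ∈ Subgroup.centralizer ({z} : Set G) := Subgroup.mem_centralizer_singleton_iff.2 hwz
  have hyC := mem F hy
  have hyy : y⁻¹ = y := inv_eq_of_mul_eq_one_left hy.sq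
  have hwξ : ∀ k, F.large.act ⟨w, hwC⟩ * F.input.ξ k * (F.large.act ⟨w, hwC⟩)⁻¹ = (F.input.ξ k)⁻¹ := by
    intro k
    have hC : w * x k * w⁻¹ * x k ∈ Subgroup.centralizer ({z} : Set G) :=
      Subgroup.mem_centralizer_singleton_iff.2 (F.large.comm_z _ (hwx k))
    have h1 := F.act_eq_one_of_mem (hwx k) hC
    have h2 : (⟨w * x k * w⁻¹ * x k, hC⟩ : Subgroup.centralizer ({z} : Set G)) =
      ⟨w, hwC⟩ * ⟨x k, F.x_mem k⟩ * ⟨w, hwC⟩⁻¹ * ⟨x k, F.x_mem k⟩ := rfl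
    rw [h2, map_mul, map_mul, map_mul, map_inv] at h1
    exact eq_inv_of_mul_eq_one_left h1
  have hcomm : ∀ k, (F.large.act ⟨w, hwC⟩ * F.large.act ⟨y, hyC⟩) * F.input.ξ k =
      F.input.ξ k * (F.large.act ⟨w, hwC⟩ * F.large.act ⟨y, hyC⟩) := by
    intro k
    have h1 := hwξ k
    have h2 := act_xi F hy k
    calc (F.large.act ⟨w, hwC⟩ * F.large.act ⟨y, hyC⟩) * F.input.ξ k
        = F.large.act ⟨w, hwC⟩ * (F.large.act ⟨y, hyC⟩ * F.input.ξ k * (F.large.act ⟨y, hyC⟩)⁻¹) *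
          F.large.act ⟨y, hyC⟩ := by group
      _ = (F.large.act ⟨w, hwC⟩ * F.input.ξ k * (F.large.act ⟨w, hwC⟩)⁻¹)⁻¹ * F.large.act ⟨w, hwC⟩ *
          F.large.act ⟨y, hyC⟩ := by rw [h2]; group
      _ = _ := by rw [h1]; group
  obtain ⟨i, hi, hi2⟩ := F.input.exists_pow hcomm
  set e := prod4 (fun k => x k ^ i k) with he
  have hez := F.prod4_x_comm i
  have heC : e ∈ Subgroup.centralizer ({z} : Set G) := Subgroup.mem_centralizer_singleton_iff.2 hez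
  have hae : F.large.act ⟨e, heC⟩ = F.large.act ⟨w, hwC⟩ * F.large.act ⟨y, hyC⟩ := by
    rw [hi2]
    have h1 : (⟨e, heC⟩ : Subgroup.centralizer ({z} : Set G)) =
        prod4 (fun k => (⟨x k, F.x_mem k⟩ : Subgroup.centralizer ({z} : Set G)) ^ i k) := by
      apply Subtype.ext
      rfl
    rw [h1, map_prod4]
    unfold prod4
    simp only [map_pow]
    rfl
  have he3 : e * e * e = 1 := by rw [← pow_three']; exact F.prod4_x_cube i
  have hye : y * e * y⁻¹ = e⁻¹ := conj_prod4_x F hy i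
  -- `e y = e² y e⁻²`
  have he2y : e * e * y * (e * e)⁻¹ = e * y := by
    have h1 : y * (e * e)⁻¹ = e * e * y := by
      calc y * (e * e)⁻¹ = (y * e * y⁻¹)⁻¹ * (y * e * y⁻¹)⁻¹ * y := by group
        _ = _ := by rw [hye]; group
    calc e * e * y * (e * e)⁻¹ = e * e * (y * (e * e)⁻¹) := by group
      _ = (e * e * e) * e * y := by rw [h1]; group
      _ = _ := by rw [he3, one_mul]
  have he2z : (e * e) * z = z * (e * e) := by
    have : Commute e z := hez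
    exact (this.mul_left this).eq
  -- `w' = (e²)⁻¹ w e² ∈ Q y`
  set w' := (e * e)⁻¹ * w * (e * e) with hw'
  have hw'z : w' * z = z * w' := by
    have h1 : Commute (e * e) z := he2z
    have h2 : Commute w z := hwz
    exact ((h1.inv_left.mul_left h2).mul_left h1).eq
  have hw'w' : w' * w' = 1 := by
    calc w' * w' = (e * e)⁻¹ * (w * w) * (e * e) := by rw [hw']; group
      _ = 1 := by rw [hw]; group
  have hqQ : w' * y ∈ Q := by
    have h1 : F.large.act ((⟨e, heC⟩ * ⟨e, heC⟩)⁻¹ * ⟨w, hwC⟩ * (⟨e, heC⟩ * ⟨e, heC⟩) * ⟨y, hyC⟩) = 1 := by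
      have h2 : F.large.act ⟨w, hwC⟩ = F.large.act (⟨e, heC⟩ * ⟨y, hyC⟩) := by
        rw [map_mul, hae]
        have h3 : F.large.act ⟨y, hyC⟩ * F.large.act ⟨y, hyC⟩ = 1 := by
          rw [← map_mul]
          have : (⟨y, hyC⟩ : Subgroup.centralizer ({z} : Set G)) * ⟨y, hyC⟩ = 1 := Subtype.ext hy.sq
          rw [this, map_one]
        rw [mul_assoc, h3, mul_one]
      have h4 : (⟨e, heC⟩ : Subgroup.centralizer ({z} : Set G)) * ⟨y, hyC⟩ =
          (⟨e, heC⟩ * ⟨e, heC⟩) * ⟨y, hyC⟩ * (⟨e, heC⟩ * ⟨e, heC⟩)⁻¹ := Subtype.ext he2y.symm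
      rw [map_mul, map_mul, map_mul, h2, h4]
      rw [← map_mul, ← map_mul, ← map_mul]
      have h5 : (⟨e, heC⟩ * ⟨e, heC⟩)⁻¹ * (⟨e, heC⟩ * ⟨e, heC⟩ * ⟨y, hyC⟩ * (⟨e, heC⟩ * ⟨e, heC⟩)⁻¹) *
          (⟨e, heC⟩ * ⟨e, heC⟩) * ⟨y, hyC⟩ = (⟨y, hyC⟩ * ⟨y, hyC⟩ : Subgroup.centralizer ({z} : Set G)) := by group
      rw [h5]
      have : (⟨y, hyC⟩ : Subgroup.centralizer ({z} : Set G)) * ⟨y, hyC⟩ = 1 := Subtype.ext hy.sq
      rw [this, map_one]
    exact F.large.mem_of_act _ h1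
  set q := w' * y with hq
  have hw'q : w' = q * y := by rw [hq, mul_assoc, hy.sq, mul_one]
  have hqq : q * (y * q * y⁻¹) = 1 := by
    rw [hw'q] at hw'w'
    rw [hyy]
    calc q * (y * q * y) = q * y * (q * y) := by group
      _ = 1 := hw'w'
  obtain ⟨c, hc⟩ := F.input.comb_surjective (F.large.pr ⟨q, hqQ⟩)
  have hc2 : ∀ k, (c k).2 = 0 := by
    have h1 : F.large.pr (⟨q, hqQ⟩ * F.large.conjQ ⟨y, hyC⟩ ⟨q, hqQ⟩) = 0 := by
      rw [F.large.pr_eq_zero]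
      left; exact hqq
    rw [F.large.pr_mul, ← F.large.act_pr, ← hc, act_comb F hy, ← F.input.comb_zero] at h1
    have h2 := F.input.comb_injective h1
    intro k
    exact congrArg Prod.fst (congrFun h2 k)
  -- the element `j`
  set p : Fin 4 → G := fun k => bif decide ((c k).1 = 1) then J k else 1 with hp
  have hpQ : ∀ k, p k ∈ Q := by
    intro k
    show (bif decide ((c k).1 = 1) then J k else 1) ∈ Q
    cases decide ((c k).1 = 1)
    · exact Q.one_mem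
    · exact F.J_mem k
  have hjQ : prod4 p ∈ Q := prod4_mem hpQ
  have hjz := F.large.comm_z _ hjQ
  have hpr' : F.large.pr ⟨prod4 p, hjQ⟩ = F.input.comb fun k => (0, (c k).1) := by
    rw [pr_bif F F.J_mem (fun k => (c k).1) hpQ]
    unfold Input.comb
    refine Finset.sum_congr rfl fun k _ => ?_
    rw [zero_smul, zero_add]
    rfl
  have hprj : F.large.pr (⟨prod4 p, hjQ⟩ * F.large.conjQ ⟨y, hyC⟩ ⟨prod4 p, hjQ⟩⁻¹) = F.large.pr ⟨q, hqQ⟩ := by
    rw [F.large.pr_mul, ← F.large.act_pr, F.large.pr_inv, F.large.neg_eq, hpr', act_comb F hy, ← hc]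
    congr 1
    funext k
    exact Prod.ext rfl (hc2 k).symm
  have hI0 : I 0 * y * (I 0)⁻¹ = z * y := by
    have h1 := hy.yI 0
    have h3 : y * I 0 = I 0 * z * y := by rw [← h1]; group
    calc I 0 * y * (I 0)⁻¹ = (z * z) * (I 0 * y * (I 0)⁻¹) := by rw [F.z_sq, one_mul]
      _ = z * ((z * I 0) * y * (I 0)⁻¹) := by group
      _ = z * ((y * I 0) * (I 0)⁻¹) := by rw [← F.I_z 0, h3]
      _ = z * y := by group
  have hmemE : e * e ∈ Subgroup.closure (Set.range x) ⊔ Q := by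
    apply Subgroup.mem_sup_left
    have : e ∈ Subgroup.closure (Set.range x) :=
      prod4_mem fun k => Subgroup.pow_mem _ (Subgroup.subset_closure (Set.mem_range_self k)) _
    exact Subgroup.mul_mem _ this this
  have hwe : w = (e * e) * w' * (e * e)⁻¹ := by rw [hw']; group
  rcases F.large.pr_eq_pr.1 hprj with h1 | h1
  · have h2 : prod4 p * (y * (prod4 p)⁻¹ * y⁻¹) = q := h1
    refine ⟨e * e * prod4 p, Subgroup.mul_mem _ hmemE (Subgroup.mem_sup_right hjQ), ?_, ?_⟩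
    · have h3 : Commute (e * e) z := he2z
      exact (h3.mul_left hjz).eq
    · rw [hwe, hw'q, ← h2, hyy]
      calc e * e * (prod4 p * (y * (prod4 p)⁻¹ * y) * y) * (e * e)⁻¹
          = e * e * (prod4 p * (y * (prod4 p)⁻¹) * (y * y)) * (e * e)⁻¹ := by group
        _ = _ := by rw [hy.sq]; group
  · have h2 : prod4 p * (y * (prod4 p)⁻¹ * y⁻¹) = q * z := h1
    refine ⟨e * e * (prod4 p * I 0), Subgroup.mul_mem _ hmemE (Subgroup.mem_sup_right (Q.mul_mem hjQ (F.I_mem 0))), ?_, ?_⟩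
    · have h3 : Commute (e * e) z := he2z
      have h4 : Commute (prod4 p) z := hjz
      exact (h3.mul_left (h4.mul_left (F.I_z 0))).eq
    · have h3 : prod4 p * y * (prod4 p)⁻¹ = q * z * y := by
        rw [← h2]; group
      have h4 : (prod4 p * I 0) * y * (prod4 p * I 0)⁻¹ = q * y := by
        calc (prod4 p * I 0) * y * (prod4 p * I 0)⁻¹ = prod4 p * (I 0 * y * (I 0)⁻¹) * (prod4 p)⁻¹ := by group
          _ = prod4 p * z * y * (prod4 p)⁻¹ := by rw [hI0]; group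
          _ = z * (prod4 p * y * (prod4 p)⁻¹) := by rw [hjz]; group
          _ = z * q * z * y := by rw [h3]; group
          _ = q * (z * z) * y := by
            have : Commute q z := F.large.comm_z q hqQ
            rw [this.symm.eq]; group
          _ = _ := by rw [F.z_sq]; group
      rw [hwe, hw'q, ← h4]; group

end Inv

end Cfsg.Agent.TypeD4Three
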