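import Cfsg.Agent.TypeD4Three.Coords

/-!
# S1763, case [P] : local analysis (helper951)

* `full_of_pair` : `ã` has full support
* `orient` : one of the `ξ k` can be inverted so that `D̃ = I₀ + ⟨∑ v k⟩`
* `X_iff` : the group `p.X` in coordinates
-/

set_option autoImplicit false

namespace Cfsg.Agent.TypeD4Three.Local

open Cfsg.Agent.Co2Type.Quad Cfsg.Agent.TypeD4Three.Coords Cfsg.Agent.LargeExtra.Base

variable {G : Type*} [Group G] {Q A : Subgroup G} {z a : G} (p : Pair Q z A a)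

theorem sign_cases (g : Equiv.Perm W) : Equiv.Perm.sign g = 1 ∨ Equiv.Perm.sign g = -1 :=
  Int.units_eq_one_or _

variable {f f' : p.lz.V ≃ₗ[ZMod 2] p.lz.V} {π π' : Equiv.Perm (Fin 4)} {g g' : Fin 4 → Equiv.Perm W}

/-- `f` fixes `ã` -/
theorem rep_va {inp : Input p.lz} (hf : f ∈ p.X) (H : Rep inp f π g) (k : Fin 4) :
    phi inp p.va (π k) = g k (phi inp p.va k) := by
  have h1 := H.2 p.va k
  rwa [p.X_va hf] at h1

theorem sign_eq {inp : Input p.lz} (hf : f ∈ p.X) (H : Rep inp f 1 g) {i j : Fin 4} (hij : i ≠ j)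
    (hi : phi inp p.va i ≠ 0) (hj : phi inp p.va j ≠ 0) :
    Equiv.Perm.sign (g i) = Equiv.Perm.sign (g j) := by
  have hgi : g i (phi inp p.va i) = phi inp p.va i := (rep_va p hf H i).symm
  have hgj : g j (phi inp p.va j) = phi inp p.va j := (rep_va p hf H j).symm
  set α := phi inp p.va with hα
  have hperp : p.lz.b p.va (psi inp (Pi.single i (R (α i))) + psi inp (Pi.single j (R (α j)))) = 0 := by
    rw [map_add, b_single, b_single, ← hα, om_R _ hi, om_R _ hj]; decide
  have h1 := p.X_perp hf hperp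
  rw [map_add, H.single, H.single] at h1
  have h2 : psi inp (Pi.single ((1 : Equiv.Perm (Fin 4)) i) (g i (R (α i)))) +
      psi inp (Pi.single ((1 : Equiv.Perm (Fin 4)) j) (g j (R (α j)))) +
      (psi inp (Pi.single i (R (α i))) + psi inp (Pi.single j (R (α j)))) =
      psi inp (Pi.single i (g i (R (α i)) + R (α i))) + psi inp (Pi.single j (g j (R (α j)) + R (α j))) := by
    rw [Pi.single_add, Pi.single_add, psi_add, psi_add]
    show psi inp (Pi.single i (g i (R (α i)))) + psi inp (Pi.single j (g j (R (α j)))) + _ = _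
    abel
  rw [h2] at h1
  have h3 := p.q_D h1
  rw [p.lz.q_add', q_single, q_single, b_single, phi_psi, Pi.single_eq_of_ne (Ne.symm hij)] at h3
  have h4 : ∀ x : W, om 0 x = 0 := by decide
  rw [h4, add_zero] at h3
  have key : ∀ (g : Equiv.Perm W) (x : W), Lin g → g x = x → x ≠ 0 →
      qW (g (R x) + R x) = if Equiv.Perm.sign g = 1 then 0 else 1 := by decide +kernel
  rw [key _ _ (H.1 i) hgi hi, key _ _ (H.1 j) hgj hj] at h3
  rcases sign_cases (g i) with h5 | h5 <;> rcases sign_cases (g j) with h6 | h6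
  · rw [h5, h6]
  · rw [h5, h6] at h3; exact absurd h3 (by decide)
  · rw [h5, h6] at h3; exact absurd h3 (by decide)
  · rw [h5, h6]

theorem zero_comp {inp : Input p.lz} (hf : f ∈ p.X) (H : Rep inp f π g) {m : Fin 4}
    (hm : phi inp p.va m = 0) : π m = m ∧ g m = 1 := by
  have hxH : inp.ξ m ∈ p.H := inp.mem m
  have hxa : inp.ξ m p.va = p.va := by
    by_contra hne
    exact (ne_iff inp m p.va).1 hne hm
  have hE : inp.ξ m * f * (inp.ξ m)⁻¹ * f⁻¹ ∈ p.X := mul_mem (p.X_normal hxH hxa hf) (inv_mem hf)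
  set E := inp.ξ m * f * (inp.ξ m)⁻¹ * f⁻¹ with hEd
  have hEE : ∀ w, E (E w) = w := fun w => by
    have := p.X_sq hE
    exact congrArg (fun F : p.lz.V ≃ₗ[ZMod 2] p.lz.V => F w) this
  have hff : ∀ w, f (f w) = w := fun w => by
    have := p.X_sq hf
    exact congrArg (fun F : p.lz.V ≃ₗ[ZMod 2] p.lz.V => F w) this
  have hEw : ∀ w, E w = inp.ξ m (f ((inp.ξ m)⁻¹ (f⁻¹ w))) := fun w => rfl
  have hfi : ∀ w, f (f⁻¹ w) = w := f.apply_symm_apply
  have hπ : π m = m := by
    by_contra hne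
    obtain ⟨j, hj⟩ := π.surjective m
    have hjm : j ≠ m := by
      rintro rfl
      exact hne hj
    have h1 : ∀ w, phi inp (E w) m = R (phi inp w m) := by
      intro w
      rw [hEw, phi_xi, Function.update_self]
      congr 1
      have h3 := H.2 ((inp.ξ m)⁻¹ (f⁻¹ w)) j
      rw [hj, phi_xi_inv, Function.update_of_ne hjm, ← H.2, hfi, hj] at h3
      exact h3
    have h2 := congrArg (fun w => phi inp w m) (hEE (psi inp (Pi.single m (1, 0))))
    simp only [h1, phi_psi, Pi.single_eq_same] at h2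
    exact absurd h2 (by decide)
  refine ⟨hπ, ?_⟩
  have h1 : ∀ w, phi inp (E w) m = (RP * g m * RP⁻¹ * (g m)⁻¹) (phi inp w m) := by
    intro w
    rw [hEw, phi_xi, Function.update_self]
    show _ = RP (g m (RP⁻¹ ((g m)⁻¹ (phi inp w m))))
    show RP _ = _
    congr 1
    have h3 := H.2 ((inp.ξ m)⁻¹ (f⁻¹ w)) m
    rw [hπ, phi_xi_inv, Function.update_self] at h3
    rw [h3]
    congr 2
    have h2 := H.2 (f⁻¹ w) m
    rw [hfi, hπ] at h2
    rw [h2]
    exact ((g m).symm_apply_apply _).symm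
  apply w6 (g m) (H.1 m)
  · ext x : 1
    have h2 := congrArg (fun w => phi inp w m) (hff (psi inp (Pi.single m x)))
    simp only [phi_psi, Pi.single_eq_same] at h2
    have h3 := H.2 (f (psi inp (Pi.single m x))) m
    rw [hπ, h2] at h3
    have h4 := H.2 (psi inp (Pi.single m x)) m
    rw [hπ, phi_psi, Pi.single_eq_same] at h4
    rw [h4] at h3
    exact h3.symm
  · ext x : 1
    have h2 := congrArg (fun w => phi inp w m) (hEE (psi inp (Pi.single m x)))
    simp only [h1, phi_psi, Pi.single_eq_same] at h2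
    exact h2

theorem eq_one_of_rep {inp : Input p.lz} (hf : f ∈ p.X) (H : Rep inp f 1 g) {i0 : Fin 4}
    (h0 : phi inp p.va i0 ≠ 0) (hs : Equiv.Perm.sign (g i0) = 1) : f = 1 := by
  have hg : g = 1 := by
    funext k
    by_cases hk : phi inp p.va k = 0
    · exact (zero_comp p hf H hk).2
    · have h1 : Equiv.Perm.sign (g k) = 1 := by
        by_cases hk0 : k = i0
        · rw [hk0]; exact hs
        · rw [sign_eq p hf H hk0 hk h0, hs]
      exact w3 (g k) (H.1 k) h1 _ hk (rep_va p hf H k).symm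
  rw [hg] at H
  exact H.ext rep_one

theorem eq_of_rep {inp : Input p.lz} (hf : f ∈ p.X) (hf' : f' ∈ p.X) (H : Rep inp f π g)
    (H' : Rep inp f' π g') {i0 : Fin 4} (h0 : phi inp p.va i0 ≠ 0)
    (hs : Equiv.Perm.sign (g i0) = Equiv.Perm.sign (g' i0)) : f = f' := by
  have h1 := H.inv.mul H'
  rw [inv_mul_cancel] at h1
  have h2 : f⁻¹ * f' = 1 := by
    apply eq_one_of_rep p (mul_mem (inv_mem hf) hf') h1 h0
    have e : π⁻¹ (π i0) = i0 := π.symm_apply_apply i0
    show Equiv.Perm.sign ((g (π⁻¹ (π i0)))⁻¹ * g' i0) = 1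
    rw [e, Equiv.Perm.sign_mul, Equiv.Perm.sign_inv, hs]
    exact Int.units_mul_self _
  exact (inv_mul_eq_one.1 h2)

theorem card_X_le [Finite G] {inp : Input p.lz} {S : Finset (Equiv.Perm (Fin 4))} {i0 : Fin 4}
    (h0 : phi inp p.va i0 ≠ 0)
    (hS : ∀ f ∈ p.X, ∀ π g, Rep inp f π g → π ∈ S) : Nat.card p.X ≤ S.card * 2 := by
  classical
  have h1 : ∀ f : p.X, ∃ π g, Rep inp (f : p.lz.V ≃ₗ[ZMod 2] p.lz.V) π g := fun f =>
    exists_rep inp (p.X_le_H f.2)
  choose P Gm hP using h1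
  let F : p.X → S × ℤˣ := fun f => (⟨P f, hS _ f.2 _ _ (hP f)⟩, Equiv.Perm.sign (Gm f i0))
  have hF : Function.Injective F := by
    intro f f' hff
    have e1 : P f = P f' := congrArg (fun t : S × ℤˣ => (t.1 : Equiv.Perm (Fin 4))) hff
    have e2 : Equiv.Perm.sign (Gm f i0) = Equiv.Perm.sign (Gm f' i0) :=
      congrArg (fun t : S × ℤˣ => t.2) hff
    have h2 := hP f'
    rw [← e1] at h2
    exact Subtype.ext (eq_of_rep p f.2 f'.2 (hP f) h2 h0 e2)
  have h2 := Nat.card_le_card_of_injective F hF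
  rw [Nat.card_prod, Nat.card_eq_fintype_card (α := ℤˣ)] at h2
  simpa using h2

theorem card_D_le (inp : Input p.lz) [Finite Q] : Nat.card p.D ≤ 16 := by
  have h1 := Cfsg.Agent.LargeExtra.Perp.card_sq_le p.lz p.D (fun v hv w hw => p.b_D hv hw)
  rw [card_V inp] at h1
  by_contra hcon
  push Not at hcon
  nlinarith

theorem card_X_ge [Finite G] (inp : Input p.lz) : 8 ≤ Nat.card p.X := by
  have h1 := p.card_X
  rw [card_V inp] at h1
  have h2 := card_D_le p inp
  by_contra hcon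
  push Not at hcon
  nlinarith

theorem full_phi [Finite G] (inp : Input p.lz) : ∀ k, phi inp p.va k ≠ 0 := by
  by_contra hcon
  push Not at hcon
  obtain ⟨m, hm⟩ := hcon
  have hq := p.q_D p.va_mem_D
  rw [q_eq inp] at hq
  simp only [qW_eq] at hq
  have key : ∀ (s : Fin 4 → Bool) (m : Fin 4), s m = true →
      (∑ k, (if s k = true then (0 : ZMod 2) else 1)) = 0 → ∃ m', m' ≠ m ∧ s m' = true := by
    decide +kernel
  obtain ⟨m', hne, hm'⟩ := key (fun k => decide (phi inp p.va k = 0)) m (by simpa using hm)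
    (by simpa using hq)
  have hm'0 : phi inp p.va m' = 0 := by simpa using hm'
  obtain ⟨i0, h0⟩ : ∃ i0, phi inp p.va i0 ≠ 0 := by
    by_contra hcon
    push Not at hcon
    apply p.va_ne
    apply phi_inj inp
    rw [phi_zero]
    funext k
    exact hcon k
  have h1 := card_X_le p (inp := inp) (S := Finset.univ.filter fun σ => σ m = m ∧ σ m' = m') h0 (by
    intro f hf π g H
    rw [Finset.mem_filter]
    exact ⟨Finset.mem_univ _, (zero_comp p hf H hm).1, (zero_comp p hf H hm'0).1⟩)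
  have h2 : ∀ m m' : Fin 4, m' ≠ m →
      (Finset.univ.filter fun σ : Equiv.Perm (Fin 4) => σ m = m ∧ σ m' = m').card ≤ 2 := by
    decide +kernel
  have h3 := h2 m m' hne
  have h4 := card_X_ge p inp
  omega

/-- (a) `ã` has full support -/
theorem full_of_pair [Finite G] (inp : Input p.lz) (k : Fin 4) : inp.ξ k p.va ≠ p.va :=
  (ne_iff inp k p.va).2 (full_phi p inp k)

theorem exists_ne_one [Finite G] (inp : Input p.lz) : ∃ f ∈ p.X, ∃ π g, Rep inp f π g ∧ π ≠ 1 := by
  by_contra hcon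
  push Not at hcon
  have h1 := card_X_le p (inp := inp) (S := {1}) (full_phi p inp 0) (by
    intro f hf π g H
    rw [Finset.mem_singleton]
    exact hcon f hf π g H)
  have h2 := card_X_ge p inp
  rw [Finset.card_singleton] at h1
  omega

/-- the possible permutations -/
def cs (τ : Equiv.Perm (Fin 4)) : Finset (Equiv.Perm (Fin 4)) :=
  Finset.univ.filter fun σ => σ * σ = 1 ∧ σ * τ = τ * σ

theorem card_cs : ∀ τ : Equiv.Perm (Fin 4), τ ≠ 1 → τ * τ = 1 → (cs τ).card ≤ 6 := by decide +kernel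

theorem exists_cs [Finite G] (inp : Input p.lz) : ∃ τ : Equiv.Perm (Fin 4), (cs τ).card ≤ 6 ∧
    ∀ f ∈ p.X, ∀ π g, Rep inp f π g → π ∈ cs τ := by
  obtain ⟨f0, hf0, τ, g0, H0, hτ⟩ := exists_ne_one p inp
  have hsq : ∀ f ∈ p.X, ∀ π g, Rep inp f π g → π * π = 1 := by
    intro f hf π g H
    have h1 := H.mul H
    rw [p.X_sq hf] at h1
    exact (h1.unique rep_one).1
  refine ⟨τ, card_cs τ hτ (hsq f0 hf0 τ g0 H0), ?_⟩
  intro f hf π g H
  rw [cs, Finset.mem_filter]
  refine ⟨Finset.mem_univ _, hsq f hf π g H, ?_⟩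
  have h1 := H.mul H0
  rw [p.X_comm hf hf0] at h1
  exact (h1.unique (H0.mul H)).1

theorem cards [Finite G] (inp : Input p.lz) : Nat.card p.X = 8 ∧ Nat.card p.D = 16 := by
  obtain ⟨τ, h1, h2⟩ := exists_cs p inp
  have h3 := card_X_le p (inp := inp) (full_phi p inp 0) h2
  have h4 := card_X_ge p inp
  have h5 := p.card_X
  rw [card_V inp] at h5
  have h6 := card_D_le p inp
  have h7 : Nat.card p.X ≤ 12 := by omega
  generalize Nat.card p.X = x at *
  generalize Nat.card p.D = d at *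
  interval_cases x <;> omega

theorem exists_delta [Finite G] (inp : Input p.lz) :
    ∃ f ∈ p.X, ∃ g, Rep inp f 1 g ∧ ∀ k, Equiv.Perm.sign (g k) = -1 := by
  classical
  obtain ⟨τ, h1, h2⟩ := exists_cs p inp
  have h3 : ∀ f : p.X, ∃ π g, Rep inp (f : p.lz.V ≃ₗ[ZMod 2] p.lz.V) π g := fun f =>
    exists_rep inp (p.X_le_H f.2)
  choose P Gm hP using h3
  let F : p.X → cs τ := fun f => ⟨P f, h2 _ f.2 _ _ (hP f)⟩
  have hF : ¬ Function.Injective F := by
    intro hinj
    have h4 := Nat.card_le_card_of_injective F hinj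
    rw [(cards p inp).1, Nat.card_eq_fintype_card, Fintype.card_coe] at h4
    omega
  rw [Function.Injective] at hF
  push Not at hF
  obtain ⟨f, f', hff, hne⟩ := hF
  have e1 : P f = P f' := congrArg (fun t : cs τ => (t : Equiv.Perm (Fin 4))) hff
  have h4 := (hP f).inv.mul (hP f')
  rw [← e1, inv_mul_cancel] at h4
  refine ⟨_, mul_mem (inv_mem f.2) f'.2, _, h4, ?_⟩
  intro k
  rcases sign_cases ((Gm f ((P f)⁻¹ (P f k)))⁻¹ * Gm f' k) with h5 | h5
  · exfalso
    apply hne
    have h6 := eq_one_of_rep p (mul_mem (inv_mem f.2) f'.2) h4 (full_phi p inp k) h5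
    exact Subtype.ext (inv_mul_eq_one.1 h6)
  · exact h5

/-- sums of two components of `ã` are in `D̃` -/
theorem pair_mem_D [Finite G] (inp : Input p.lz) (i j : Fin 4) :
    psi inp (Pi.single i (phi inp p.va i)) + psi inp (Pi.single j (phi inp p.va j)) ∈ p.D := by
  obtain ⟨f, hf, g, H, hs⟩ := exists_delta p inp
  have hg : ∀ k, g k (phi inp p.va k) = phi inp p.va k := fun k => (rep_va p hf H k).symm
  have hfull := full_phi p inp
  set α := phi inp p.va with hα
  have hperp : p.lz.b p.va (psi inp (Pi.single i (R (α i))) + psi inp (Pi.single j (R (α j)))) = 0 := by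
    rw [map_add, b_single, b_single, ← hα, om_R _ (hfull i), om_R _ (hfull j)]; decide
  have h1 := p.X_perp hf hperp
  rw [map_add, H.single, H.single, w2 _ (H.1 i) (hs i), w2 _ (H.1 j) (hs j), hg, hg, Pi.single_add,
    Pi.single_add, psi_add, psi_add] at h1
  have h2 : psi inp (Pi.single ((1 : Equiv.Perm (Fin 4)) i) (R (α i))) +
      psi inp (Pi.single ((1 : Equiv.Perm (Fin 4)) i) (α i)) +
      (psi inp (Pi.single ((1 : Equiv.Perm (Fin 4)) j) (R (α j))) +
        psi inp (Pi.single ((1 : Equiv.Perm (Fin 4)) j) (α j))) +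
      (psi inp (Pi.single i (R (α i))) + psi inp (Pi.single j (R (α j)))) =
      psi inp (Pi.single i (α i)) + psi inp (Pi.single j (α j)) := by
    rw [Equiv.Perm.one_apply, Equiv.Perm.one_apply]
    generalize psi inp (Pi.single i (R (α i))) = A1
    generalize psi inp (Pi.single j (R (α j))) = A2
    generalize psi inp (Pi.single i (α i)) = A3
    generalize psi inp (Pi.single j (α j)) = A4
    calc A1 + A3 + (A2 + A4) + (A1 + A2) = (A1 + A1) + (A2 + A2) + (A3 + A4) := by abel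
      _ = A3 + A4 := by rw [p.lz.add_self, p.lz.add_self, zero_add, zero_add]
  rwa [h2] at h1

/-- `inp` is adapted to the pair `p`: `ã = ∑ u k`, `D̃ = I₀ + ⟨∑ v k⟩` -/
structure Adapted (p : Pair Q z A a) (inp : Input p.lz) : Prop where
  va : phi inp p.va = fun _ => (1, 0)
  D : ∀ w, w ∈ p.D ↔ (∀ k, (phi inp w k).2 = (phi inp w 0).2) ∧ ∑ k, (phi inp w k).1 = 0

theorem om_pair [Finite G] (inp : Input p.lz) {w : p.lz.V} (hw : w ∈ p.D) (k : Fin 4) :
    om (phi inp w k) (phi inp p.va k) = om (phi inp w 0) (phi inp p.va 0) := by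
  have h1 := p.b_D hw (pair_mem_D p inp k 0)
  rw [map_add, b_single, b_single] at h1
  have : ∀ x y : ZMod 2, x + y = 0 → x = y := by decide
  exact this _ _ h1

theorem exists_w0 [Finite G] (inp : Input p.lz) :
    ∃ w ∈ p.D, om (phi inp w 0) (phi inp p.va 0) = 1 := by
  by_contra hcon
  push Not at hcon
  have h0 : ∀ w ∈ p.D, ∀ k, phi inp w k = 0 ∨ phi inp w k = phi inp p.va k := by
    intro w hw k
    have h1 := om_pair p inp hw k
    have h2 : om (phi inp w 0) (phi inp p.va 0) = 0 := by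
      have : ∀ x : ZMod 2, x ≠ 1 → x = 0 := by decide
      exact this _ (hcon w hw)
    rw [h2] at h1
    have key : ∀ x y : W, y ≠ 0 → om x y = 0 → x = 0 ∨ x = y := by decide
    exact key _ _ (full_phi p inp k) h1
  let F : p.D → {s : Fin 4 → ZMod 2 // ∑ k, s k = 0} := fun w =>
    ⟨fun k => qW (phi inp w k), by
      have := p.q_D w.2
      rwa [q_eq inp] at this⟩
  have hF : Function.Injective F := by
    intro w w' hww
    apply Subtype.ext
    apply phi_inj inp
    funext k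
    have h1 : qW (phi inp w k) = qW (phi inp w' k) := congrFun (congrArg Subtype.val hww) k
    rw [qW_eq, qW_eq] at h1
    rcases h0 w w.2 k with h2 | h2 <;> rcases h0 w' w'.2 k with h3 | h3
    · rw [h2, h3]
    · rw [if_pos h2, if_neg (h3 ▸ full_phi p inp k)] at h1
      exact absurd h1 (by decide)
    · rw [if_pos h3, if_neg (h2 ▸ full_phi p inp k)] at h1
      exact absurd h1 (by decide)
    · rw [h2, h3]
  have h1 := Nat.card_le_card_of_injective F hF
  rw [(cards p inp).2, Nat.card_eq_fintype_card] at h1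
  have h2 : Fintype.card {s : Fin 4 → ZMod 2 // ∑ k, s k = 0} = 8 := by decide +kernel
  omega

/-- (b) the orientation -/
theorem exists_adapted [Finite G] (inp : Input p.lz) : ∃ inp' : Input p.lz,
    (∀ k, inp'.ξ k = inp.ξ k ∨ inp'.ξ k = (inp.ξ k)⁻¹) ∧ Adapted p inp' := by
  obtain ⟨w0, hw0, h0⟩ := exists_w0 p inp
  have hβ : ∀ k, om (phi inp p.va k) (phi inp w0 k) = 1 := by
    intro k
    rw [om_comm, om_pair p inp hw0 k, h0]
  refine ⟨rebase inp _ _ hβ, rebase_xi inp _ _ hβ, ?_⟩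
  have hu : ∑ k, (rebase inp _ _ hβ).u k = p.va := by rw [sum_rebase_u, psi_phi]
  have hv : ∑ k, (rebase inp _ _ hβ).v k = w0 := by rw [sum_rebase_v, psi_phi]
  have hD : ∀ k l, (rebase inp _ _ hβ).u k + (rebase inp _ _ hβ).u l ∈ p.D := fun k l =>
    pair_mem_D p inp k l
  generalize rebase inp _ _ hβ = inp' at hu hv hD
  refine ⟨?_, fun w => ⟨fun hw => ⟨fun k => ?_, ?_⟩, ?_⟩⟩
  · rw [← hu, phi_sum]
    funext l
    rw [Finset.sum_apply, Finset.sum_eq_single l]
    · rw [phi_u, Pi.single_eq_same]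
    · intro k _ hk
      rw [phi_u, Pi.single_eq_of_ne (Ne.symm hk)]
    · intro hk
      exact absurd (Finset.mem_univ l) hk
  · have h1 := p.b_D hw (hD k 0)
    rw [map_add] at h1
    have : ∀ x y : ZMod 2, x + y = 0 → x = y := by decide
    exact this _ _ h1
  · have h1 := p.b_D hw hw0
    rw [← hv, map_sum] at h1
    exact h1
  · rintro ⟨h1, h2⟩
    have h3 := psi_phi inp' w
    set c := phi inp' w with hc
    have h4 : (c 0).1 = (c 1).1 + (c 2).1 + (c 3).1 := by
      rw [Fin.sum_univ_four] at h2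
      have : ∀ x y z w : ZMod 2, x + y + z + w = 0 → x = y + z + w := by decide
      exact this _ _ _ _ h2
    have h5 : w = (c 1).1 • (inp'.u 1 + inp'.u 0) + (c 2).1 • (inp'.u 2 + inp'.u 0) +
        (c 3).1 • (inp'.u 3 + inp'.u 0) + (c 0).2 • w0 := by
      rw [← h3, psi, ← hv, Fin.sum_univ_four, Fin.sum_univ_four, h1 1, h1 2, h1 3, h4]
      module
    rw [h5]
    exact add_mem (add_mem (add_mem (p.D.smul_mem _ (hD 1 0)) (p.D.smul_mem _ (hD 2 0)))
      (p.D.smul_mem _ (hD 3 0))) (p.D.smul_mem _ hw0)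

theorem phi_comb (inp : Input p.lz) (s : Fin 4 → ZMod 2) (e : ZMod 2) :
    phi inp (∑ k, s k • inp.u k + e • ∑ k, inp.v k) = fun k => (s k, e) := by
  have h1 : ∑ k, s k • inp.u k + e • ∑ k, inp.v k = psi inp (fun k => (s k, e)) := by
    rw [psi, Finset.smul_sum, ← Finset.sum_add_distrib]
  rw [h1, phi_psi]

theorem Adapted.sum_u {inp : Input p.lz} (h : Adapted p inp) : ∑ k, inp.u k = p.va := by
  apply phi_inj inp
  have h1 := phi_comb p inp (fun _ => 1) 0
  simp only [one_smul, zero_smul, add_zero] at h1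
  rw [h1, h.va]

theorem Adapted.mem_D {inp : Input p.lz} (h : Adapted p inp) (w : p.lz.V) :
    w ∈ p.D ↔ ∃ (s : Fin 4 → ZMod 2) (e : ZMod 2), ∑ k, s k = 0 ∧
      w = ∑ k, s k • inp.u k + e • ∑ k, inp.v k := by
  rw [h.D]
  constructor
  · rintro ⟨h1, h2⟩
    refine ⟨fun k => (phi inp w k).1, (phi inp w 0).2, h2, ?_⟩
    apply phi_inj inp
    rw [phi_comb p]
    funext k
    rw [← h1 k]
  · rintro ⟨s, e, h1, rfl⟩
    rw [phi_comb p]
    exact ⟨fun _ => rfl, h1⟩

/-- (b) in the form of helper754 -/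
theorem orient [Finite G] (inp : Input p.lz) : ∃ inp' : Input p.lz,
    (∀ k, inp'.ξ k = inp.ξ k ∨ inp'.ξ k = (inp.ξ k)⁻¹) ∧ (∑ k, inp'.u k = p.va) ∧
    ∀ w, w ∈ p.D ↔ ∃ (s : Fin 4 → ZMod 2) (e : ZMod 2), ∑ k, s k = 0 ∧
      w = ∑ k, s k • inp'.u k + e • ∑ k, inp'.v k := by
  obtain ⟨inp', h1, h2⟩ := exists_adapted p inp
  exact ⟨inp', h1, h2.sum_u p, h2.mem_D p⟩

/-- the regular four-group -/
def V4 : Finset (Equiv.Perm (Fin 4)) :=
  {1, Equiv.swap 0 1 * Equiv.swap 2 3, Equiv.swap 0 2 * Equiv.swap 1 3, Equiv.swap 0 3 * Equiv.swap 1 2}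

theorem card_V4 : V4.card = 4 := by decide +kernel

/-- the transvection `(x, y) ↦ (x + e y, y)` -/
def TP (e : ZMod 2) : Equiv.Perm W where
  toFun x := (x.1 + e * x.2, x.2)
  invFun x := (x.1 + e * x.2, x.2)
  left_inv := by revert e; decide
  right_inv := by revert e; decide

theorem lin_TP : ∀ e, Lin (TP e) := by decide

theorem eq_TP : ∀ (g : Equiv.Perm W) (e : ZMod 2), Lin g → g (1, 0) = (1, 0) → g (0, 1) = (e, 1) → g = TP e := by
  decide +kernel

theorem TP_inj : ∀ e e' : ZMod 2, TP e = TP e' → e = e' := by decide +kernel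

theorem mem_V4 : ∀ π : Equiv.Perm (Fin 4), (∀ i j : Fin 4, i ≠ j →
    (∀ l, (π l = i ∨ π l = j) ↔ (l = i ∨ l = j)) ∨ (∀ l, (π l = i ∨ π l = j) ↔ ¬ (l = i ∨ l = j))) →
    π ∈ V4 := by decide +kernel

theorem phi_pair (inp : Input p.lz) {i j : Fin 4} (hij : i ≠ j) (l : Fin 4) :
    phi inp (inp.u i + inp.u j) l = if l = i ∨ l = j then (1, 0) else 0 := by
  rw [phi_add, phi_u, phi_u, Pi.add_apply]
  by_cases h1 : l = i
  · subst h1
    rw [Pi.single_eq_same, Pi.single_eq_of_ne hij, if_pos (Or.inl rfl), add_zero]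
  · rw [Pi.single_eq_of_ne h1, zero_add]
    by_cases h2 : l = j
    · subst h2
      rw [Pi.single_eq_same, if_pos (Or.inr rfl)]
    · rw [Pi.single_eq_of_ne h2, if_neg (by push Not; exact ⟨h1, h2⟩)]

theorem pair_sum : ∀ i j : Fin 4, i ≠ j →
    ∑ k : Fin 4, (if k = i ∨ k = j then ((1, 0) : W) else 0).1 = 0 := by decide +kernel

/-- (c) the elements of `p.X` -/
theorem X_rep {inp : Input p.lz} (hA : Adapted p inp) (hf : f ∈ p.X) (H : Rep inp f π g) :
    π ∈ V4 ∧ ∃ e : ZMod 2, g = fun _ => TP e := by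
  have hva : ∀ k, phi inp p.va k = (1, 0) := fun k => by rw [hA.va]
  have h10 : ∀ k, g k (1, 0) = (1, 0) := by
    intro k
    have h1 := rep_va p hf H k
    rw [hva, hva] at h1
    exact h1.symm
  constructor
  · apply mem_V4
    intro i j hij
    have hD : inp.u i + inp.u j ∈ p.D := by
      rw [hA.D]
      constructor
      · intro k
        rw [phi_pair p inp hij, phi_pair p inp hij]
        split_ifs <;> rfl
      · simp only [phi_pair p inp hij]
        exact pair_sum i j hij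
    have h1 : ∀ l, phi inp (f (inp.u i + inp.u j)) (π l) = if l = i ∨ l = j then (1, 0) else 0 := by
      intro l
      rw [H.2, phi_pair p inp hij]
      by_cases h : l = i ∨ l = j
      · rw [if_pos h, h10]
      · rw [if_neg h, (H.1 l).zero]
    rcases p.X_D hf hD with h2 | h2
    · left
      intro l
      have h3 := h1 l
      rw [h2, phi_pair p inp hij] at h3
      by_cases h4 : π l = i ∨ π l = j <;> by_cases h5 : l = i ∨ l = j
      · simp only [h4, h5]
      · rw [if_pos h4, if_neg h5] at h3; exact absurd h3 (by decide)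
      · rw [if_neg h4, if_pos h5] at h3; exact absurd h3 (by decide)
      · simp only [h4, h5]
    · right
      intro l
      have h3 := h1 l
      rw [h2, phi_add, Pi.add_apply, hva, phi_pair p inp hij] at h3
      by_cases h4 : π l = i ∨ π l = j <;> by_cases h5 : l = i ∨ l = j
      · rw [if_pos h4, if_pos h5] at h3; exact absurd h3 (by decide)
      · simp only [h4, h5, not_false_iff]
      · simp only [h4, h5, not_true]
      · rw [if_neg h4, if_neg h5] at h3; exact absurd h3 (by decide)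
  · have hj : phi inp (∑ k, inp.v k) = fun _ => (0, 1) := by
      have h1 := phi_comb p inp (fun _ => 0) 1
      simpa using h1
    have hD : ∑ k, inp.v k ∈ p.D := by
      rw [hA.D, hj]
      exact ⟨fun _ => rfl, by decide⟩
    have h1 : ∀ l, phi inp (f (∑ k, inp.v k)) (π l) = g l (0, 1) := by
      intro l
      rw [H.2, hj]
    rcases p.X_D hf hD with h2 | h2
    · refine ⟨0, funext fun k => eq_TP _ _ (H.1 k) (h10 k) ?_⟩
      rw [← h1, h2, hj]
    · refine ⟨1, funext fun k => eq_TP _ _ (H.1 k) (h10 k) ?_⟩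
      rw [← h1, h2, phi_add, Pi.add_apply, hj, hva]
      rfl

/-- (c) all of them occur -/
theorem exists_X_rep [Finite G] {inp : Input p.lz} (hA : Adapted p inp) {π : Equiv.Perm (Fin 4)}
    (hπ : π ∈ V4) (e : ZMod 2) : ∃ f ∈ p.X, Rep inp f π (fun _ => TP e) := by
  classical
  have h1 : ∀ f : p.X, ∃ (x : V4 × ZMod 2), Rep inp (f : p.lz.V ≃ₗ[ZMod 2] p.lz.V) x.1 (fun _ => TP x.2) := by
    intro f
    obtain ⟨π, g, H⟩ := exists_rep inp (p.X_le_H f.2)
    obtain ⟨h2, e, h3⟩ := X_rep p hA f.2 H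
    rw [h3] at H
    exact ⟨(⟨π, h2⟩, e), H⟩
  choose F hF using h1
  have hinj : Function.Injective F := by
    intro f f' hff
    have h2 := hF f'
    rw [← hff] at h2
    exact Subtype.ext ((hF f).ext h2)
  have hsurj : Function.Surjective F := by
    have hb : Function.Bijective F := by
      rw [Nat.bijective_iff_injective_and_card]
      refine ⟨hinj, ?_⟩
      rw [(cards p inp).1, Nat.card_prod, Nat.card_eq_fintype_card, Nat.card_eq_fintype_card,
        Fintype.card_coe, card_V4]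
      rfl
    exact hb.2
  obtain ⟨f, hf⟩ := hsurj (⟨π, hπ⟩, e)
  have h2 := hF f
  rw [hf] at h2
  exact ⟨f, f.2, h2⟩

theorem X_iff_rep [Finite G] {inp : Input p.lz} (hA : Adapted p inp) (f : p.lz.V ≃ₗ[ZMod 2] p.lz.V) :
    f ∈ p.X ↔ ∃ π ∈ V4, ∃ e : ZMod 2, Rep inp f π (fun _ => TP e) := by
  constructor
  · intro hf
    obtain ⟨π, g, H⟩ := exists_rep inp (p.X_le_H hf)
    obtain ⟨h2, e, h3⟩ := X_rep p hA hf H
    rw [h3] at H
    exact ⟨π, h2, e, H⟩
  · rintro ⟨π, hπ, e, H⟩
    obtain ⟨f', hf', H'⟩ := exists_X_rep p hA hπ e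
    rw [H.ext H']
    exact hf'

/-- (c) in the form of helper754 -/
theorem X_iff [Finite G] {inp : Input p.lz} (hA : Adapted p inp) (f : p.lz.V ≃ₗ[ZMod 2] p.lz.V) :
    f ∈ p.X ↔ ∃ π ∈ V4, ∃ e : ZMod 2, ∀ k, f (inp.u k) = inp.u (π k) ∧
      f (inp.v k) = inp.v (π k) + e • inp.u (π k) := by
  rw [X_iff_rep p hA]
  have hu : ∀ k, inp.u k = psi inp (Pi.single k (1, 0)) := fun k => by
    apply phi_inj inp
    rw [phi_u, phi_psi]
  have hv : ∀ k, inp.v k = psi inp (Pi.single k (0, 1)) := fun k => by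
    apply phi_inj inp
    rw [phi_v, phi_psi]
  have hc : ∀ (e : ZMod 2) k, inp.v k + e • inp.u k = psi inp (Pi.single k (TP e (0, 1))) := by
    intro e k
    apply phi_inj inp
    rw [phi_add, phi_smul, phi_u, phi_v, phi_psi, ← Pi.single_smul, ← Pi.single_add]
    have key : ∀ e : ZMod 2, ((0, 1) : W) + e • (1, 0) = TP e (0, 1) := by decide
    rw [key]
  constructor
  · rintro ⟨π, hπ, e, H⟩
    refine ⟨π, hπ, e, fun k => ⟨?_, ?_⟩⟩
    · have key : ∀ e : ZMod 2, TP e (1, 0) = (1, 0) := by decide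
      rw [hu, hu, H.single, key]
    · rw [hc, hv, H.single]
  · rintro ⟨π, hπ, e, H⟩
    refine ⟨π, hπ, e, fun _ => lin_TP e, fun w k => ?_⟩
    conv_lhs => rw [← psi_phi inp w, psi, map_sum, phi_sum, Finset.sum_apply]
    rw [Finset.sum_eq_single k]
    · rw [map_add, map_smul, map_smul, (H k).1, (H k).2, phi_add, phi_smul, phi_smul, phi_add, phi_smul,
        phi_u, phi_v]
      simp only [Pi.add_apply, Pi.smul_apply, Pi.single_eq_same]
      have key : ∀ (x : W) (e : ZMod 2), x.1 • ((1, 0) : W) + x.2 • (((0, 1) : W) + e • (1, 0)) =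
        TP e x := by decide
      exact key _ _
    · intro j _ hj
      have hne : π k ≠ π j := fun h' => hj (π.injective h').symm
      rw [map_add, map_smul, map_smul, (H j).1, (H j).2, phi_add, phi_smul, phi_smul, phi_add, phi_smul,
        phi_u, phi_v]
      simp only [Pi.add_apply, Pi.smul_apply, Pi.single_eq_of_ne hne, smul_zero, add_zero]
    · intro hk
      exact absurd (Finset.mem_univ k) hk

/-! ### conjugacy of the elements of full support -/

theorem conj_full {h : Large Q z} (inp : Input h) {x y : G} (hx : x ∈ Q) (hy : y ∈ Q)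
    (hfx : ∀ k, phi inp (h.pr ⟨x, hx⟩) k ≠ 0) (hfy : ∀ k, phi inp (h.pr ⟨y, hy⟩) k ≠ 0) :
    ∃ c : Subgroup.centralizer ({z} : Set G), (∃ n, h.act c = xin inp n) ∧
      (c : G) * x * (c : G)⁻¹ = y := by
  obtain ⟨n, hn⟩ := exists_xin inp hfx hfy
  obtain ⟨c, hc⟩ := xin_mem inp n
  rw [← hc, h.act_pr, h.pr_eq_pr, h.conjQ_coe] at hn
  rcases hn with h1 | h1
  · exact ⟨c, ⟨n, hc⟩, h1⟩
  · have hy0 : h.pr ⟨y, hy⟩ ≠ 0 := by
      intro h2
      apply hfy 0
      rw [h2, phi_zero]
      rfl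
    have hy1 : y ≠ 1 := fun h2 => hy0 (h.pr_eq_zero.2 (Or.inl h2))
    have hyz : y ≠ z := fun h2 => hy0 (h.pr_eq_zero.2 (Or.inr h2))
    obtain ⟨r, hr, hry⟩ := exists_not_comm h hy hy1 hyz
    have hrC : r ∈ Subgroup.centralizer ({z} : Set G) :=
      Subgroup.mem_centralizer_singleton_iff.2 (h.comm_z r hr)
    refine ⟨⟨r, hrC⟩ * c, ⟨n, ?_⟩, ?_⟩
    · rw [map_mul, h.act_mem _ hr, one_mul, hc]
    · show r * (c : G) * x * (r * (c : G))⁻¹ = y
      have e1 : r * (c : G) * x * (r * (c : G))⁻¹ = r * ((c : G) * x * (c : G)⁻¹) * r⁻¹ := by group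
      have hzr : z * r = r * z := (h.comm_z r hr).symm
      rw [e1, h1]
      show r * (y * z) * r⁻¹ = y
      calc r * (y * z) * r⁻¹ = (r * y) * z * r⁻¹ := by group
        _ = y * r * (z * z) * r⁻¹ := by rw [hry]; group
        _ = y := by rw [h.z_sq]; group

/-- elements of full support are conjugate to `z` -/
theorem conj_of_full [Finite G] (inp : Input p.lz) {x : G} (hx : x ∈ Q)
    (hfx : ∀ k, phi inp (p.lz.pr ⟨x, hx⟩) k ≠ 0) : ∃ g : G, g * z * g⁻¹ = x := by
  obtain ⟨c, -, hc⟩ := conj_full inp p.a_mem hx (full_phi p inp) hfx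
  obtain ⟨g, hg, -⟩ := p.isConj
  refine ⟨c * g, ?_⟩
  rw [← hc, ← hg]
  group

/-- a fused element of `Q` other than `z` gives a pair -/
theorem exists_pair {h : Large Q z} {g x : G} (hx : x ∈ Q) (hg : g * z * g⁻¹ = x) (hne : x ≠ z) :
    Pair Q z (Q.map (MulAut.conj g).toMonoidHom) x := by
  subst hg
  exact pair_of_conj h hx hne

/-- fused elements of `Q` other than `z` have full support -/
theorem full_of_conj [Finite G] {h : Large Q z} (inp : Input h) {g x : G} (hx : x ∈ Q)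
    (hg : g * z * g⁻¹ = x) (hne : x ≠ z) (k : Fin 4) : phi inp (h.pr ⟨x, hx⟩) k ≠ 0 :=
  full_phi (exists_pair (h := h) hx hg hne) inp k

end Cfsg.Agent.TypeD4Three.Local
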