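import Cfsg.Agent.TypeD4Three.StarFrame

/-!
# S1763, case [P]: inner elements, edges, symmetry (first part of (*); helper948)
-/

set_option autoImplicit false

namespace Cfsg.Agent.TypeD4Three.StarEdge

open Cfsg.Agent.Co2Type.Quad Cfsg.Agent.LargeExtra.Base Cfsg.Agent.LargeExtra.Local
open Cfsg.Agent.TypeD4Three.StarModel Cfsg.Agent.TypeD4Three.StarFrame

variable {G : Type*} [Group G] {Q : Subgroup G} {z : G} {lz : Large Q z}

/-- The facts about `C1` used in (*). -/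
structure Hyp (F : Frame lz) : Prop where
  conj_of_wt4 : ∀ x : Q, (∀ k, F.φ (lz.pr x) k ≠ 0) → IsConj z (x : G)
  edge : ∀ {A : Subgroup G} {a : G}, Pair Q z A a → ∀ {u : G}, u * z = z * u → u * a = a * u →
    (u ∈ F.C1 ↔ ∃ x ∈ A, ∃ y ∈ Q, x * z = z * x ∧ y * a = a * y ∧ u = x * y)
  invol : ∀ {w : G}, w ∈ F.C1 → w * w = 1 → w ∉ Q → ∃ (A : Subgroup G) (a : G), Pair Q z A a ∧ w ∈ A

/-- `u` is inner at the conjugate `s` of `z` -/
def In (F : Frame lz) (s u : G) : Prop := ∃ g, g * z * g⁻¹ = s ∧ g⁻¹ * u * g ∈ F.C1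

variable {F : Frame lz}

theorem in_iff {g s u : G} (hg : g * z * g⁻¹ = s) : In F s u ↔ g⁻¹ * u * g ∈ F.C1 := by
  constructor
  · rintro ⟨g', hg', h⟩
    have hc : (g⁻¹ * g') * z = z * (g⁻¹ * g') := by
      have h1 : g' * z * g'⁻¹ = g * z * g⁻¹ := hg'.trans hg.symm
      calc g⁻¹ * g' * z = g⁻¹ * (g' * z * g'⁻¹) * g' := by group
        _ = g⁻¹ * (g * z * g⁻¹) * g' := by rw [h1]
        _ = z * (g⁻¹ * g') := by group
    have h2 := F.C1_conj h hc
    have e : g⁻¹ * g' * (g'⁻¹ * u * g') * (g⁻¹ * g')⁻¹ = g⁻¹ * u * g := by group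
    rwa [e] at h2
  · intro h
    exact ⟨g, hg, h⟩

theorem in_z {u : G} : In F z u ↔ u ∈ F.C1 := by
  have h : (1 : G) * z * 1⁻¹ = z := by group
  rw [in_iff h]
  have e : (1 : G)⁻¹ * u * 1 = u := by group
  rw [e]

theorem in_conj (k : G) {s u : G} (h : In F s u) : In F (k * s * k⁻¹) (k * u * k⁻¹) := by
  obtain ⟨g, hg, hu⟩ := h
  refine ⟨k * g, ?_, ?_⟩
  · rw [← hg]; group
  · have e : (k * g)⁻¹ * (k * u * k⁻¹) * (k * g) = g⁻¹ * u * g := by group
    rwa [e]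

theorem in_mul {s u v : G} (h : In F s u) (h' : In F s v) : In F s (u * v) := by
  obtain ⟨g, hg, hu⟩ := h
  rw [in_iff hg] at h'
  refine ⟨g, hg, ?_⟩
  have e : g⁻¹ * (u * v) * g = (g⁻¹ * u * g) * (g⁻¹ * v * g) := by group
  rw [e]
  exact mul_mem hu h'

theorem in_inv {s u : G} (h : In F s u) : In F s u⁻¹ := by
  obtain ⟨g, hg, hu⟩ := h
  refine ⟨g, hg, ?_⟩
  have e : g⁻¹ * u⁻¹ * g = (g⁻¹ * u * g)⁻¹ := by group
  rw [e]
  exact inv_mem hu

theorem in_conj_mem {s u c : G} (h : In F s u) (hc : c * s = s * c) : In F s (c * u * c⁻¹) := by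
  have h1 := in_conj c h
  have e : c * s * c⁻¹ = s := by rw [hc]; group
  rwa [e] at h1

/-- the edge lemma at `z` -/
theorem edge_in (H : Hyp F) {A : Subgroup G} {a : G} (p : Pair Q z A a) {u : G}
    (h1 : u * z = z * u) (h2 : u * a = a * u) : In F z u ↔ In F a u := by
  obtain ⟨g, g1, g2, g3, g4⟩ := p.isConj
  have e1 : g⁻¹ * z * g = a := by rw [← g2]; group
  have e2 : g⁻¹ * a * g = z := by rw [← g1]; group
  have hA : ∀ x ∈ A, g⁻¹ * x * g ∈ Q := by
    intro x hx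
    rw [g3] at hx
    obtain ⟨y, hy, rfl⟩ := hx
    have : g⁻¹ * (MulAut.conj g).toMonoidHom y * g = y := by
      show g⁻¹ * (g * y * g⁻¹) * g = y
      group
    rwa [this]
  have hQ : ∀ x ∈ Q, g⁻¹ * x * g ∈ A := by
    intro x hx
    rw [g4] at hx
    obtain ⟨y, hy, rfl⟩ := hx
    have : g⁻¹ * (MulAut.conj g).toMonoidHom y * g = y := by
      show g⁻¹ * (g * y * g⁻¹) * g = y
      group
    rwa [this]
  have hA' : ∀ x ∈ A, g * x * g⁻¹ ∈ Q := by
    intro x hx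
    rw [g4]
    exact ⟨x, hx, rfl⟩
  have hQ' : ∀ x ∈ Q, g * x * g⁻¹ ∈ A := by
    intro x hx
    rw [g3]
    exact ⟨x, hx, rfl⟩
  have hcz : (g⁻¹ * u * g) * z = z * (g⁻¹ * u * g) := by
    calc g⁻¹ * u * g * z = g⁻¹ * u * (g * z * g⁻¹) * g := by group
      _ = g⁻¹ * (u * a) * g := by rw [g1]; group
      _ = g⁻¹ * (a * u) * g := by rw [h2]
      _ = (g⁻¹ * a * g) * (g⁻¹ * u * g) := by group
      _ = z * (g⁻¹ * u * g) := by rw [e2]
  have hca : (g⁻¹ * u * g) * a = a * (g⁻¹ * u * g) := by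
    calc g⁻¹ * u * g * a = g⁻¹ * u * (g * a * g⁻¹) * g := by group
      _ = g⁻¹ * (u * z) * g := by rw [g2]; group
      _ = g⁻¹ * (z * u) * g := by rw [h1]
      _ = (g⁻¹ * z * g) * (g⁻¹ * u * g) := by group
      _ = a * (g⁻¹ * u * g) := by rw [e1]
  rw [in_z, in_iff g1, H.edge p h1 h2, H.edge p hcz hca]
  -- the exchange `x' y' = y' (y'⁻¹ x' y')`
  have ex : ∀ {x' y' w : G}, x' ∈ Q → y' ∈ A → x' * a = a * x' → y' * z = z * y' → w = x' * y' →
      ∃ x ∈ A, ∃ y ∈ Q, x * z = z * x ∧ y * a = a * y ∧ w = x * y := by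
    intro x' y' w hx hy hxa hyz hw
    have hyz' : y'⁻¹ * z = z * y'⁻¹ := by
      calc y'⁻¹ * z = y'⁻¹ * (z * y') * y'⁻¹ := by group
        _ = y'⁻¹ * (y' * z) * y'⁻¹ := by rw [hyz]
        _ = z * y'⁻¹ := by group
    have hya : y' * a = a * y' := p.la.comm_z y' hy
    have hm := p.lz.conj_mem y'⁻¹ hyz' x' hx
    rw [inv_inv] at hm
    refine ⟨y', hy, y'⁻¹ * x' * y', hm, hyz, ?_, by rw [hw]; group⟩
    calc y'⁻¹ * x' * y' * a = y'⁻¹ * x' * (y' * a) := by group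
      _ = y'⁻¹ * (x' * a) * y' := by rw [hya]; group
      _ = y'⁻¹ * (a * x') * y' := by rw [hxa]
      _ = y'⁻¹ * (a * y') * (y'⁻¹ * x' * y') := by group
      _ = y'⁻¹ * (y' * a) * (y'⁻¹ * x' * y') := by rw [hya]
      _ = a * (y'⁻¹ * x' * y') := by group
  constructor
  · rintro ⟨x, hx, y, hy, hxz, hya, hu⟩
    refine ex (hA x hx) (hQ y hy) ?_ ?_ (w := g⁻¹ * u * g) (by rw [hu]; group)
    · calc g⁻¹ * x * g * a = g⁻¹ * x * g * (g⁻¹ * z * g) := by rw [e1]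
        _ = g⁻¹ * (x * z) * g := by group
        _ = g⁻¹ * (z * x) * g := by rw [hxz]
        _ = (g⁻¹ * z * g) * (g⁻¹ * x * g) := by group
        _ = a * (g⁻¹ * x * g) := by rw [e1]
    · calc g⁻¹ * y * g * z = g⁻¹ * y * g * (g⁻¹ * a * g) := by rw [e2]
        _ = g⁻¹ * (y * a) * g := by group
        _ = g⁻¹ * (a * y) * g := by rw [hya]
        _ = (g⁻¹ * a * g) * (g⁻¹ * y * g) := by group
        _ = z * (g⁻¹ * y * g) := by rw [e2]
  · rintro ⟨x, hx, y, hy, hxz, hya, hu⟩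
    refine ex (hA' x hx) (hQ' y hy) ?_ ?_ (w := u) ?_
    · calc g * x * g⁻¹ * a = g * x * g⁻¹ * (g * z * g⁻¹) := by rw [g1]
        _ = g * (x * z) * g⁻¹ := by group
        _ = g * (z * x) * g⁻¹ := by rw [hxz]
        _ = (g * z * g⁻¹) * (g * x * g⁻¹) := by group
        _ = a * (g * x * g⁻¹) := by rw [g1]
    · calc g * y * g⁻¹ * z = g * y * g⁻¹ * (g * a * g⁻¹) := by rw [g2]
        _ = g * (y * a) * g⁻¹ := by group
        _ = g * (a * y) * g⁻¹ := by rw [hya]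
        _ = (g * a * g⁻¹) * (g * y * g⁻¹) := by group
        _ = z * (g * y * g⁻¹) := by rw [g2]
    · calc u = g * (g⁻¹ * u * g) * g⁻¹ := by group
        _ = g * (x * y) * g⁻¹ := by rw [hu]
        _ = g * x * g⁻¹ * (g * y * g⁻¹) := by group

/-- the general edge lemma -/
theorem edge_in' (H : Hyp F) {A : Subgroup G} {a k : G} (p : Pair Q z A a) {u : G}
    (h1 : u * (k * z * k⁻¹) = k * z * k⁻¹ * u) (h2 : u * (k * a * k⁻¹) = k * a * k⁻¹ * u) :
    In F (k * z * k⁻¹) u ↔ In F (k * a * k⁻¹) u := by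
  have h1' : (k⁻¹ * u * k) * z = z * (k⁻¹ * u * k) := by
    calc k⁻¹ * u * k * z = k⁻¹ * (u * (k * z * k⁻¹)) * k := by group
      _ = k⁻¹ * (k * z * k⁻¹ * u) * k := by rw [h1]
      _ = z * (k⁻¹ * u * k) := by group
  have h2' : (k⁻¹ * u * k) * a = a * (k⁻¹ * u * k) := by
    calc k⁻¹ * u * k * a = k⁻¹ * (u * (k * a * k⁻¹)) * k := by group
      _ = k⁻¹ * (k * a * k⁻¹ * u) * k := by rw [h2]
      _ = a * (k⁻¹ * u * k) := by group
  have h3 := edge_in H p h1' h2'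
  have key : ∀ s, In F (k * s * k⁻¹) u ↔ In F s (k⁻¹ * u * k) := by
    intro s
    constructor
    · intro h
      have := in_conj k⁻¹ h
      have e1 : k⁻¹ * (k * s * k⁻¹) * k⁻¹⁻¹ = s := by group
      have e2 : k⁻¹ * u * k⁻¹⁻¹ = k⁻¹ * u * k := by group
      rwa [e1, e2] at this
    · intro h
      have := in_conj k h
      have e2 : k * (k⁻¹ * u * k) * k⁻¹ = u := by group
      rwa [e2] at this
  rw [key, key, h3]

/-- a conjugate of `z` inside `Q` -/
theorem exists_pair {a : G} (lz : Large Q z) (ha : IsConj z a) (haQ : a ∈ Q) (hne : a ≠ z) :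
    ∃ A, Pair Q z A a := by
  obtain ⟨g, hg⟩ := isConj_iff.1 ha
  refine ⟨Q.map (MulAut.conj g).toMonoidHom, ?_⟩
  have := pair_of_conj lz (g := g) (by rw [hg]; exact haQ) (by rw [hg]; exact hne)
  rwa [hg] at this

theorem sq_of_isConj (lz : Large Q z) {a : G} (ha : IsConj z a) : a * a = 1 := by
  obtain ⟨g, hg⟩ := isConj_iff.1 ha
  rw [← hg]
  calc g * z * g⁻¹ * (g * z * g⁻¹) = g * (z * z) * g⁻¹ := by group
    _ = 1 := by rw [lz.z_sq]; group

/-- (P2) -/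
theorem in_of_mem (H : Hyp F) {s : G} (hs : IsConj z s) (h : s ∈ F.C1) : In F s z := by
  have hzz : In F z z := in_z.2 (F.Q_le_C1 lz.z_mem)
  have hsz : s * z = z * s := F.C1_comm h
  by_cases h1 : s = z
  · rw [h1]; exact hzz
  by_cases h2 : s ∈ Q
  · obtain ⟨A, p⟩ := exists_pair lz hs h2 h1
    exact (edge_in H p rfl hsz.symm).1 hzz
  · obtain ⟨A, a, p, hA⟩ := H.invol h (sq_of_isConj lz hs) h2
    have h3 : In F a z := (edge_in H p rfl p.comm_za.symm).1 hzz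
    -- the edge `a - s`
    obtain ⟨k, k1, k2, k3, k4⟩ := p.isConj
    have hs' : k⁻¹ * s * k ∈ Q := by
      rw [k3] at hA
      obtain ⟨y, hy, rfl⟩ := hA
      have : k⁻¹ * (MulAut.conj k).toMonoidHom y * k = y := by
        show k⁻¹ * (k * y * k⁻¹) * k = y
        group
      rwa [this]
    have hc : IsConj z (k⁻¹ * s * k) := by
      obtain ⟨g, hg⟩ := isConj_iff.1 hs
      refine isConj_iff.2 ⟨k⁻¹ * g, ?_⟩
      rw [← hg]; group
    have hne : k⁻¹ * s * k ≠ z := by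
      intro h'
      apply h2
      have : s = a := by
        rw [← k1, ← h']; group
      rw [this]; exact p.a_mem
    obtain ⟨B, q⟩ := exists_pair lz hc hs' hne
    have e : k * (k⁻¹ * s * k) * k⁻¹ = s := by group
    have h4 := edge_in' H (k := k) q (u := z) (by rw [k1]; exact p.comm_za.symm)
      (by rw [e]; exact hsz.symm)
    rw [k1, e] at h4
    exact h4.1 h3

/-- the relation "inner" is symmetric on commuting conjugates of `z` -/
theorem in_symm (H : Hyp F) {s t : G} (hs : IsConj z s) (h : In F t s) : In F s t := by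
  obtain ⟨g, hg, hu⟩ := h
  have h1 : IsConj z (g⁻¹ * s * g) := by
    obtain ⟨k, hk⟩ := isConj_iff.1 hs
    refine isConj_iff.2 ⟨g⁻¹ * k, ?_⟩
    rw [← hk]; group
  have h2 := in_conj g (in_of_mem H h1 hu)
  have e : g * (g⁻¹ * s * g) * g⁻¹ = s := by group
  rwa [e, hg] at h2

/-- (P3) -/
theorem not_in_z (H : Hyp F) {t : G} (htC : t ∉ F.C1) : ¬ In F t z := by
  intro h
  exact htC (in_z.1 (in_symm H (IsConj.refl z) h))

theorem not_in_wt4 (H : Hyp F) {t : G} (htz : t * z = z * t) (htC : t ∉ F.C1) {c : Q}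
    (hc : (c : G) * t = t * c) (hw : ∀ k, F.φ (lz.pr c) k ≠ 0) : ¬ In F t c := by
  intro h
  have h1 := H.conj_of_wt4 c hw
  have h2 := in_symm H h1 h
  have hne : (c : G) ≠ z := by
    intro h'
    apply hw 0
    rw [lz.pr_eq_zero.2 (Or.inr h'), map_zero]
    rfl
  obtain ⟨A, p⟩ := exists_pair lz h1 c.2 hne
  exact htC (in_z.1 ((edge_in H p htz hc.symm).2 h2))

end Cfsg.Agent.TypeD4Three.StarEdge
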