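import Cfsg.Agent.TypeD4Three.Local
import Cfsg.Agent.TypeD4Three.StarEdge
import Cfsg.Agent.LargeExtra.KillNine.PairConj

/-!
# S1763, case [P] : the input of helper948's (*) (helper951)

`frame hA : StarFrame.Frame p.lz` and `hyp hA : StarEdge.Hyp (frame hA)`; `inner_invol` : an involution of
`C1 - Q` is in `z^G` or its product with `z` is.
-/

set_option autoImplicit false

namespace Cfsg.Agent.TypeD4Three.LocalStar

open Cfsg.Agent.Co2Type.Quad Cfsg.Agent.TypeD4Three.Coords Cfsg.Agent.LargeExtra.Base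
open Cfsg.Agent.TypeD4Three.Local Cfsg.Agent.LargeExtra.KillNine

variable {G : Type*} [Group G] {Q A : Subgroup G} {z a : G} (p : Pair Q z A a)
variable {f f' : p.lz.V ≃ₗ[ZMod 2] p.lz.V} {π π' : Equiv.Perm (Fin 4)} {g g' : Fin 4 → Equiv.Perm W}

theorem phi_sum_v (inp : Input p.lz) : phi inp (∑ k, inp.v k) = fun _ => (0, 1) := by
  have h1 := phi_comb p inp (fun _ => 0) 1
  simpa using h1

theorem sum_v_mem {inp : Input p.lz} (hA : Adapted p inp) : ∑ k, inp.v k ∈ p.D := by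
  rw [hA.D, phi_sum_v p inp]
  exact ⟨fun _ => rfl, by decide⟩

theorem sign_RP_pow (n : ℕ) : Equiv.Perm.sign (RP ^ n) = 1 := by
  rw [map_pow, sign_RP, one_pow]

theorem sign_of : ∀ g : Equiv.Perm W, Lin g → g (1, 0) = (1, 0) →
    Equiv.Perm.sign g = if (g (0, 1)).1 = 0 then 1 else -1 := by decide +kernel

theorem prod_of : ∀ x : Fin 4 → ZMod 2, ∑ k, x k = 0 → ∏ k, (if x k = 0 then (1 : ℤˣ) else -1) = 1 := by
  decide +kernel

/-- the orientation is preserved -/
theorem even_rep {inp : Input p.lz} (hA : Adapted p inp) (hf : f ∈ p.H) (H : Rep inp f π g) :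
    ∏ k, Equiv.Perm.sign (g k) = 1 := by
  have hva : ∀ k, phi inp p.va k = (1, 0) := fun k => by rw [hA.va]
  have hfull : ∀ k, phi inp (f p.va) k ≠ 0 := by
    intro k
    obtain ⟨j, rfl⟩ := π.surjective k
    rw [H.2, hva]
    exact (H.1 j).ne (by decide)
  obtain ⟨n, hn⟩ := exists_xin inp hfull (fun k => by rw [hva]; decide : ∀ k, phi inp p.va k ≠ 0)
  have heH : xin inp n * f ∈ p.H := mul_mem (xin_mem inp n) hf
  have hev : (xin inp n * f) p.va = p.va := hn
  have hD := p.D_inv heH hev (sum_v_mem p hA)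
  have hR := (rep_xin inp n).mul H
  rw [hA.D] at hD
  have h10 : ∀ k, (RP ^ n (π k) * g k) (1, 0) = (1, 0) := by
    intro k
    have h1 := hR.2 p.va k
    rw [hev, hva, hva] at h1
    exact h1.symm
  have h01 : ∀ k, phi inp ((xin inp n * f) (∑ k, inp.v k)) (π k) = (RP ^ n (π k) * g k) (0, 1) := by
    intro k
    have h1 := hR.2 (∑ k, inp.v k) k
    rw [phi_sum_v p inp] at h1
    exact h1
  have h2 : ∑ k, ((RP ^ n (π k) * g k) (0, 1)).1 = 0 := by
    have h5 := hD.2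
    rw [← Equiv.sum_comp π] at h5
    refine Eq.trans ?_ h5
    exact Finset.sum_congr rfl fun k _ => by rw [h01]
  have h3 : ∀ k, Equiv.Perm.sign (g k) = if ((RP ^ n (π k) * g k) (0, 1)).1 = 0 then 1 else -1 := by
    intro k
    have h4 := sign_of (RP ^ n (π k) * g k) (hR.1 k) (h10 k)
    rw [Equiv.Perm.sign_mul, sign_RP_pow, one_mul] at h4
    exact h4
  rw [Finset.prod_congr rfl fun k _ => h3 k]
  exact prod_of _ h2

theorem exists_rep_act (inp : Input p.lz) (c : Subgroup.centralizer ({z} : Set G)) :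
    ∃ π g, Rep inp (p.lz.act c) π g := exists_rep inp ⟨c, rfl⟩

/-- the frame of helper948 -/
noncomputable def frame {inp : Input p.lz} (hA : Adapted p inp) : StarFrame.Frame p.lz where
  φ := phiE inp
  hb := b_eq inp
  π c := (exists_rep_act p inp c).choose
  g c := (exists_rep_act p inp c).choose_spec.choose
  gadd c := (exists_rep_act p inp c).choose_spec.choose_spec.1
  hact c := (exists_rep_act p inp c).choose_spec.choose_spec.2
  even c := even_rep p hA ⟨c, rfl⟩ (exists_rep_act p inp c).choose_spec.choose_spec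

theorem rep_frame {inp : Input p.lz} (hA : Adapted p inp) (c : Subgroup.centralizer ({z} : Set G)) :
    Rep inp (p.lz.act c) ((frame p hA).π c) ((frame p hA).g c) :=
  (exists_rep_act p inp c).choose_spec.choose_spec

theorem V4_iff : ∀ π : Equiv.Perm (Fin 4), π ∈ V4 ↔ StarModel.isV π := by decide +kernel

theorem eq_TP_of : ∀ g : Equiv.Perm W, Lin g → g (1, 0) = (1, 0) →
    g = if Equiv.Perm.sign g = 1 then TP 0 else TP 1 := by decide +kernel

theorem sign_TP : ∀ e : ZMod 2, Equiv.Perm.sign (TP e) = if e = 0 then 1 else -1 := by decide +kernel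

/-- the elements of `X` -/
theorem mem_X_iff' [Finite G] {inp : Input p.lz} (hA : Adapted p inp) (f : p.lz.V ≃ₗ[ZMod 2] p.lz.V) :
    f ∈ p.X ↔ ∃ π g, Rep inp f π g ∧ StarModel.isV π ∧
      (∀ k l, Equiv.Perm.sign (g k) = Equiv.Perm.sign (g l)) ∧ f p.va = p.va := by
  rw [X_iff_rep p hA]
  constructor
  · rintro ⟨π, hπ, e, H⟩
    refine ⟨π, _, H, (V4_iff π).1 hπ, fun _ _ => rfl, ?_⟩
    apply phi_inj inp
    funext k
    obtain ⟨j, rfl⟩ := π.surjective k
    rw [H.2, hA.va]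
    have key : ∀ e, TP e (1, 0) = (1, 0) := by decide
    exact key e
  · rintro ⟨π, g, H, hπ, hs, hv⟩
    have h10 : ∀ k, g k (1, 0) = (1, 0) := by
      intro k
      have h1 := H.2 p.va k
      rw [hv, hA.va] at h1
      exact h1.symm
    refine ⟨π, (V4_iff π).2 hπ, if Equiv.Perm.sign (g 0) = 1 then 0 else 1, ?_⟩
    have hg : g = fun _ => TP (if Equiv.Perm.sign (g 0) = 1 then 0 else 1) := by
      funext k
      rw [eq_TP_of (g k) (H.1 k) (h10 k), hs k 0]
      split_ifs <;> rfl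
    rwa [← hg]

/-- the elements of `X` for any pair -/
theorem mem_X_iff [Finite G] {inp : Input p.lz} (hA : Adapted p inp) {A' : Subgroup G} {a' : G}
    (p' : Pair Q z A' a') (f : p.lz.V ≃ₗ[ZMod 2] p.lz.V) :
    f ∈ p'.X ↔ ∃ π g, Rep inp f π g ∧ StarModel.isV π ∧
      (∀ k l, Equiv.Perm.sign (g k) = Equiv.Perm.sign (g l)) ∧ f p'.va = p'.va := by
  obtain ⟨n, hn⟩ := exists_xin inp (full_phi p inp) (full_phi p' inp)
  have hx : f ∈ p'.X ↔ (xin inp n)⁻¹ * f * xin inp n ∈ p.X := by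
    constructor
    · intro hf
      have h1 := PairConj.mem_X_of_orbit p' p (inv_mem (xin_mem inp n)) (by
        rw [← hn]; exact ((xin inp n).symm_apply_apply _).symm) hf
      rwa [inv_inv] at h1
    · intro hf
      have h1 := PairConj.mem_X_of_orbit p p' (xin_mem inp n) hn.symm hf
      have e : xin inp n * ((xin inp n)⁻¹ * f * xin inp n) * (xin inp n)⁻¹ = f := by group
      rwa [e] at h1
  rw [hx, mem_X_iff' p hA]
  have hR := rep_xin inp n
  have hsg : ∀ (π : Equiv.Perm (Fin 4)) (g : Fin 4 → Equiv.Perm W), (∀ k l,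
      Equiv.Perm.sign (g k) = Equiv.Perm.sign (g l)) → ∀ (m m' : Fin 4 → ℕ) (k l : Fin 4),
      Equiv.Perm.sign ((RP ^ m k)⁻¹ * g k * RP ^ m' k) = Equiv.Perm.sign ((RP ^ m l)⁻¹ * g l * RP ^ m' l) := by
    intro π g hg m m' k l
    rw [Equiv.Perm.sign_mul, Equiv.Perm.sign_mul, Equiv.Perm.sign_mul, Equiv.Perm.sign_mul,
      Equiv.Perm.sign_inv, Equiv.Perm.sign_inv, sign_RP_pow, sign_RP_pow, sign_RP_pow, sign_RP_pow, hg k l]
  constructor
  · rintro ⟨π, g, H, hπ, hs, hv⟩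
    have h1 := (hR.mul H).mul hR.inv
    have e : xin inp n * ((xin inp n)⁻¹ * f * xin inp n) * (xin inp n)⁻¹ = f := by group
    rw [e] at h1
    refine ⟨_, _, h1, ?_, ?_, ?_⟩
    · have e2 : 1 * π * (1 : Equiv.Perm (Fin 4))⁻¹ = π := by group
      rw [e2]; exact hπ
    · intro k l
      show Equiv.Perm.sign (RP ^ n (π k) * g k * (RP ^ n k)⁻¹) =
        Equiv.Perm.sign (RP ^ n (π l) * g l * (RP ^ n l)⁻¹)
      rw [Equiv.Perm.sign_mul, Equiv.Perm.sign_mul, Equiv.Perm.sign_mul, Equiv.Perm.sign_mul,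
        Equiv.Perm.sign_inv, Equiv.Perm.sign_inv, sign_RP_pow, sign_RP_pow, sign_RP_pow, sign_RP_pow, hs k l]
    · have h2 : xin inp n (((xin inp n)⁻¹ * f * xin inp n) p.va) = xin inp n p.va := by rw [hv]
      rw [hn] at h2
      have h3 : xin inp n (((xin inp n)⁻¹ * f * xin inp n) p.va) = f (xin inp n p.va) :=
        (xin inp n).apply_symm_apply _
      rw [h3, hn] at h2
      exact h2
  · rintro ⟨π, g, H, hπ, hs, hv⟩
    have h1 := (hR.inv.mul H).mul hR
    refine ⟨_, _, h1, ?_, ?_, ?_⟩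
    · have e2 : (1 : Equiv.Perm (Fin 4))⁻¹ * π * 1 = π := by group
      rw [e2]; exact hπ
    · intro k l
      show Equiv.Perm.sign ((RP ^ n (π k))⁻¹ * g k * RP ^ n k) =
        Equiv.Perm.sign ((RP ^ n (π l))⁻¹ * g l * RP ^ n l)
      rw [Equiv.Perm.sign_mul, Equiv.Perm.sign_mul, Equiv.Perm.sign_mul, Equiv.Perm.sign_mul,
        Equiv.Perm.sign_inv, Equiv.Perm.sign_inv, sign_RP_pow, sign_RP_pow, sign_RP_pow, sign_RP_pow, hs k l]
    · show (xin inp n)⁻¹ (f (xin inp n p.va)) = p.va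
      rw [hn, hv, ← hn]
      exact (xin inp n).symm_apply_apply _

/-- `C1` in terms of representations -/
theorem mem_C1_iff {inp : Input p.lz} (hA : Adapted p inp) {u : G} (hu : u ∈ Subgroup.centralizer ({z} : Set G)) :
    u ∈ (frame p hA).C1 ↔ ∃ π g, Rep inp (p.lz.act ⟨u, hu⟩) π g ∧ StarModel.isV π ∧
      (∀ k l, Equiv.Perm.sign (g k) = Equiv.Perm.sign (g l)) := by
  rw [StarFrame.Frame.mem_C1]
  constructor
  · rintro ⟨h, h1, h2⟩
    exact ⟨_, _, rep_frame p hA ⟨u, h⟩, h1, h2⟩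
  · rintro ⟨π, g, H, h1, h2⟩
    obtain ⟨e1, e2⟩ := (rep_frame p hA ⟨u, hu⟩).unique H
    refine ⟨hu, ?_, ?_⟩
    · rw [e1]; exact h1
    · intro k l
      show Equiv.Perm.sign ((frame p hA).g ⟨u, hu⟩ k) = Equiv.Perm.sign ((frame p hA).g ⟨u, hu⟩ l)
      rw [e2]
      exact h2 k l

/-- (F2) -/
theorem edge [Finite G] {inp : Input p.lz} (hA : Adapted p inp) {A' : Subgroup G} {a' : G}
    (p' : Pair Q z A' a') {u : G} (huz : u * z = z * u) (hua : u * a' = a' * u) :
    u ∈ (frame p hA).C1 ↔ ∃ x ∈ A', ∃ y ∈ Q, x * z = z * x ∧ y * a' = a' * y ∧ u = x * y := by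
  have huC : u ∈ Subgroup.centralizer ({z} : Set G) := Subgroup.mem_centralizer_singleton_iff.2 huz
  have hva : p.lz.act ⟨u, huC⟩ p'.va = p'.va := by
    show p.lz.act ⟨u, huC⟩ (p.lz.pr ⟨a', p'.a_mem⟩) = p.lz.pr ⟨a', p'.a_mem⟩
    rw [p.lz.act_pr]
    congr 1
    apply Subtype.ext
    show u * a' * u⁻¹ = a'
    rw [hua, mul_inv_cancel_right]
  rw [mem_C1_iff p hA huC]
  constructor
  · rintro ⟨π, g, H, h1, h2⟩
    have hX : p.lz.act ⟨u, huC⟩ ∈ p'.X := (mem_X_iff p hA p' _).2 ⟨π, g, H, h1, h2, hva⟩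
    obtain ⟨x, hx, hxu⟩ := p'.mem_X.1 hX
    have h3 : (x⁻¹ * ⟨u, huC⟩ : Subgroup.centralizer ({z} : Set G)) ∈ p.lz.act.ker := by
      rw [MonoidHom.mem_ker, map_mul, map_inv]
      have hxu' : p.lz.act x = p.lz.act ⟨u, huC⟩ := hxu
      rw [hxu', inv_mul_cancel]
    have h4 : (x : G)⁻¹ * u ∈ Q := p.lz.mem_of_act _ h3
    refine ⟨x, hx, _, h4, Subgroup.mem_centralizer_singleton_iff.1 x.2, ?_, ?_⟩
    · have hxa : (x : G)⁻¹ * a' = a' * (x : G)⁻¹ := (p'.la.commz hx).inv_left.eq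
      rw [mul_assoc, hua, ← mul_assoc, hxa, mul_assoc]
    · group
  · rintro ⟨x, hx, y, hy, hxz, -, rfl⟩
    have hxC : x ∈ Subgroup.centralizer ({z} : Set G) := Subgroup.mem_centralizer_singleton_iff.2 hxz
    have hyC : y ∈ Subgroup.centralizer ({z} : Set G) :=
      Subgroup.mem_centralizer_singleton_iff.2 (p.lz.comm_z y hy)
    have e : (⟨x * y, huC⟩ : Subgroup.centralizer ({z} : Set G)) = ⟨x, hxC⟩ * ⟨y, hyC⟩ := rfl
    have h1 : p.lz.act ⟨x * y, huC⟩ = p.lz.act ⟨x, hxC⟩ := by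
      rw [e, map_mul, p.lz.act_mem ⟨y, hyC⟩ hy, mul_one]
    rw [h1]
    have hX : p.lz.act ⟨x, hxC⟩ ∈ p'.X := p'.mem_X.2 ⟨⟨x, hxC⟩, hx, rfl⟩
    obtain ⟨π, g, H, h2, h3, -⟩ := (mem_X_iff p hA p' _).1 hX
    exact ⟨π, g, H, h2, h3⟩

/-- an involution of `N` fixes a vector of full support -/
theorem exists_fixed {inp : Input p.lz} (H : Rep inp f π g) (hπ : StarModel.isV π)
    (hs : ∀ k l, Equiv.Perm.sign (g k) = Equiv.Perm.sign (g l)) (hff : f * f = 1) (hf1 : f ≠ 1) :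
    ∃ w, f w = w ∧ ∀ k, phi inp w k ≠ 0 := by
  have h2 := (H.mul H)
  rw [hff] at h2
  obtain ⟨e1, e2⟩ := h2.unique rep_one
  have hgg : ∀ k, g (π k) * g k = 1 := fun k => congrFun e2 k
  have hpp : ∀ k, π (π k) = k := fun k => congrFun (congrArg DFunLike.coe e1) k
  obtain ⟨c, hc, hgc⟩ : ∃ c : Fin 4 → W, (∀ k, c k ≠ 0) ∧ ∀ k, g k (c k) = c (π k) := by
    by_cases hp : π = 1
    · subst hp
      rcases sign_cases (g 0) with h0 | h0
      · exfalso
        apply hf1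
        have hg : g = 1 := by
          funext k
          exact w5 _ (H.1 k) (by rw [hs k 0, h0]) (hgg k)
        rw [hg] at H
        exact H.ext rep_one
      · choose c hc hc' using fun k => w4 (g k) (H.1 k) (by rw [hs k 0, h0])
        exact ⟨c, hc, hc'⟩
    · have hfp : ∀ k, π k ≠ k := by
        rcases hπ.2 with h3 | h3
        · exact absurd h3 hp
        · exact h3
      refine ⟨fun k => if k < π k then (1, 0) else g (π k) (1, 0), fun k => ?_, fun k => ?_⟩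
      · show (if k < π k then ((1, 0) : W) else g (π k) (1, 0)) ≠ 0
        split_ifs
        · decide
        · exact (H.1 _).ne (by decide)
      · show g k (if k < π k then ((1, 0) : W) else g (π k) (1, 0)) =
          if π k < π (π k) then ((1, 0) : W) else g (π (π k)) (1, 0)
        rw [hpp]
        by_cases hk : k < π k
        · rw [if_pos hk, if_neg (not_lt.2 hk.le)]
        · have hk' : π k < k := lt_of_le_of_ne (not_lt.1 hk) (hfp k)
          rw [if_neg hk, if_pos hk']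
          have h4 := hgg (π k)
          rw [hpp] at h4
          exact congrFun (congrArg DFunLike.coe h4) (1, 0)
  refine ⟨psi inp c, ?_, fun k => by rw [phi_psi]; exact hc k⟩
  apply phi_inj inp
  funext k
  obtain ⟨j, rfl⟩ := π.surjective k
  rw [H.2, phi_psi, hgc]

/-- `V` is free under every nontrivial element of `X` -/
theorem free {inp : Input p.lz} {e : ZMod 2} (H : Rep inp f π (fun _ => TP e)) (hπ : StarModel.isV π)
    (hf1 : f ≠ 1) {w : p.lz.V} (hw : f w = w) : ∃ r, w = f r + r := by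
  have hpp : ∀ k, π (π k) = k := fun k => congrFun (congrArg DFunLike.coe hπ.1) k
  have hfix : ∀ k, TP e (phi inp w k) = phi inp w (π k) := by
    intro k
    rw [← H.2 w k, hw]
  by_cases hp : π = 1
  · subst hp
    have he : e = 1 := by
      by_contra he
      have h0 : e = 0 := by
        have : ∀ x : ZMod 2, x ≠ 1 → x = 0 := by decide
        exact this e he
      subst h0
      apply hf1
      have : (fun _ => TP 0 : Fin 4 → Equiv.Perm W) = 1 := by
        funext k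
        show TP 0 = 1
        decide
      rw [this] at H
      exact H.ext rep_one
    subst he
    refine ⟨psi inp (fun k => (0, (phi inp w k).1)), ?_⟩
    apply phi_inj inp
    funext k
    have h1 := H.2 (psi inp (fun k => (0, (phi inp w k).1))) k
    rw [phi_add, Pi.add_apply]
    rw [phi_psi] at h1
    have h2 : phi inp (f (psi inp fun k => (0, (phi inp w k).1))) k = TP 1 (0, (phi inp w k).1) := h1
    rw [h2, phi_psi]
    have h3 : TP 1 (phi inp w k) = phi inp w k := hfix k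
    have key : ∀ x : W, TP 1 x = x → x = TP 1 (0, x.1) + (0, x.1) := by decide
    exact key _ h3
  · have hfp : ∀ k, π k ≠ k := by
      rcases hπ.2 with h3 | h3
      · exact absurd h3 hp
      · exact h3
    refine ⟨psi inp (fun k => if k < π k then phi inp w k else 0), ?_⟩
    apply phi_inj inp
    funext k
    rw [phi_add, Pi.add_apply, phi_psi]
    have h1 := H.2 (psi inp (fun k => if k < π k then phi inp w k else 0)) (π k)
    rw [hpp, phi_psi] at h1
    rw [h1]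
    show phi inp w k = TP e (if π k < π (π k) then phi inp w (π k) else 0) +
      if k < π k then phi inp w k else 0
    rw [hpp]
    by_cases hk : k < π k
    · rw [if_neg (not_lt.2 hk.le), if_pos hk]
      have : TP e 0 = 0 := (lin_TP e).zero
      rw [this, zero_add]
    · have hk' : π k < k := lt_of_le_of_ne (not_lt.1 hk) (hfp k)
      rw [if_pos hk', if_neg hk, add_zero, hfix, hpp]

/-- a nontrivial element of `X` moves an element of `D̃` -/
theorem exists_moved {inp : Input p.lz} (hA : Adapted p inp) {e : ZMod 2}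
    (H : Rep inp f π (fun _ => TP e)) (hf1 : f ≠ 1) : ∃ d ∈ p.D, f d ≠ d := by
  by_contra hcon
  push Not at hcon
  apply hf1
  have he : e = 0 := by
    have h1 := H.2 (∑ k, inp.v k) 0
    rw [hcon _ (sum_v_mem p hA), phi_sum_v p inp] at h1
    have key : ∀ e : ZMod 2, ((0, 1) : W) = TP e (0, 1) → e = 0 := by decide
    exact key e h1
  have hp : π = 1 := by
    have h10' : ∀ e, TP e (1, 0) = (1, 0) := by decide
    have h10 := h10' e
    have hD : ∀ i j : Fin 4, i ≠ j → ∀ l, (π l = i ∨ π l = j) ↔ (l = i ∨ l = j) := by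
      intro i j hij l
      have hm : inp.u i + inp.u j ∈ p.D := by
        rw [hA.D]
        constructor
        · intro k
          rw [phi_pair p inp hij, phi_pair p inp hij]
          split_ifs <;> rfl
        · simp only [phi_pair p inp hij]
          exact pair_sum i j hij
      have h1 := H.2 (inp.u i + inp.u j) l
      rw [hcon _ hm, phi_pair p inp hij, phi_pair p inp hij] at h1
      by_cases h4 : π l = i ∨ π l = j <;> by_cases h5 : l = i ∨ l = j
      · simp only [h4, h5]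
      · rw [if_pos h4, if_neg h5, (lin_TP e).zero] at h1; exact absurd h1 (by decide)
      · rw [if_neg h4, if_pos h5, h10] at h1; exact absurd h1 (by decide)
      · simp only [h4, h5]
    have key : ∀ π : Equiv.Perm (Fin 4),
        (∀ i j : Fin 4, i ≠ j → ∀ l, (π l = i ∨ π l = j) ↔ (l = i ∨ l = j)) → π = 1 := by
      decide +kernel
    exact key π hD
  subst hp he
  have : (fun _ => TP 0 : Fin 4 → Equiv.Perm W) = 1 := by
    funext k
    show TP 0 = 1
    decide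
  rw [this] at H
  exact H.ext rep_one

/-- the Q-part: `w = x q` with `x ∈ A'`, `w² = 1`, is conjugate under `Q` into `A'` -/
theorem conj_into [Finite G] (inp : Input p.lz) {w x : G} (hxA : x ∈ A) (hxz : x * z = z * x)
    (hq : x⁻¹ * w ∈ Q) (hww : w * w = 1) (hx1 : x ∉ Q) :
    ∃ r ∈ Q, r⁻¹ * w * r ∈ A := by
  have hxC : x ∈ Subgroup.centralizer ({z} : Set G) := Subgroup.mem_centralizer_singleton_iff.2 hxz
  set f := p.lz.act ⟨x, hxC⟩ with hf
  have hfX : f ∈ p.X := p.mem_X.2 ⟨⟨x, hxC⟩, hxA, rfl⟩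
  have hf1 : f ≠ 1 := fun h => hx1 (p.lz.mem_of_act ⟨x, hxC⟩ h)
  obtain ⟨inp', -, hA⟩ := exists_adapted p inp
  obtain ⟨π, hπ, e, H⟩ := (X_iff_rep p hA f).1 hfX
  rw [V4_iff] at hπ
  set q := x⁻¹ * w with hqd
  have hw : w = x * q := by rw [hqd]; group
  have hff : ∀ v, f (f v) = v := fun v => by
    have := p.X_sq hfX
    exact congrArg (fun F : p.lz.V ≃ₗ[ZMod 2] p.lz.V => F v) this
  have hact : ∀ (y : Q) (hy : x * y * x⁻¹ ∈ Q), f (p.lz.pr y) = p.lz.pr ⟨x * y * x⁻¹, hy⟩ := by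
    intro y hy
    rw [hf, p.lz.act_pr]
    rfl
  have hconj : ∀ y : G, y ∈ Q → x * y * x⁻¹ ∈ Q := fun y hy => p.lz.conj_mem x hxz y hy
  -- the square
  have hxx : x * x ∈ Q ∧ (x * x = 1 ∨ x * x = a) := by
    rcases p.la.sq x hxA with h1 | h1
    · exact ⟨by rw [h1]; exact Q.one_mem, Or.inl h1⟩
    · exact ⟨by rw [h1]; exact p.a_mem, Or.inr h1⟩
  have hfq : f (p.lz.pr ⟨q, hq⟩) = p.lz.pr ⟨q, hq⟩ ∨ f (p.lz.pr ⟨q, hq⟩) = p.lz.pr ⟨q, hq⟩ + p.va := by
    have h1 : p.lz.pr (⟨x * q * x⁻¹, hconj q hq⟩ * ⟨x * x, hxx.1⟩ * ⟨q, hq⟩) = 0 := by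
      rw [p.lz.pr_eq_zero]
      left
      show x * q * x⁻¹ * (x * x) * q = 1
      rw [← hww, hw]; group
    rw [p.lz.pr_mul, p.lz.pr_mul, ← hact ⟨q, hq⟩] at h1
    have h2 : p.lz.pr ⟨x * x, hxx.1⟩ = 0 ∨ p.lz.pr ⟨x * x, hxx.1⟩ = p.va := by
      rcases hxx.2 with h3 | h3
      · left; exact p.lz.pr_eq_zero.2 (Or.inl h3)
      · right
        show p.lz.pr ⟨x * x, hxx.1⟩ = p.lz.pr ⟨a, p.a_mem⟩
        congr 1
        exact Subtype.ext h3
    rcases h2 with h3 | h3
    · left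
      rw [h3, add_zero] at h1
      exact eq_of_sub_eq_zero (by rw [sub_eq_add_neg, p.lz.neg_eq]; exact h1)
    · right
      rw [h3] at h1
      have h4 : f (p.lz.pr ⟨q, hq⟩) + (p.lz.pr ⟨q, hq⟩ + p.va) = 0 := by
        rw [← h1]; abel
      exact eq_of_sub_eq_zero (by rw [sub_eq_add_neg, p.lz.neg_eq]; exact h4)
  -- correct by an element of `D`
  obtain ⟨d, hdD, hd⟩ : ∃ d ∈ p.D, f (p.lz.pr ⟨q, hq⟩ + d) = p.lz.pr ⟨q, hq⟩ + d := by
    rcases hfq with h1 | h1
    · exact ⟨0, p.D.zero_mem, by rw [add_zero, h1]⟩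
    · obtain ⟨d, hd, hdm⟩ := exists_moved p hA H hf1
      refine ⟨d, hd, ?_⟩
      have h2 : f d = d + p.va := by
        rcases p.X_D hfX hd with h3 | h3
        · exact absurd h3 hdm
        · exact h3
      rw [map_add, h1, h2]
      have := p.lz.add_self p.va
      calc p.lz.pr ⟨q, hq⟩ + p.va + (d + p.va) = p.lz.pr ⟨q, hq⟩ + d + (p.va + p.va) := by abel
        _ = _ := by rw [this, add_zero]
  obtain ⟨r', hr'⟩ := free p H hπ hf1 hd
  obtain ⟨r, rfl⟩ := p.lz.pr_surjective r'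
  obtain ⟨d', hd'A, rfl⟩ := hdD
  -- compute
  have hxr : x⁻¹ * r * x ∈ Q := by
    have h1 := p.lz.conj_mem x⁻¹ ((Commute.inv_left (show Commute x z from hxz)).eq) r r.2
    rwa [inv_inv] at h1
  have hfi : p.lz.pr ⟨x⁻¹ * r * x, hxr⟩ = f (p.lz.pr r) := by
    apply f.injective
    rw [hff, hact ⟨x⁻¹ * r * x, hxr⟩ (by
      show x * (x⁻¹ * r * x) * x⁻¹ ∈ Q
      have : x * (x⁻¹ * r * x) * x⁻¹ = r := by group
      rw [this]; exact r.2)]
    congr 1
    apply Subtype.ext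
    show x * (x⁻¹ * r * x) * x⁻¹ = r
    group
  have h1 : p.lz.pr (⟨x⁻¹ * r * x, hxr⟩ * d' * r⁻¹) = p.lz.pr ⟨q, hq⟩ := by
    rw [p.lz.pr_mul, p.lz.pr_mul, p.lz.pr_inv, p.lz.neg_eq, hfi]
    have h2 : f (p.lz.pr r) + p.lz.pr d' + p.lz.pr r = (f (p.lz.pr r) + p.lz.pr r) + p.lz.pr d' := by abel
    rw [h2, ← hr', add_assoc, p.lz.add_self, add_zero]
  refine ⟨r, r.2, ?_⟩
  have hrz : (r : G) * z = z * r := p.lz.comm_z r r.2
  rcases p.lz.pr_eq_pr.1 h1 with h2 | h2
  · have h3 : x⁻¹ * r * x * d' * (r : G)⁻¹ = q := h2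
    have h4 : (r : G)⁻¹ * w * r = x * d' := by
      rw [hw, ← h3]; group
    rw [h4]
    exact A.mul_mem hxA hd'A
  · have h3 : x⁻¹ * r * x * d' * (r : G)⁻¹ = q * z := h2
    have h3' : q = x⁻¹ * r * x * d' * (r : G)⁻¹ * z := by rw [h3, mul_assoc, p.lz.z_sq, mul_one]
    have h4 : (r : G)⁻¹ * w * r = x * d' * z := by
      rw [hw, h3']
      calc (r : G)⁻¹ * (x * (x⁻¹ * r * x * d' * (r : G)⁻¹ * z)) * r
          = x * d' * (r : G)⁻¹ * (z * r) := by group
        _ = x * d' * (r : G)⁻¹ * (r * z) := by rw [hrz]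
        _ = _ := by group
    rw [h4]
    exact A.mul_mem (A.mul_mem hxA hd'A) p.z_mem

/-- (F3) -/
theorem invol [Finite G] {inp : Input p.lz} (hA : Adapted p inp) {w : G} (hw : w ∈ (frame p hA).C1)
    (hww : w * w = 1) (hwQ : w ∉ Q) : ∃ (A' : Subgroup G) (a' : G), Pair Q z A' a' ∧ w ∈ A' := by
  have hwz := (frame p hA).C1_comm hw
  have hwC : w ∈ Subgroup.centralizer ({z} : Set G) := Subgroup.mem_centralizer_singleton_iff.2 hwz
  obtain ⟨π, g, H, h1, h2⟩ := (mem_C1_iff p hA hwC).1 hw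
  have hff : p.lz.act ⟨w, hwC⟩ * p.lz.act ⟨w, hwC⟩ = 1 := by
    rw [← map_mul]
    have : (⟨w, hwC⟩ * ⟨w, hwC⟩ : Subgroup.centralizer ({z} : Set G)) = 1 := Subtype.ext hww
    rw [this, map_one]
  have hf1 : p.lz.act ⟨w, hwC⟩ ≠ 1 := fun h => hwQ (p.lz.mem_of_act ⟨w, hwC⟩ h)
  obtain ⟨v, hv, hfull⟩ := exists_fixed p H h1 h2 hff hf1
  obtain ⟨x0, rfl⟩ := p.lz.pr_surjective v
  obtain ⟨g0, hg0⟩ := conj_of_full p inp x0.2 hfull
  have hx0z : (x0 : G) ≠ z := by
    intro h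
    apply hfull 0
    rw [p.lz.pr_eq_zero.2 (Or.inr h), phi_zero]
    rfl
  have p' := exists_pair (h := p.lz) x0.2 hg0 hx0z
  have hX : p.lz.act ⟨w, hwC⟩ ∈ p'.X := (mem_X_iff p hA p' _).2 ⟨π, g, H, h1, h2, hv⟩
  obtain ⟨x, hxA, hxw⟩ := p'.mem_X.1 hX
  have hxw' : p.lz.act x = p.lz.act ⟨w, hwC⟩ := hxw
  have h3 : (x⁻¹ * ⟨w, hwC⟩ : Subgroup.centralizer ({z} : Set G)) ∈ p.lz.act.ker := by
    rw [MonoidHom.mem_ker, map_mul, map_inv, hxw', inv_mul_cancel]
  have h4 : (x : G)⁻¹ * w ∈ Q := p.lz.mem_of_act _ h3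
  have hxQ : (x : G) ∉ Q := by
    intro h
    apply hwQ
    have := Q.mul_mem h h4
    rwa [mul_inv_cancel_left] at this
  obtain ⟨r, hr, hrw⟩ := conj_into p' inp hxA (Subgroup.mem_centralizer_singleton_iff.1 x.2) h4 hww hxQ
  have hrC : r ∈ Subgroup.centralizer ({z} : Set G) :=
    Subgroup.mem_centralizer_singleton_iff.2 (p.lz.comm_z r hr)
  exact ⟨_, _, PairConj.conj p' ⟨r, hrC⟩, PairConj.mem_map_conj.2 hrw⟩

/-- **The hypotheses of (*)**. -/
theorem hyp [Finite G] {inp : Input p.lz} (hA : Adapted p inp) : StarEdge.Hyp (frame p hA) where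
  conj_of_wt4 x hx := by
    obtain ⟨g, hg⟩ := conj_of_full p inp x.2 hx
    exact isConj_iff.2 ⟨g, hg⟩
  edge p' _ h1 h2 := edge p hA p' h1 h2
  invol h1 h2 h3 := invol p hA h1 h2 h3

theorem weights : ∀ c : Fin 4 → W, ∑ k, (c k).2 = 0 → ∑ k, qW (c k) = 0 →
    ((∀ k, (c k).2 = (c 0).2) ∧ ∑ k, (c k).1 = 0) ∨ (∀ k, c k ≠ 0) ∨ (∀ k, (1, 0) + c k ≠ 0) := by
  decide +kernel

/-- singular vectors orthogonal to `ã` -/
theorem sing_cases [Finite G] (inp : Input p.lz) {y : p.lz.V} (hb : p.lz.b p.va y = 0)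
    (hq : p.lz.q y = 0) : y ∈ p.D ∨ (∀ k, phi inp y k ≠ 0) ∨ (∀ k, phi inp (p.va + y) k ≠ 0) := by
  obtain ⟨inp', hξ, hA⟩ := exists_adapted p inp
  have hsupp : ∀ w k, phi inp w k ≠ 0 ↔ phi inp' w k ≠ 0 := by
    intro w k
    rw [← ne_iff, ← ne_iff]
    rcases hξ k with h | h
    · rw [h]
    · rw [h]
      constructor
      · intro h1 h2
        apply h1
        have h3 : (inp.ξ k)⁻¹ w = w := h2
        conv_lhs => rw [← h3]
        exact (inp.ξ k).apply_symm_apply w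
      · intro h1 h2
        apply h1
        have : (inp.ξ k)⁻¹ w = w := by
          conv_lhs => rw [← h2]
          exact (inp.ξ k).symm_apply_apply w
        exact this
  rw [q_eq inp'] at hq
  rw [b_eq inp'] at hb
  have hb' : ∑ k, (phi inp' y k).2 = 0 := by
    rw [← hb]
    refine Finset.sum_congr rfl fun k _ => ?_
    rw [hA.va]
    have : ∀ x : W, x.2 = om (1, 0) x := by decide
    exact this _
  rcases weights _ hb' hq with h | h | h
  · exact Or.inl ((hA.D y).2 h)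
  · exact Or.inr (Or.inl fun k => (hsupp _ k).2 (h k))
  · refine Or.inr (Or.inr fun k => (hsupp _ k).2 ?_)
    rw [phi_add, Pi.add_apply, hA.va]
    exact h k

/-- involutions of `A - Q` commuting with `z` -/
theorem invol_A [Finite G] (inp : Input p.lz) {w : G} (hwA : w ∈ A) (hwz : w * z = z * w)
    (hww : w * w = 1) (hwQ : w ∉ Q) : IsConj z w ∨ IsConj z (z * w) := by
  obtain ⟨g, g1, g2, g3, g4⟩ := p.isConj
  have hw' : g * w * g⁻¹ ∈ Q := by rw [g4]; exact ⟨w, hwA, rfl⟩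
  have hwA' : g * w * g⁻¹ ∉ A := by
    intro h
    rw [g3] at h
    obtain ⟨y, hy, hyw⟩ := h
    have h1 : g * y * g⁻¹ = g * w * g⁻¹ := hyw
    apply hwQ
    have h2 : y = w := mul_left_cancel (mul_right_cancel h1)
    rwa [← h2]
  have hb : p.lz.b p.va (p.lz.pr ⟨g * w * g⁻¹, hw'⟩) = 0 := by
    rw [Pair.va, p.lz.b_pr]
    show a * (g * w * g⁻¹) = g * w * g⁻¹ * a
    rw [← g1]
    calc g * z * g⁻¹ * (g * w * g⁻¹) = g * (z * w) * g⁻¹ := by group
      _ = g * (w * z) * g⁻¹ := by rw [hwz]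
      _ = _ := by group
  have hq : p.lz.q (p.lz.pr ⟨g * w * g⁻¹, hw'⟩) = 0 := by
    rw [p.lz.q_eq_zero]
    show g * w * g⁻¹ * (g * w * g⁻¹) = 1
    calc g * w * g⁻¹ * (g * w * g⁻¹) = g * (w * w) * g⁻¹ := by group
      _ = 1 := by rw [hww]; group
  rcases sing_cases p inp hb hq with h | h | h
  · exact absurd ((p.pr_mem_D _).1 h) hwA'
  · left
    obtain ⟨k, hk⟩ := conj_of_full p inp hw' h
    have h1 : IsConj z (g * w * g⁻¹) := isConj_iff.2 ⟨k, hk⟩
    exact h1.trans (isConj_iff.2 ⟨g⁻¹, by group⟩)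
  · right
    have hm : a * (g * w * g⁻¹) ∈ Q := Q.mul_mem p.a_mem hw'
    have h2 : ∀ k, phi inp (p.lz.pr ⟨a * (g * w * g⁻¹), hm⟩) k ≠ 0 := h
    obtain ⟨k, hk⟩ := conj_of_full p inp hm h2
    have h1 : IsConj z (a * (g * w * g⁻¹)) := isConj_iff.2 ⟨k, hk⟩
    refine h1.trans (isConj_iff.2 ⟨g⁻¹, ?_⟩)
    rw [← g1]
    group

/-- involutions of `C1 - Q` -/
theorem inner_invol [Finite G] {inp : Input p.lz} (hA : Adapted p inp) {w : G}
    (hw : w ∈ (frame p hA).C1) (hww : w * w = 1) (hwQ : w ∉ Q) :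
    IsConj z w ∨ IsConj z (z * w) := by
  obtain ⟨A', a', p', hwA⟩ := invol p hA hw hww hwQ
  exact invol_A p' inp hwA ((frame p hA).C1_comm hw) hww hwQ

end Cfsg.Agent.TypeD4Three.LocalStar
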