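import Cfsg.Agent.S0215
import Cfsg.Agent.S1180

/-!
# The group `O(t, e) = ⟨[t, C(e)], e⟩` for an involution `t` isolated in `C(e)` (helper754)
-/

set_option autoImplicit false

namespace Cfsg.Agent.TypeD4Three

variable {G : Type*} [Group G]

/-- The group generated by `e` and the commutators `[t, k]`, `k ∈ C(e)`. -/
def Og (t e : G) : Subgroup G := Subgroup.closure ({w | ∃ k, k * e = e * k ∧ w = t * k * t⁻¹ * k⁻¹} ∪ {e})

namespace Og

variable {t e : G}

theorem self_mem : e ∈ Og t e := Subgroup.subset_closure (Or.inr rfl)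

theorem comm_mem {k : G} (hk : k * e = e * k) : t * k * t⁻¹ * k⁻¹ ∈ Og t e :=
  Subgroup.subset_closure (Or.inl ⟨k, hk, rfl⟩)

theorem comm_e (hte : t * e = e * t) {w : G} (hw : w ∈ Og t e) : w * e = e * w := by
  have : Og t e ≤ Subgroup.centralizer {e} := by
    unfold Og
    rw [Subgroup.closure_le]
    rintro w (⟨k, hk, rfl⟩ | rfl)
    · have h1 : Commute t e := hte
      have h2 : Commute k e := hk
      exact Subgroup.mem_centralizer_singleton_iff.2 (((h1.mul_left h2).mul_left h1.inv_left).mul_left h2.inv_left).eq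
    · exact Subgroup.mem_centralizer_singleton_iff.2 rfl
  exact Subgroup.mem_centralizer_singleton_iff.1 (this hw)

theorem conj_mem (g : G) {w : G} (hw : w ∈ Og t e) : g * w * g⁻¹ ∈ Og (g * t * g⁻¹) (g * e * g⁻¹) := by
  have : Og t e ≤ (Og (g * t * g⁻¹) (g * e * g⁻¹)).comap (MulAut.conj g).toMonoidHom := by
    conv_lhs => unfold Og
    rw [Subgroup.closure_le]
    rintro w (⟨k, hk, rfl⟩ | rfl)
    · show g * (t * k * t⁻¹ * k⁻¹) * g⁻¹ ∈ Og (g * t * g⁻¹) (g * e * g⁻¹)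
      have h1 : g * (t * k * t⁻¹ * k⁻¹) * g⁻¹ =
        (g * t * g⁻¹) * (g * k * g⁻¹) * (g * t * g⁻¹)⁻¹ * (g * k * g⁻¹)⁻¹ := by group
      rw [h1]
      apply comm_mem
      calc g * k * g⁻¹ * (g * e * g⁻¹) = g * (k * e) * g⁻¹ := by group
        _ = g * (e * k) * g⁻¹ := by rw [hk]
        _ = _ := by group
    · exact self_mem
  exact this hw

theorem inv_le : Og t e ≤ Og t e⁻¹ := by
  conv_lhs => unfold Og
  rw [Subgroup.closure_le]
  rintro w (⟨k, hk, rfl⟩ | rfl)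
  · apply comm_mem
    have : Commute k e := hk
    exact this.inv_right.eq
  · show w ∈ Og t w⁻¹
    have := (Og t w⁻¹).inv_mem (self_mem (t := t) (e := w⁻¹))
    rwa [inv_inv] at this

/-- elements of `C(e)` normalise `Og t e` -/
theorem norm_mem {k : G} (hk : k * e = e * k) {w : G} (hw : w ∈ Og t e) : k * w * k⁻¹ ∈ Og t e := by
  have : Og t e ≤ (Og t e).comap (MulAut.conj k).toMonoidHom := by
    conv_lhs => unfold Og
    rw [Subgroup.closure_le]
    rintro w (⟨l, hl, rfl⟩ | rfl)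
    · show k * (t * l * t⁻¹ * l⁻¹) * k⁻¹ ∈ Og t e
      have h1 : k * (t * l * t⁻¹ * l⁻¹) * k⁻¹ = (t * k * t⁻¹ * k⁻¹)⁻¹ * (t * (k * l) * t⁻¹ * (k * l)⁻¹) := by group
      rw [h1]
      refine (Og t e).mul_mem ((Og t e).inv_mem (comm_mem hk)) (comm_mem ?_)
      have h2 : Commute k e := hk
      have h3 : Commute l e := hl
      exact (h2.mul_left h3).eq
    · show k * w * k⁻¹ ∈ Og t w
      rw [hk, mul_assoc, mul_inv_cancel, mul_one]
      exact self_mem
  exact this hw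

/-- elements commuting with `t` and normalising `⟨e⟩` normalise `Og t e` -/
theorem conj_self {g : G} (hgt : g * t = t * g) (hge : g * e * g⁻¹ = e ∨ g * e * g⁻¹ = e⁻¹) {w : G}
    (hw : w ∈ Og t e) : g * w * g⁻¹ ∈ Og t e := by
  have h1 := conj_mem g hw
  have h2 : g * t * g⁻¹ = t := by rw [hgt]; group
  rw [h2] at h1
  rcases hge with h3 | h3
  · rw [h3] at h1; exact h1
  · rw [h3] at h1
    have := inv_le h1
    rwa [inv_inv] at this

/-- `Og t e` consists of elements of odd order, by the Z*-theorem. -/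
theorem odd [Finite G] (ht1 : t ≠ 1) (ht : t * t = 1) (he : e * e * e = 1) (hte : t * e = e * t)
    (hiso : ∀ g : G, g * e = e * g → (g * t * g⁻¹) * t = t * (g * t * g⁻¹) → g * t * g⁻¹ = t)
    {w : G} (hw : w ∈ Og t e) : Odd (orderOf w) := by
  classical
  set K := Subgroup.centralizer ({e} : Set G) with hK
  have htK : t ∈ K := Subgroup.mem_centralizer_singleton_iff.2 hte
  have heK : e ∈ K := Subgroup.mem_centralizer_singleton_iff.2 rfl
  have ho : orderOf t = 2 := orderOf_eq_prime (by rw [pow_two]; exact ht) ht1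
  have ho' : orderOf (⟨t, htK⟩ : K) = 2 := by rw [Subgroup.orderOf_mk]; exact ho
  have hI : Cfsg.IsIsolatedInvolution (⟨t, htK⟩ : K) := by
    refine ⟨ho', fun g hg => ?_⟩
    have h1 := hiso g (Subgroup.mem_centralizer_singleton_iff.1 g.2) (congrArg Subtype.val hg.eq).symm
    exact Subtype.ext h1
  have h2 : Fact (Nat.Prime 2) := ⟨Nat.prime_two⟩
  have hp : IsPGroup 2 (Subgroup.zpowers (⟨t, htK⟩ : K)) := by
    apply IsPGroup.of_card (n := 1)
    rw [Nat.card_zpowers, ho', pow_one]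
  obtain ⟨P, hP⟩ := hp.exists_le_sylow
  have htP : (⟨t, htK⟩ : K) ∈ P := hP (Subgroup.mem_zpowers _)
  obtain ⟨N, hN, hNo, hNc⟩ := Cfsg.Agent.S0215.result P (⟨t, htK⟩ : K) ho' htP
    (fun g hg => Cfsg.Agent.S1180.eq_of_conj_mem_isPGroup _ hI P P.isPGroup' htP g hg)
  -- the generators lie in `N ⊔ ⟨e⟩`
  have hle : Og t e ≤ (N ⊔ Subgroup.zpowers (⟨e, heK⟩ : K)).map K.subtype := by
    conv_lhs => unfold Og
    rw [Subgroup.closure_le]
    rintro w (⟨k, hk, rfl⟩ | rfl)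
    · have hkK : k ∈ K := Subgroup.mem_centralizer_singleton_iff.2 hk
      exact ⟨_, Subgroup.mem_sup_left (hNc ⟨k, hkK⟩), rfl⟩
    · exact ⟨_, Subgroup.mem_sup_right (Subgroup.mem_zpowers _), rfl⟩
  obtain ⟨v, hv, rfl⟩ := hle hw
  obtain ⟨a, ha, b, hb, rfl⟩ := Subgroup.mem_sup_of_normal_left.1 hv
  show Odd (orderOf ((a * b : K) : G))
  rw [Subgroup.orderOf_coe]
  have hab : Commute a b := by
    obtain ⟨i, rfl⟩ := Subgroup.mem_zpowers_iff.1 hb
    have : Commute a (⟨e, heK⟩ : K) := Subtype.ext (Subgroup.mem_centralizer_singleton_iff.1 a.2)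
    exact this.zpow_right i
  have hb3 : b ^ 3 = 1 := by
    obtain ⟨i, rfl⟩ := Subgroup.mem_zpowers_iff.1 hb
    rw [← zpow_natCast, ← zpow_mul, mul_comm, zpow_mul]
    have : (⟨e, heK⟩ : K) ^ ((3 : ℕ) : ℤ) = 1 := by
      rw [zpow_natCast, pow_three']
      exact Subtype.ext he
    rw [this, one_zpow]
  have ha1 : a ^ Nat.card N = 1 := by
    have h3 : (⟨a, ha⟩ : N) ^ Nat.card N = 1 := pow_card_eq_one'
    have h4 : (((⟨a, ha⟩ : N) ^ Nat.card N : N) : K) = 1 := by rw [h3]; rfl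
    rw [Subgroup.coe_pow] at h4
    exact h4
  have hpow : (a * b) ^ (Nat.card N * 3) = 1 := by
    rw [hab.mul_pow, pow_mul, ha1, one_pow, mul_comm (Nat.card N) 3, pow_mul, hb3, one_pow, one_mul]
  have hdvd := orderOf_dvd_of_pow_eq_one hpow
  have hodd : Odd (Nat.card N * 3) := hNo.mul (by decide)
  exact Odd.of_dvd_nat hodd hdvd

end Og

/-- decomposition of an element of odd order with respect to an involution -/
theorem exists_decomp [Finite G] {t w : G} (ht : t * t = 1) (hw : Odd (orderOf (w * (t * w * t⁻¹)⁻¹))) :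
    ∃ (m : ℕ), t * (w * (t * w * t⁻¹)⁻¹) ^ m * t⁻¹ = ((w * (t * w * t⁻¹)⁻¹) ^ m)⁻¹ ∧
      t * (((w * (t * w * t⁻¹)⁻¹) ^ m)⁻¹ * w) * t⁻¹ = ((w * (t * w * t⁻¹)⁻¹) ^ m)⁻¹ * w := by
  have hti : t⁻¹ = t := inv_eq_of_mul_eq_one_left ht
  set v := w * (t * w * t⁻¹)⁻¹ with hv
  have htv : t * v * t⁻¹ = v⁻¹ := by
    rw [hv]
    calc t * (w * (t * w * t⁻¹)⁻¹) * t⁻¹ = (t * w * t⁻¹) * (t * t * w * (t * t)⁻¹)⁻¹ := by group
      _ = (w * (t * w * t⁻¹)⁻¹)⁻¹ := by rw [ht]; group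
  obtain ⟨n, hn⟩ := hw
  have hr : v ^ (n + 1) * v ^ (n + 1) = v := by
    rw [← pow_add]
    have : n + 1 + (n + 1) = (2 * n + 1) + 1 := by ring
    rw [this, ← hn, pow_succ, pow_orderOf_eq_one, one_mul]
  have htr : t * v ^ (n + 1) * t⁻¹ = (v ^ (n + 1))⁻¹ := by
    rw [← conj_pow, htv, inv_pow]
  refine ⟨n + 1, htr, ?_⟩
  have h1 : t * w * t⁻¹ = v⁻¹ * w := by rw [hv]; group
  calc t * ((v ^ (n + 1))⁻¹ * w) * t⁻¹ = (t * v ^ (n + 1) * t⁻¹)⁻¹ * (t * w * t⁻¹) := by group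
    _ = v ^ (n + 1) * (v ^ (n + 1) * v ^ (n + 1))⁻¹ * w := by rw [htr, h1, hr]; group
    _ = _ := by group

end Cfsg.Agent.TypeD4Three
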