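import Cfsg.Agent.TypeD4Three.Setup

/-!
# S1763, case [P] : the set-up before the exclusion of the case `C(x k) ≤ C(z)` (helper754)
-/

set_option autoImplicit false

namespace Cfsg.Agent.TypeD4Three

open Cfsg.Agent.Co2Type.Quad

variable {G : Type*} [Group G]

/-- `Setup` without `nb`, with two facts (`trans`, `swap`) from which `nb` follows. -/
structure PreSetup (Q : Subgroup G) (z : G) (x I J : Fin 4 → G) (y ρ : G) : Prop where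
  fr : Frame Q z x I J
  inv : Inv z x I J y
  rz : ρ * z * ρ⁻¹ = y
  ry : ρ * y * ρ⁻¹ = z * y
  r3 : ρ * ρ * ρ = 1
  /-- the only conjugate of `z` commuting with `z` and `x k` is `z` -/
  iso : ∀ (g : G) (k : Fin 4), (g * z * g⁻¹) * z = z * (g * z * g⁻¹) → (g * z * g⁻¹) * x k = x k * (g * z * g⁻¹) →
    g * z * g⁻¹ = z
  /-- `C(z)` is transitive on the four groups `⟨x k⟩` modulo `Q` -/
  trans : ∀ k l, ∃ c, c * z = z * c ∧ ∃ q ∈ Q, c * x k * c⁻¹ = x l * q ∨ c * x k * c⁻¹ = (x l)⁻¹ * q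
  /-- `ρ⁻¹ (I k I l) ρ` moves all the groups `⟨x m⟩` modulo `Q` -/
  swap : ∀ k l, k ≠ l → ∀ m, ∃ n, n ≠ m ∧ ∃ q ∈ Q,
    (ρ⁻¹ * (I k * I l) * ρ) * x m * (ρ⁻¹ * (I k * I l) * ρ)⁻¹ = x n * q ∨
    (ρ⁻¹ * (I k * I l) * ρ) * x m * (ρ⁻¹ * (I k * I l) * ρ)⁻¹ = (x n)⁻¹ * q

end Cfsg.Agent.TypeD4Three
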