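import Cfsg.Agent.TypeD4Three.LemmaD

/-!
# S1763, case [P] : the set-up for the 3-local analysis and its symmetries (helper754)
-/

set_option autoImplicit false

namespace Cfsg.Agent.TypeD4Three

open Cfsg.Agent.Co2Type.Quad

variable {G : Type*} [Group G]

/-- The set-up of the 3-local analysis. -/
structure Setup (Q : Subgroup G) (z : G) (x I J : Fin 4 → G) (y ρ : G) : Prop where
  fr : Frame Q z x I J
  inv : Inv z x I J y
  rz : ρ * z * ρ⁻¹ = y
  ry : ρ * y * ρ⁻¹ = z * y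
  r3 : ρ * ρ * ρ = 1
  iso : ∀ (g : G) (k : Fin 4), (g * z * g⁻¹) * z = z * (g * z * g⁻¹) → (g * z * g⁻¹) * x k = x k * (g * z * g⁻¹) →
    g * z * g⁻¹ = z
  nb : ∀ k, ∃ g, g * x k = x k * g ∧ g * z ≠ z * g

/-- the three involutions -/
def tt {G : Type*} [Group G] (z y : G) (m : Fin 3) : G := ![z, y, z * y] m

/-- the three powers of `ρ` -/
def rm {G : Type*} [Group G] (ρ : G) (m : Fin 3) : G := ![1, ρ, ρ⁻¹] m

/-- the roots -/
def R {G : Type*} [Group G] (x I : Fin 4 → G) (ρ : G) (m : Fin 3) (k : Fin 4) (s : Bool) : G :=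
  rm ρ m * rt x I k s * (rm ρ m)⁻¹

/-- pairs of opposite roots -/
def Opp {G : Type*} [Group G] (x I : Fin 4 → G) (ρ : G) (m : Fin 3) (k : Fin 4) (e e' : G) : Prop :=
  (e = R x I ρ m k false ∧ e' = R x I ρ m k true) ∨ (e = R x I ρ m k true ∧ e' = R x I ρ m k false)

theorem tt_zero (z y : G) : tt z y 0 = z := rfl
theorem tt_one (z y : G) : tt z y 1 = y := rfl
theorem tt_two (z y : G) : tt z y 2 = z * y := rfl
theorem rm_zero (ρ : G) : rm ρ 0 = 1 := rfl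
theorem rm_one (ρ : G) : rm ρ 1 = ρ := rfl
theorem rm_two (ρ : G) : rm ρ 2 = ρ⁻¹ := rfl

theorem fin3 (m : Fin 3) : m = 0 ∨ m = 1 ∨ m = 2 := by revert m; decide

theorem rt_false (x I : Fin 4 → G) (k : Fin 4) : rt x I k false = x k := rfl
theorem rt_true (x I : Fin 4 → G) (k : Fin 4) : rt x I k true = I k * x k * (I k)⁻¹ := rfl

theorem R_zero (x I : Fin 4 → G) (ρ : G) (k : Fin 4) (s : Bool) : R x I ρ 0 k s = rt x I k s := by
  unfold R; rw [rm_zero]; group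

theorem R_one (x I : Fin 4 → G) (ρ : G) (k : Fin 4) (s : Bool) : R x I ρ 1 k s = ρ * rt x I k s * ρ⁻¹ := rfl

theorem R_two (x I : Fin 4 → G) (ρ : G) (k : Fin 4) (s : Bool) : R x I ρ 2 k s = ρ⁻¹ * rt x I k s * ρ := by
  unfold R; rw [rm_two]; group

theorem Opp.symm {x I : Fin 4 → G} {ρ : G} {m : Fin 3} {k : Fin 4} {e e' : G} (h : Opp x I ρ m k e e') :
    Opp x I ρ m k e' e := by
  rcases h with ⟨h1, h2⟩ | ⟨h1, h2⟩
  · right; exact ⟨h2, h1⟩
  · left; exact ⟨h2, h1⟩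

theorem opp_R (x I : Fin 4 → G) (ρ : G) (m : Fin 3) (k : Fin 4) (s : Bool) :
    Opp x I ρ m k (R x I ρ m k s) (R x I ρ m k (!s)) := by
  cases s
  · left; exact ⟨rfl, rfl⟩
  · right; exact ⟨rfl, rfl⟩

theorem Inv.conj {z y : G} {x I J : Fin 4 → G} (h : Inv z x I J y) (g : G) :
    Inv (g * z * g⁻¹) (fun k => g * x k * g⁻¹) (fun k => g * I k * g⁻¹) (fun k => g * J k * g⁻¹) (g * y * g⁻¹) where
  sq := by
    calc g * y * g⁻¹ * (g * y * g⁻¹) = g * (y * y) * g⁻¹ := by group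
      _ = 1 := by rw [h.sq]; group
  yz := by
    calc g * y * g⁻¹ * (g * z * g⁻¹) = g * (y * z) * g⁻¹ := by group
      _ = g * (z * y) * g⁻¹ := by rw [h.yz]
      _ = _ := by group
  yx k := by
    calc g * y * g⁻¹ * (g * x k * g⁻¹) * (g * y * g⁻¹)⁻¹ = g * (y * x k * y⁻¹) * g⁻¹ := by group
      _ = _ := by rw [h.yx]; group
  yI k := by
    calc g * y * g⁻¹ * (g * I k * g⁻¹) * (g * y * g⁻¹)⁻¹ = g * (y * I k * y⁻¹) * g⁻¹ := by group
      _ = _ := by rw [h.yI]; group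
  yJ k := by
    calc g * y * g⁻¹ * (g * J k * g⁻¹) * (g * y * g⁻¹)⁻¹ = g * (y * J k * y⁻¹) * g⁻¹ := by group
      _ = _ := by rw [h.yJ]; group

theorem Inv.y_inv {z y : G} {x I J : Fin 4 → G} (h : Inv z x I J y) : y⁻¹ = y := inv_eq_of_mul_eq_one_left h.sq

/-- `z y` inverts the frame as well. -/
theorem Inv.mul_z {Q : Subgroup G} {z y : G} {x I J : Fin 4 → G} (F : Frame Q z x I J) (h : Inv z x I J y) :
    Inv z x I J (z * y) := by
  have hyz : Commute y z := h.yz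
  have key : ∀ w w' : G, y * w * y⁻¹ = w' → w' * z = z * w' → (z * y) * w * (z * y)⁻¹ = w' := by
    intro w w' h1 h2
    calc (z * y) * w * (z * y)⁻¹ = z * (y * w * y⁻¹) * z⁻¹ := by group
      _ = w' := by rw [h1, ← h2]; group
  constructor
  · calc z * y * (z * y) = z * (y * z) * y := by group
      _ = z * z * (y * y) := by rw [h.yz]; group
      _ = 1 := by rw [F.z_sq, h.sq, one_mul]
  · rw [mul_assoc, h.yz]
  · intro k
    refine key _ _ (h.yx k) ?_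
    have : Commute (x k) z := F.x_z k
    exact this.inv_left.eq
  · intro k
    refine key _ _ (h.yI k) ?_
    have : Commute (I k) z := F.I_z k
    exact (this.mul_left (Commute.refl z)).eq
  · intro k
    refine key _ _ (h.yJ k) ?_
    have h1 : Commute (I k) z := F.I_z k
    have h2 : Commute (J k) z := F.J_z k
    exact ((h1.mul_left h2).mul_left (Commute.refl z)).eq

namespace Frame

variable {Q : Subgroup G} {z : G} {x I J : Fin 4 → G} (F : Frame Q z x I J)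

include F

theorem I_conj_I (k l : Fin 4) : I k * I l * (I k)⁻¹ = I l := by
  by_cases h : k = l
  · rw [h]; group
  · rw [F.I_I k l h]; group

theorem I_conj_x {k l : Fin 4} (h : k ≠ l) : I k * x l * (I k)⁻¹ = x l := by
  rw [← F.x_I' l k h.symm]; group

/-- The frame conjugated by `I k`. -/
theorem flip (k : Fin 4) : Frame Q z (fun l => I k * x l * (I k)⁻¹) I (fun l => I k * J l * (I k)⁻¹) := by
  have h1 := F.conj (I k)
  have h2 : I k * z * (I k)⁻¹ = z := by rw [F.I_z]; group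
  have h3 : Q.map (MulAut.conj (I k)).toMonoidHom = Q := by
    apply le_antisymm
    · rintro _ ⟨q, hq, rfl⟩
      exact Q.mul_mem (Q.mul_mem (F.I_mem k) hq) (Q.inv_mem (F.I_mem k))
    · intro q hq
      refine ⟨(I k)⁻¹ * q * I k, Q.mul_mem (Q.mul_mem (Q.inv_mem (F.I_mem k)) hq) (F.I_mem k), ?_⟩
      show I k * ((I k)⁻¹ * q * I k) * (I k)⁻¹ = q
      group
  have h4 : (fun l => I k * I l * (I k)⁻¹) = I := by funext l; exact F.I_conj_I k l
  rw [h2, h3, h4] at h1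
  exact h1

theorem rt_flip_self (k : Fin 4) (s : Bool) : rt (fun l => I k * x l * (I k)⁻¹) I k s = rt x I k (!s) := by
  cases s
  · rfl
  · show I k * (I k * x k * (I k)⁻¹) * (I k)⁻¹ = x k
    have h1 : I k * (I k * x k * (I k)⁻¹) * (I k)⁻¹ = (I k * I k) * x k * (I k * I k)⁻¹ := by group
    rw [h1, F.I_sq, ← F.x_z]; group

theorem rt_flip {k l : Fin 4} (h : k ≠ l) (s : Bool) : rt (fun l => I k * x l * (I k)⁻¹) I l s = rt x I l s := by
  simp only [rt, F.I_conj_x h]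

end Frame

theorem Inv.flip {Q : Subgroup G} {z y : G} {x I J : Fin 4 → G} (F : Frame Q z x I J) (h : Inv z x I J y) (k : Fin 4) :
    Inv z (fun l => I k * x l * (I k)⁻¹) I (fun l => I k * J l * (I k)⁻¹) y := by
  have key : ∀ w w' : G, y * w * y⁻¹ = w' → w' * z = z * w' →
      y * (I k * w * (I k)⁻¹) * y⁻¹ = I k * w' * (I k)⁻¹ := by
    intro w w' h1 h2
    calc y * (I k * w * (I k)⁻¹) * y⁻¹ = (y * I k * y⁻¹) * (y * w * y⁻¹) * (y * I k * y⁻¹)⁻¹ := by group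
      _ = I k * (z * w') * z⁻¹ * (I k)⁻¹ := by rw [h.yI, h1]; group
      _ = _ := by rw [← h2]; group
  constructor
  · exact h.sq
  · exact h.yz
  · intro l
    have h1 := key _ _ (h.yx l) (by have : Commute (x l) z := F.x_z l; exact this.inv_left.eq)
    rw [h1]; group
  · exact h.yI
  · intro l
    have hI : Commute (I l) z := F.I_z l
    have hJ : Commute (J l) z := F.J_z l
    have h1 := key _ _ (h.yJ l) ((hI.mul_left hJ).mul_left (Commute.refl z)).eq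
    rw [h1]
    have h2 : I k * (I l * J l * z) * (I k)⁻¹ = (I k * I l * (I k)⁻¹) * (I k * J l * (I k)⁻¹) * (I k * z * (I k)⁻¹) := by
      group
    have h3 : I k * z * (I k)⁻¹ = z := by rw [F.I_z]; group
    rw [h2, F.I_conj_I, h3]

namespace Setup

variable {Q : Subgroup G} {z : G} {x I J : Fin 4 → G} {y ρ : G} (S : Setup Q z x I J y ρ)

include S

theorem r_inv : ρ⁻¹ = ρ * ρ := by rw [inv_eq_iff_mul_eq_one, ← mul_assoc]; exact S.r3

theorem rr : ρ * ρ = ρ⁻¹ := S.r_inv.symm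

theorem rzy : ρ * (z * y) * ρ⁻¹ = z := by
  calc ρ * (z * y) * ρ⁻¹ = (ρ * z * ρ⁻¹) * (ρ * y * ρ⁻¹) := by group
    _ = y * z * y := by rw [S.rz, S.ry]; group
    _ = z * (y * y) := by rw [S.inv.yz]; group
    _ = z := by rw [S.inv.sq, mul_one]

/-- Conjugation. -/
theorem conj (g : G) : Setup (Q.map (MulAut.conj g).toMonoidHom) (g * z * g⁻¹) (fun k => g * x k * g⁻¹)
    (fun k => g * I k * g⁻¹) (fun k => g * J k * g⁻¹) (g * y * g⁻¹) (g * ρ * g⁻¹) where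
  fr := S.fr.conj g
  inv := S.inv.conj g
  rz := by
    calc g * ρ * g⁻¹ * (g * z * g⁻¹) * (g * ρ * g⁻¹)⁻¹ = g * (ρ * z * ρ⁻¹) * g⁻¹ := by group
      _ = _ := by rw [S.rz]
  ry := by
    calc g * ρ * g⁻¹ * (g * y * g⁻¹) * (g * ρ * g⁻¹)⁻¹ = g * (ρ * y * ρ⁻¹) * g⁻¹ := by group
      _ = _ := by rw [S.ry]; group
  r3 := by
    calc g * ρ * g⁻¹ * (g * ρ * g⁻¹) * (g * ρ * g⁻¹) = g * (ρ * ρ * ρ) * g⁻¹ := by group
      _ = 1 := by rw [S.r3]; group
  iso a k h1 h2 := by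
    have h3 := S.iso (g⁻¹ * a * g) k
    have h4 : g⁻¹ * a * g * z * (g⁻¹ * a * g)⁻¹ = g⁻¹ * (a * (g * z * g⁻¹) * a⁻¹) * g := by group
    rw [h4] at h3
    have h5 := h3 (by
      calc g⁻¹ * (a * (g * z * g⁻¹) * a⁻¹) * g * z
          = g⁻¹ * ((a * (g * z * g⁻¹) * a⁻¹) * (g * z * g⁻¹)) * g := by group
        _ = g⁻¹ * ((g * z * g⁻¹) * (a * (g * z * g⁻¹) * a⁻¹)) * g := by rw [h1]
        _ = _ := by group) (by
      calc g⁻¹ * (a * (g * z * g⁻¹) * a⁻¹) * g * x k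
          = g⁻¹ * ((a * (g * z * g⁻¹) * a⁻¹) * (g * x k * g⁻¹)) * g := by group
        _ = g⁻¹ * ((g * x k * g⁻¹) * (a * (g * z * g⁻¹) * a⁻¹)) * g := by rw [h2]
        _ = _ := by group)
    calc a * (g * z * g⁻¹) * a⁻¹ = g * (g⁻¹ * (a * (g * z * g⁻¹) * a⁻¹) * g) * g⁻¹ := by group
      _ = _ := by rw [h5]
  nb k := by
    obtain ⟨a, h1, h2⟩ := S.nb k
    refine ⟨g * a * g⁻¹, ?_, ?_⟩
    · calc g * a * g⁻¹ * (g * x k * g⁻¹) = g * (a * x k) * g⁻¹ := by group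
        _ = g * (x k * a) * g⁻¹ := by rw [h1]
        _ = _ := by group
    · intro h3
      apply h2
      calc a * z = g⁻¹ * (g * a * g⁻¹ * (g * z * g⁻¹)) * g := by group
        _ = g⁻¹ * (g * z * g⁻¹ * (g * a * g⁻¹)) * g := by rw [h3]
        _ = _ := by group

/-- Rotation. -/
theorem rot : Setup (Q.map (MulAut.conj ρ).toMonoidHom) y (fun k => ρ * x k * ρ⁻¹)
    (fun k => ρ * I k * ρ⁻¹) (fun k => ρ * J k * ρ⁻¹) (z * y) ρ := by
  have h := S.conj ρ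
  have h1 : ρ * ρ * ρ⁻¹ = ρ := by group
  rw [S.rz, S.ry, h1] at h
  exact h

/-- Flip. -/
theorem flip (k : Fin 4) : Setup Q z (fun l => I k * x l * (I k)⁻¹) I (fun l => I k * J l * (I k)⁻¹) y ρ where
  fr := S.fr.flip k
  inv := S.inv.flip S.fr k
  rz := S.rz
  ry := S.ry
  r3 := S.r3
  iso a l h1 h2 := by
    have hIz : I k * z = z * I k := S.fr.I_z k
    have h3 := S.iso ((I k)⁻¹ * a) l
    have h4 : (I k)⁻¹ * a * z * ((I k)⁻¹ * a)⁻¹ = (I k)⁻¹ * (a * z * a⁻¹) * I k := by group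
    rw [h4] at h3
    have h5 := h3 (by
      calc (I k)⁻¹ * (a * z * a⁻¹) * I k * z = (I k)⁻¹ * (a * z * a⁻¹) * (I k * z) := by group
        _ = (I k)⁻¹ * (a * z * a⁻¹ * z) * I k := by rw [hIz]; group
        _ = (I k)⁻¹ * z * (a * z * a⁻¹) * I k := by rw [h1]; group
        _ = z * ((I k)⁻¹ * (a * z * a⁻¹) * I k) := by
          have : Commute (I k) z := hIz
          rw [this.inv_left.eq]; group) (by
      calc (I k)⁻¹ * (a * z * a⁻¹) * I k * x l
          = (I k)⁻¹ * ((a * z * a⁻¹) * (I k * x l * (I k)⁻¹)) * I k := by group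
        _ = (I k)⁻¹ * ((I k * x l * (I k)⁻¹) * (a * z * a⁻¹)) * I k := by rw [h2]
        _ = _ := by group)
    calc a * z * a⁻¹ = I k * ((I k)⁻¹ * (a * z * a⁻¹) * I k) * (I k)⁻¹ := by group
      _ = I k * z * (I k)⁻¹ := by rw [h5]
      _ = z := by rw [hIz]; group
  nb l := by
    obtain ⟨a, h1, h2⟩ := S.nb l
    have hIz : I k * z = z * I k := S.fr.I_z k
    refine ⟨I k * a * (I k)⁻¹, ?_, ?_⟩
    · calc I k * a * (I k)⁻¹ * (I k * x l * (I k)⁻¹) = I k * (a * x l) * (I k)⁻¹ := by group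
        _ = I k * (x l * a) * (I k)⁻¹ := by rw [h1]
        _ = _ := by group
    · intro h3
      apply h2
      have hc : Commute (I k) z := hIz
      have h4 : (I k)⁻¹ * z = z * (I k)⁻¹ := hc.inv_left.eq
      calc a * z = (I k)⁻¹ * (I k * a * ((I k)⁻¹ * z)) * I k := by rw [h4]; rw [show (I k)⁻¹ * (I k * a * (z * (I k)⁻¹)) * I k = a * z by group]
        _ = (I k)⁻¹ * (I k * a * (I k)⁻¹ * z) * I k := by group
        _ = (I k)⁻¹ * (z * (I k * a * (I k)⁻¹)) * I k := by rw [h3]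
        _ = ((I k)⁻¹ * z) * I k * a := by group
        _ = z * a := by rw [h4]; group

/-- Reversal. -/
theorem rev : Setup Q z x I J (z * y) ρ⁻¹ where
  fr := S.fr
  inv := S.inv.mul_z S.fr
  rz := by
    have := S.rzy
    calc ρ⁻¹ * z * ρ⁻¹⁻¹ = ρ⁻¹ * (ρ * (z * y) * ρ⁻¹) * ρ := by rw [this]; group
      _ = _ := by group
  ry := by
    have h1 : z * (z * y) = y := by rw [← mul_assoc, S.fr.z_sq, one_mul]
    rw [h1]
    calc ρ⁻¹ * (z * y) * ρ⁻¹⁻¹ = ρ⁻¹ * (ρ * y * ρ⁻¹) * ρ := by rw [S.ry]; group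
      _ = _ := by group
  r3 := by
    calc ρ⁻¹ * ρ⁻¹ * ρ⁻¹ = (ρ * ρ * ρ)⁻¹ := by group
      _ = 1 := by rw [S.r3]; group
  iso := S.iso
  nb := S.nb

theorem R_rot (m : Fin 3) (k : Fin 4) (s : Bool) :
    R (fun k => ρ * x k * ρ⁻¹) (fun k => ρ * I k * ρ⁻¹) ρ m k s = R x I ρ (m + 1) k s := by
  have h1 : rt (fun k => ρ * x k * ρ⁻¹) (fun k => ρ * I k * ρ⁻¹) k s = ρ * rt x I k s * ρ⁻¹ := by
    cases s
    · rfl
    · show ρ * I k * ρ⁻¹ * (ρ * x k * ρ⁻¹) * (ρ * I k * ρ⁻¹)⁻¹ = ρ * (I k * x k * (I k)⁻¹) * ρ⁻¹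
      group
  have h2 : rm ρ (m + 1) = rm ρ m * ρ := by
    rcases fin3 m with rfl | rfl | rfl
    · show ρ = 1 * ρ
      rw [one_mul]
    · show ρ⁻¹ = ρ * ρ
      exact S.r_inv
    · show (1 : G) = ρ⁻¹ * ρ
      rw [inv_mul_cancel]
  unfold R
  rw [h1, h2]; group

theorem R_flip_self (m : Fin 3) (k : Fin 4) (s : Bool) :
    R (fun l => I k * x l * (I k)⁻¹) I ρ m k s = R x I ρ m k (!s) := by
  unfold R
  rw [S.fr.rt_flip_self]

theorem R_flip (m : Fin 3) {k l : Fin 4} (h : k ≠ l) (s : Bool) :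
    R (fun l => I k * x l * (I k)⁻¹) I ρ m l s = R x I ρ m l s := by
  unfold R
  rw [S.fr.rt_flip h]

theorem opp_rot (m : Fin 3) (k : Fin 4) (e e' : G) :
    Opp (fun k => ρ * x k * ρ⁻¹) (fun k => ρ * I k * ρ⁻¹) ρ m k e e' ↔ Opp x I ρ (m + 1) k e e' := by
  unfold Opp
  rw [S.R_rot, S.R_rot]

theorem opp_flip (m : Fin 3) (k l : Fin 4) (e e' : G) :
    Opp (fun l => I k * x l * (I k)⁻¹) I ρ m l e e' ↔ Opp x I ρ m l e e' := by
  unfold Opp
  by_cases h : k = l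
  · subst h
    rw [S.R_flip_self, S.R_flip_self]
    exact Or.comm
  · rw [S.R_flip m h, S.R_flip m h]

/-- Move an arbitrary root to the position `x k`. -/
theorem exists_setup {m : Fin 3} {k : Fin 4} {e e' : G} (h : Opp x I ρ m k e e') :
    ∃ (Q' : Subgroup G) (x' I' J' : Fin 4 → G), Setup Q' (tt z y m) x' I' J' (tt z y (m + 1)) ρ ∧ x' k = e ∧
      rt x' I' k true = e' ∧ ∀ i j w w', Opp x' I' ρ i j w w' ↔ Opp x I ρ (m + i) j w w' := by
  have key : ∀ {Q : Subgroup G} {z : G} {x I J : Fin 4 → G} {y : G} (_ : Setup Q z x I J y ρ) {k : Fin 4} {e e' : G},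
      Opp x I ρ 0 k e e' → ∃ (x' I' J' : Fin 4 → G), Setup Q z x' I' J' y ρ ∧ x' k = e ∧
      rt x' I' k true = e' ∧ ∀ i j w w', Opp x' I' ρ i j w w' ↔ Opp x I ρ i j w w' := by
    intro Q z x I J y S k e e' h
    rcases h with ⟨h1, h2⟩ | ⟨h1, h2⟩
    · refine ⟨x, I, J, S, ?_, ?_, fun _ _ _ _ => Iff.rfl⟩
      · rw [h1, R_zero]; rfl
      · rw [h2, R_zero]
    · refine ⟨_, _, _, S.flip k, ?_, ?_, fun i j w w' => S.opp_flip i k j w w'⟩
      · rw [h1, R_zero]; rfl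
      · rw [h2, R_zero, S.fr.rt_flip_self]; rfl
  rcases fin3 m with rfl | rfl | rfl
  · obtain ⟨x', I', J', h1, h2, h3, h4⟩ := key S h
    exact ⟨Q, x', I', J', h1, h2, h3, fun i j w w' => by rw [h4, zero_add]⟩
  · obtain ⟨x', I', J', h1, h2, h3, h4⟩ := key S.rot ((S.opp_rot 0 k e e').2 h)
    exact ⟨_, x', I', J', h1, h2, h3, fun i j w w' => by rw [h4, S.opp_rot, add_comm]⟩
  · obtain ⟨x', I', J', h1, h2, h3, h4⟩ := key S.rot.rot ((S.rot.opp_rot 0 k e e').2 ((S.opp_rot 1 k e e').2 h))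
    have h5 : y * (z * y) = z := by
      rw [← mul_assoc, S.inv.yz, mul_assoc, S.inv.sq, mul_one]
    rw [h5] at h1
    refine ⟨_, x', I', J', h1, h2, h3, fun i j w w' => ?_⟩
    rw [h4, S.rot.opp_rot, S.opp_rot]
    have : i + 1 + 1 = 2 + i := by
      rcases fin3 i with rfl | rfl | rfl <;> decide
    rw [this]

end Setup

end Cfsg.Agent.TypeD4Three
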