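import Cfsg.Agent.TypeD4Three.PreSetup
import Cfsg.Agent.TypeD4Three.LemmaD
import Cfsg.Agent.TypeD4Three.LocInst

/-!
# S1763, case [P] : frames adapted to a pair (helper951)

`conjQ`, `exists_sgn` : change of signs of the `I k`.  `iso`, `trans`, `norm_idx` for a frame adapted to a pair.
-/

set_option autoImplicit false

namespace Cfsg.Agent.TypeD4Three.SetupOf

open Cfsg.Agent.Co2Type.Quad Cfsg.Agent.TypeD4Three.Coords Cfsg.Agent.TypeD4Three.Local Cfsg.Agent.LargeExtra.Base

variable {G : Type*} [Group G]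

section frame

variable {Q : Subgroup G} {z : G} {x I J : Fin 4 → G} (F : Frame Q z x I J)

include F in
/-- conjugation by an element of `Q` -/
theorem conjQ {q : G} (hq : q ∈ Q) (hJ : ∀ k, q * J k * q⁻¹ = J k) :
    Frame Q z (fun k => q * x k * q⁻¹) (fun k => q * I k * q⁻¹) J := by
  have h1 := F.conj q
  have h2 : q * z * q⁻¹ = z := by rw [F.large.comm_z q hq]; group
  have h3 : Q.map (MulAut.conj q).toMonoidHom = Q := by
    apply le_antisymm
    · rintro _ ⟨r, hr, rfl⟩
      exact Q.mul_mem (Q.mul_mem hq hr) (Q.inv_mem hq)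
    · intro r hr
      refine ⟨q⁻¹ * r * q, Q.mul_mem (Q.mul_mem (Q.inv_mem hq) hr) hq, ?_⟩
      show q * (q⁻¹ * r * q) * q⁻¹ = r
      group
  have h4 : (fun l => q * J l * q⁻¹) = J := by funext l; exact hJ l
  rw [h2, h3, h4] at h1
  exact h1

include F in
/-- change of signs -/
theorem exists_sgn (s : Fin 4 → Prop) : ∃ q ∈ Q, (∀ k, q * J k * q⁻¹ = J k) ∧
    (∀ k, s k → q * I k * q⁻¹ = I k * z) ∧ ∀ k, ¬ s k → q * I k * q⁻¹ = I k := by
  classical
  let w : Fin 4 → G := fun k => if s k then J k else 1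
  have hw : ∀ k, w k = J k ∨ w k = 1 := by
    intro k
    by_cases h : s k
    · left; exact if_pos h
    · right; exact if_neg h
  have hJJ : ∀ i j, J i * J j = J j * J i := by
    intro i j
    by_cases h : i = j
    · rw [h]
    · exact F.J_J i j h
  have hww : ∀ i j, w i * w j = w j * w i := by
    intro i j
    rcases hw i with h | h <;> rcases hw j with h' | h' <;> rw [h, h']
    · exact hJJ i j
    · rw [mul_one, one_mul]
    · rw [mul_one, one_mul]
  have hmem : ∀ k, w k ∈ Q := by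
    intro k
    rcases hw k with h | h <;> rw [h]
    · exact F.J_mem k
    · exact Q.one_mem
  have hwJ : ∀ l k, w l * J k = J k * w l := by
    intro l k
    rcases hw l with h | h <;> rw [h]
    · exact hJJ l k
    · rw [mul_one, one_mul]
  have hwI : ∀ l k, l ≠ k → w l * I k = I k * w l := by
    intro l k hlk
    rcases hw l with h | h <;> rw [h]
    · exact (F.I_J k l hlk.symm).symm
    · rw [mul_one, one_mul]
  refine ⟨prod4 w, prod4_mem hmem, ?_, ?_, ?_⟩
  · intro k
    rw [prod4_conj_single (k := k) hww (fun l _ => hwJ l k), hwJ k k, mul_inv_cancel_right]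
  · intro k hk
    rw [prod4_conj_single (k := k) hww (fun l hl => hwI l k hl)]
    have : w k = J k := if_pos hk
    rw [this, F.J_I k]
    have h1 : J k * z = z * J k := F.J_z k
    calc I k * J k * z * (J k)⁻¹ = I k * (J k * z) * (J k)⁻¹ := by group
      _ = _ := by rw [h1]; group
  · intro k hk
    rw [prod4_conj_single (k := k) hww (fun l hl => hwI l k hl)]
    have : w k = 1 := if_neg hk
    rw [this]; group

/-- elements of `Q` in the same class modulo `z` -/
theorem pr_eq_of {h : Large Q z} {r s : G} (hr : r ∈ Q) (hs : s ∈ Q) (hrs : r = s ∨ r = s * z) :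
    h.pr ⟨r, hr⟩ = h.pr ⟨s, hs⟩ := h.pr_eq_pr.2 hrs

/-- the coordinates only depend on the classes of the `I k`, `J k` -/
theorem phi_eq {h : Large Q z} {inp inp' : Input h} (hu : ∀ k, inp.u k = inp'.u k) (hv : ∀ k, inp.v k = inp'.v k) :
    phi inp = phi inp' := by
  funext w k
  unfold phi
  rw [hu, hv]

end frame

section pair

variable {Q A : Subgroup G} {z a : G} {p : Pair Q z A a} {x I J : Fin 4 → G} (F : Frame Q z x I J)

/-- adapted frame from an adapted input -/
theorem exists_frame_adapted [Finite G] {h : Large Q z} (inp : Input h) (p : Pair Q z A a) :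
    ∃ (x I J : Fin 4 → G) (F : Frame Q z x I J), Adapted p F.input := by
  obtain ⟨inp', -, hA⟩ := exists_adapted p inp
  obtain ⟨x, I, J, F, -, hI, hJ⟩ := inp'.exists_frame
  refine ⟨_, _, _, F, ?_⟩
  have hφ : phi (F.input : Input p.lz) = phi inp' := phi_eq (fun k => hI k) (fun k => hJ k)
  constructor
  · rw [hφ]; exact hA.va
  · intro w; rw [hφ]; exact hA.D w

/-- change of signs preserves adapted frames -/
theorem adapted_conjQ (hA : Adapted p F.input) {q : G} (hq : q ∈ Q) (hJ : ∀ k, q * J k * q⁻¹ = J k) :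
    phi ((conjQ F hq hJ).input : Input p.lz) = phi F.input ∧ Adapted p (conjQ F hq hJ).input := by
  have hφ : phi ((conjQ F hq hJ).input : Input p.lz) = phi F.input := by
    apply phi_eq
    · intro k
      show F.large.pr ⟨q * I k * q⁻¹, _⟩ = F.large.pr ⟨I k, _⟩
      apply pr_eq_of
      rcases F.large.comm q hq (I k) (F.I_mem k) with h | h
      · left; rw [h]; group
      · right
        rw [h]
        have h1 : I k * z = z * I k := F.I_z k
        have h2 : q * z = z * q := F.large.comm_z q hq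
        calc I k * q * z * q⁻¹ = I k * (q * z) * q⁻¹ := by group
          _ = I k * z := by rw [h2]; group
    · intro k; rfl
  refine ⟨hφ, ?_⟩
  constructor
  · rw [hφ]; exact hA.va
  · intro w; rw [hφ]; exact hA.D w

/-- two classes modulo `Q` -/
theorem act_idx {c : G} (hc : c * z = z * c) {k m : Fin 4}
    (h : (∃ q ∈ Q, c * x k * c⁻¹ = x m * q) ∨ ∃ q ∈ Q, c * x k * c⁻¹ = (x m)⁻¹ * q) :
    F.large.act ⟨c, Subgroup.mem_centralizer_singleton_iff.2 hc⟩ * F.input.ξ k *
      (F.large.act ⟨c, Subgroup.mem_centralizer_singleton_iff.2 hc⟩)⁻¹ = F.input.ξ m ∨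
    F.large.act ⟨c, Subgroup.mem_centralizer_singleton_iff.2 hc⟩ * F.input.ξ k *
      (F.large.act ⟨c, Subgroup.mem_centralizer_singleton_iff.2 hc⟩)⁻¹ = (F.input.ξ m)⁻¹ := by
  have hcC : c ∈ Subgroup.centralizer ({z} : Set G) := Subgroup.mem_centralizer_singleton_iff.2 hc
  rcases h with ⟨q, hq, e⟩ | ⟨q, hq, e⟩
  · left
    have hqC : q ∈ Subgroup.centralizer ({z} : Set G) :=
      Subgroup.mem_centralizer_singleton_iff.2 (F.large.comm_z q hq)
    have h1 : (⟨c, hcC⟩ : Subgroup.centralizer ({z} : Set G)) * ⟨x k, F.x_mem k⟩ * ⟨c, hcC⟩⁻¹ =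
      ⟨x m, F.x_mem m⟩ * ⟨q, hqC⟩ := Subtype.ext e
    have h2 := congrArg F.large.act h1
    rw [map_mul, map_mul, map_mul, map_inv, F.large.act_mem ⟨q, hqC⟩ hq, mul_one] at h2
    exact h2
  · right
    have hqC : q ∈ Subgroup.centralizer ({z} : Set G) :=
      Subgroup.mem_centralizer_singleton_iff.2 (F.large.comm_z q hq)
    have h1 : (⟨c, hcC⟩ : Subgroup.centralizer ({z} : Set G)) * ⟨x k, F.x_mem k⟩ * ⟨c, hcC⟩⁻¹ =
      ⟨x m, F.x_mem m⟩⁻¹ * ⟨q, hqC⟩ := Subtype.ext e
    have h2 := congrArg F.large.act h1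
    rw [map_mul, map_mul, map_mul, map_inv, map_inv, F.large.act_mem ⟨q, hqC⟩ hq, mul_one] at h2
    exact h2

/-- the index of the normalised group -/
theorem norm_idx {c : G} (hc : c * z = z * c) {π : Equiv.Perm (Fin 4)} {g : Fin 4 → Equiv.Perm W}
    (H : Rep F.input (F.large.act ⟨c, Subgroup.mem_centralizer_singleton_iff.2 hc⟩) π g) (k : Fin 4) :
    (∃ q ∈ Q, c * x k * c⁻¹ = x (π k) * q) ∨ ∃ q ∈ Q, c * x k * c⁻¹ = (x (π k))⁻¹ * q := by
  obtain ⟨m, hm⟩ := F.norm c hc k
  have hm' := act_idx F hc hm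
  suffices h : m = π k by rw [← h]; exact hm
  by_contra hne
  generalize hf : F.large.act ⟨c, Subgroup.mem_centralizer_singleton_iff.2 hc⟩ = f at H hm'
  -- the component of `f (u k)` at `m` is zero
  have h0 : phi F.input (f (F.input.u k)) m = 0 := by
    obtain ⟨j, rfl⟩ := π.surjective m
    have hjk : j ≠ k := fun h => hne (by rw [h])
    rw [H.2, phi_u, Pi.single_eq_of_ne hjk, (H.1 j).zero]
  have hfix : F.input.ξ m (f (F.input.u k)) = f (F.input.u k) := by
    by_contra h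
    exact (ne_iff F.input m _).1 h h0
  have h1 : (f * F.input.ξ k * f⁻¹) (f (F.input.u k)) = f (F.input.v k) := by
    show f (F.input.ξ k (f⁻¹ (f (F.input.u k)))) = _
    have : f⁻¹ (f (F.input.u k)) = F.input.u k := f.symm_apply_apply _
    rw [this, F.input.ξ_u]
  have h2 : (f * F.input.ξ k * f⁻¹) (f (F.input.u k)) = f (F.input.u k) := by
    rcases hm' with h | h
    · rw [h, hfix]
    · rw [h]
      conv_lhs => rw [← hfix]
      exact (F.input.ξ m).symm_apply_apply _
  have h3 : F.input.v k = F.input.u k := f.injective (h1.symm.trans h2)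
  have h4 := congrFun (congrArg (phi F.input) h3) k
  rw [phi_u, phi_v, Pi.single_eq_same, Pi.single_eq_same] at h4
  exact absurd h4 (by decide)

theorem V4_fix : ∀ π : Equiv.Perm (Fin 4), StarModel.isV π → ∀ k, π k = k → π = 1 := by decide +kernel

theorem V4_ne : ∀ π : Equiv.Perm (Fin 4), π ∈ V4 → π ≠ 1 → ∀ k, π k ≠ k := by decide +kernel

theorem V4_trans : ∀ k l : Fin 4, ∃ π : Equiv.Perm (Fin 4), π ∈ V4 ∧ π k = l := by decide +kernel

theorem comm_RP : ∀ g : Equiv.Perm W, Lin g → g * RP = RP * g → Equiv.Perm.sign g = 1 := by decide +kernel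

/-- the only conjugate of `z` commuting with `z` and `x k` is `z` -/
theorem iso [Finite G] (hA : Adapted p F.input) (g : G) (k : Fin 4)
    (hz : (g * z * g⁻¹) * z = z * (g * z * g⁻¹)) (hx : (g * z * g⁻¹) * x k = x k * (g * z * g⁻¹)) :
    g * z * g⁻¹ = z := by
  have hfin := F.finiteQ
  have ht : IsConj z (g * z * g⁻¹) := isConj_iff.2 ⟨g, rfl⟩
  have ht2 : (g * z * g⁻¹) * (g * z * g⁻¹) = 1 := by
    calc g * z * g⁻¹ * (g * z * g⁻¹) = g * (z * z) * g⁻¹ := by group
      _ = 1 := by rw [F.z_sq]; group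
  have hC1 := Star.star (LocalStar.hyp p hA) ht hz
  have htC : g * z * g⁻¹ ∈ Subgroup.centralizer ({z} : Set G) := Subgroup.mem_centralizer_singleton_iff.2 hz
  obtain ⟨π, γ, H, hV, hs⟩ := (LocalStar.mem_C1_iff p hA htC).1 hC1
  by_contra hne
  -- `act t` commutes with `ξ k`
  have h1 : p.lz.act ⟨g * z * g⁻¹, htC⟩ * F.input.ξ k = F.input.ξ k * p.lz.act ⟨g * z * g⁻¹, htC⟩ := by
    have e : (⟨g * z * g⁻¹, htC⟩ : Subgroup.centralizer ({z} : Set G)) * ⟨x k, F.x_mem k⟩ =
      ⟨x k, F.x_mem k⟩ * ⟨g * z * g⁻¹, htC⟩ := Subtype.ext hx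
    have h2 := congrArg p.lz.act e
    rw [map_mul, map_mul] at h2
    exact h2
  have h2 := (H.mul (rep_xi (inp := (F.input : Input p.lz)) k))
  have h3 := ((rep_xi (inp := (F.input : Input p.lz)) k).mul H)
  rw [h1] at h2
  obtain ⟨-, h4⟩ := h2.unique h3
  have hπk : π k = k := by
    by_contra hπk
    have h5 := congrFun h4 k
    simp only [Equiv.Perm.one_apply, Function.update_self, Function.update_of_ne hπk, Pi.one_apply, one_mul] at h5
    have h6 : RP = 1 := by
      have := congrArg (fun t => (γ k)⁻¹ * t) h5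
      simpa using this
    exact absurd h6 (by decide +kernel)
  have hπ : π = 1 := V4_fix π hV k hπk
  subst hπ
  have h5 := congrFun h4 k
  simp only [Equiv.Perm.one_apply, Function.update_self] at h5
  have h6 := comm_RP _ (H.1 k) h5
  have h7 : ∀ l, Equiv.Perm.sign (γ l) = 1 := fun l => by rw [hs l k, h6]
  have h8 : p.lz.act ⟨g * z * g⁻¹, htC⟩ * p.lz.act ⟨g * z * g⁻¹, htC⟩ = 1 := by
    rw [← map_mul]
    have : (⟨g * z * g⁻¹, htC⟩ * ⟨g * z * g⁻¹, htC⟩ : Subgroup.centralizer ({z} : Set G)) = 1 := Subtype.ext ht2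
    rw [this, map_one]
  have h9 := H.mul H
  rw [h8] at h9
  obtain ⟨-, h10⟩ := h9.unique rep_one
  have h11 : γ = 1 := by
    funext l
    exact w5 _ (H.1 l) (h7 l) (congrFun h10 l)
  rw [h11] at H
  have h12 : p.lz.act ⟨g * z * g⁻¹, htC⟩ = 1 := H.ext rep_one
  have h13 : g * z * g⁻¹ ∈ Q := p.lz.mem_of_act ⟨g * z * g⁻¹, htC⟩ h12
  have h14 := full_of_conj (h := p.lz) F.input h13 rfl hne k
  apply (ne_iff F.input k _).2 h14
  show p.lz.act ⟨x k, F.x_mem k⟩ (p.lz.pr ⟨g * z * g⁻¹, h13⟩) = p.lz.pr ⟨g * z * g⁻¹, h13⟩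
  rw [p.lz.act_pr]
  refine congrArg _ (Subtype.ext ?_)
  show x k * (g * z * g⁻¹) * (x k)⁻¹ = g * z * g⁻¹
  rw [← hx]; group

/-- `C(z)` is transitive on the groups `⟨x k⟩` modulo `Q` -/
theorem trans [Finite G] (hA : Adapted p F.input) (k l : Fin 4) : ∃ c, c * z = z * c ∧ ∃ q ∈ Q,
    c * x k * c⁻¹ = x l * q ∨ c * x k * c⁻¹ = (x l)⁻¹ * q := by
  obtain ⟨π, hπ, hkl⟩ := V4_trans k l
  obtain ⟨f, hf, H⟩ := exists_X_rep p hA hπ 0
  obtain ⟨c, -, rfl⟩ := p.mem_X.1 hf
  have hc : (c : G) * z = z * c := Subgroup.mem_centralizer_singleton_iff.1 c.2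
  refine ⟨c, hc, ?_⟩
  rcases norm_idx F hc (π := π) H k with ⟨q, hq, e⟩ | ⟨q, hq, e⟩
  · exact ⟨q, hq, Or.inl (by rw [e, hkl])⟩
  · exact ⟨q, hq, Or.inr (by rw [e, hkl])⟩

end pair

end Cfsg.Agent.TypeD4Three.SetupOf
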