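import Cfsg.Agent.TypeD4Three.StarEdge

/-!
# S1763, case [P]: piece (*): `Z ∩ C ⊆ C1` (helper948)

`star`: under `Hyp F`, each conjugate of `z` commuting with `z` lies in `C1`.
-/

set_option autoImplicit false

namespace Cfsg.Agent.TypeD4Three.Star

open Cfsg.Agent.Co2Type.Quad Cfsg.Agent.LargeExtra.Base Cfsg.Agent.LargeExtra.Local
open Cfsg.Agent.TypeD4Three.StarModel Cfsg.Agent.TypeD4Three.StarFrame Cfsg.Agent.TypeD4Three.StarEdge

variable {G : Type*} [Group G] {Q : Subgroup G} {z : G} {lz : Large Q z}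

/-- an element commuting with `z`, as an element of the centralizer -/
def cen {z t : G} (h : t * z = z * t) : ↥(Subgroup.centralizer ({z} : Set G)) :=
  ⟨t, Subgroup.mem_centralizer_singleton_iff.2 h⟩

theorem cen_mul {z t u : G} (h : t * z = z * t) (h' : u * z = z * u) (h'' : t * u * z = z * (t * u)) :
    cen h'' = cen h * cen h' := rfl

/-- the vector `v` lifts to an element of `Q` commuting with `t` -/
def inR (lz : Large Q z) (t : G) (v : lz.V) : Prop := ∃ r : Q, lz.pr r = v ∧ (r : G) * t = t * r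

section base

variable {t : G}

theorem inR_add {v w : lz.V} (hv : inR lz t v) (hw : inR lz t w) : inR lz t (v + w) := by
  obtain ⟨r, hr, hrt⟩ := hv
  obtain ⟨s, hs, hst⟩ := hw
  refine ⟨r * s, by rw [lz.pr_mul, hr, hs], ?_⟩
  show (r : G) * s * t = t * (r * s)
  calc (r : G) * s * t = r * (s * t) := by group
    _ = r * t * s := by rw [hst]; group
    _ = t * (r * s) := by rw [hrt]; group

theorem act_act (ht : t * t = 1) (htz : t * z = z * t) (v : lz.V) :
    lz.act (cen htz) (lz.act (cen htz) v) = v := by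
  have h1 : cen htz * cen htz = 1 := Subtype.ext ht
  have h2 : lz.act (cen htz) * lz.act (cen htz) = 1 := by rw [← map_mul, h1, map_one]
  exact congrArg (fun e : lz.V ≃ₗ[ZMod 2] lz.V => e v) h2

theorem inR_fix (htz : t * z = z * t) {v : lz.V} (hv : inR lz t v) : lz.act (cen htz) v = v := by
  obtain ⟨r, hr, hrt⟩ := hv
  rw [← hr, lz.act_pr]
  congr 1
  apply Subtype.ext
  rw [lz.conjQ_coe]
  show t * (r : G) * t⁻¹ = r
  rw [← hrt]; group

theorem conj_of_fix (htz : t * z = z * t) {v : lz.V} (hv : lz.act (cen htz) v = v) {r : Q}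
    (hr : lz.pr r = v) : t * (r : G) * t⁻¹ = r ∨ t * (r : G) * t⁻¹ = r * z := by
  rw [← hr, lz.act_pr] at hv
  have := lz.pr_eq_pr.1 hv
  rw [lz.conjQ_coe] at this
  exact this

theorem conj_of_not (htz : t * z = z * t) {v : lz.V} (hv : lz.act (cen htz) v = v)
    (hn : ¬ inR lz t v) {r : Q} (hr : lz.pr r = v) : t * (r : G) * t⁻¹ = r * z := by
  rcases conj_of_fix htz hv hr with h | h
  · exfalso
    apply hn
    refine ⟨r, hr, ?_⟩
    calc (r : G) * t = t * r * t⁻¹ * t := by rw [h]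
      _ = t * r := by group
  · exact h

theorem inR_or (htz : t * z = z * t) {v w : lz.V} (hv : lz.act (cen htz) v = v)
    (hw : lz.act (cen htz) w = w) (hnv : ¬ inR lz t v) (hnw : ¬ inR lz t w) : inR lz t (v + w) := by
  obtain ⟨r, hr⟩ := lz.pr_surjective v
  obtain ⟨s, hs⟩ := lz.pr_surjective w
  have h1 := conj_of_not htz hv hnv hr
  have h2 := conj_of_not htz hw hnw hs
  refine ⟨r * s, by rw [lz.pr_mul, hr, hs], ?_⟩
  show (r : G) * s * t = t * (r * s)
  have h3 : t * (r * s) * t⁻¹ = r * s := by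
    calc t * ((r : G) * s) * t⁻¹ = (t * r * t⁻¹) * (t * s * t⁻¹) := by group
      _ = r * (z * s) * z := by rw [h1, h2]; group
      _ = r * s * (z * z) := by rw [← lz.comm_z s s.2]; group
      _ = r * s := by rw [lz.z_sq, mul_one]
  calc (r : G) * s * t = (t * (r * s) * t⁻¹) * t := by rw [h3]
    _ = t * (r * s) := by group

theorem inR_of (ht : t * t = 1) (htz : t * z = z * t) {v : lz.V}
    (hb : lz.b v (lz.act (cen htz) v) = 0) :
    ∃ r : Q, lz.pr r = v + lz.act (cen htz) v ∧ (r : G) * t = t * r ∧ (r : G) * r = 1 := by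
  obtain ⟨q, rfl⟩ := lz.pr_surjective v
  rw [lz.act_pr] at hb ⊢
  have h1 := (lz.b_pr q (lz.conjQ (cen htz) q)).1 hb
  rw [lz.conjQ_coe] at h1
  have h1' : (q : G) * (t * q * t⁻¹) = t * q * t⁻¹ * q := h1
  have hti : t⁻¹ = t := inv_eq_of_mul_eq_one_left ht
  have hqq : ∃ e : G, (q : G) * q = e ∧ e * e = 1 ∧ e * t = t * e := by
    rcases lz.sq q q.2 with h | h
    · exact ⟨1, h, one_mul _, by rw [one_mul, mul_one]⟩
    · exact ⟨z, h, lz.z_sq, htz.symm⟩
  obtain ⟨e, he1, he2, he3⟩ := hqq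
  refine ⟨q * lz.conjQ (cen htz) q, by rw [lz.pr_mul], ?_, ?_⟩
  · show (q : G) * (t * q * t⁻¹) * t = t * (q * (t * q * t⁻¹))
    calc (q : G) * (t * q * t⁻¹) * t = t * q * t⁻¹ * q * t := by rw [h1']
      _ = t * q * (t * q * t⁻¹) * (t * t) := by rw [hti]; simp only [mul_assoc, ht, mul_one]
      _ = t * (q * (t * q * t⁻¹)) := by rw [ht, mul_one, mul_assoc]
  · show (q : G) * (t * q * t⁻¹) * (q * (t * q * t⁻¹)) = 1
    calc (q : G) * (t * q * t⁻¹) * (q * (t * q * t⁻¹)) = q * (t * q * t⁻¹ * q) * (t * q * t⁻¹) := by group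
      _ = q * (q * (t * q * t⁻¹)) * (t * q * t⁻¹) := by rw [h1']
      _ = (q * q) * (t * (q * q) * t⁻¹) := by group
      _ = e * (t * e * t⁻¹) := by rw [he1]
      _ = e * e := by rw [← he3]; group
      _ = 1 := he2

theorem not_inR (ht : t * t = 1) (htz : t * z = z * t) {v : lz.V}
    (hb : lz.b v (lz.act (cen htz) v) = 1) : ¬ inR lz t (v + lz.act (cen htz) v) := by
  obtain ⟨q, rfl⟩ := lz.pr_surjective v
  rw [lz.act_pr] at hb ⊢
  have h1 := (lz.b_pr_one q (lz.conjQ (cen htz) q)).1 hb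
  rw [lz.conjQ_coe] at h1
  have h1' : ¬ (q : G) * (t * q * t⁻¹) = t * q * t⁻¹ * q := by
    intro h'
    have h2 := (lz.b_pr q (lz.conjQ (cen htz) q)).2 h'
    rw [h2] at hb
    exact absurd hb (by decide)
  have hti : t⁻¹ = t := inv_eq_of_mul_eq_one_left ht
  rintro ⟨r, hr, hrt⟩
  rw [← lz.pr_mul] at hr
  have h2 := lz.pr_eq_pr.1 hr
  apply h1'
  have h3 : ∃ e : G, (r : G) = q * (t * q * t⁻¹) * e ∧ e * t = t * e := by
    rcases h2 with h | h
    · exact ⟨1, by rw [mul_one]; exact h, by rw [one_mul, mul_one]⟩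
    · exact ⟨z, h, htz.symm⟩
  obtain ⟨e, he, het⟩ := h3
  have h4 : t * (r : G) * t⁻¹ = r := by rw [← hrt]; group
  rw [he] at h4
  have h5 : t * ((q : G) * (t * q * t⁻¹) * e) * t⁻¹ = (t * q * t⁻¹ * q) * e := by
    calc t * ((q : G) * (t * q * t⁻¹) * e) * t⁻¹
        = t * q * t * q * t⁻¹ * (e * t⁻¹) := by group
      _ = t * q * t * q * t⁻¹ * (e * t) := by rw [hti]
      _ = t * q * t * q * t⁻¹ * (t * e) := by rw [het]
      _ = t * q * t * q * e := by group
      _ = (t * q * t⁻¹ * q) * e := by rw [hti]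
  rw [h5] at h4
  exact (mul_right_cancel h4).symm

end base

section frame

variable {F : Frame lz} {t : G}

theorem b_sg_same (k : Fin 4) (x y : W) : lz.b (F.sg k x) (F.sg k y) = om x y := by
  rw [F.hb, Finset.sum_eq_single k]
  · rw [F.sg_same, F.sg_same]
  · intro j _ hj
    rw [F.sg_ne hj, F.sg_ne hj, om_zero_left]
  · intro h; exact absurd (Finset.mem_univ k) h

theorem b_sg_ne {k l : Fin 4} (h : k ≠ l) (x y : W) : lz.b (F.sg k x) (F.sg l y) = 0 := by
  rw [F.hb]
  refine Finset.sum_eq_zero fun j _ => ?_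
  by_cases hj : j = k
  · subst hj
    rw [F.sg_ne h y, om_zero_right]
  · rw [F.sg_ne hj x, om_zero_left]

theorem sg_add (k : Fin 4) (x y : W) : F.sg k (x + y) = F.sg k x + F.sg k y := by
  apply F.φ.injective
  rw [map_add, F.φ_sg, F.φ_sg, F.φ_sg, Pi.single_add]

theorem sg_zero (k : Fin 4) : F.sg k 0 = 0 := by
  apply F.φ.injective
  rw [F.φ_sg, Pi.single_zero, map_zero]

theorem g_sq (ht : t * t = 1) (htz : t * z = z * t) (k : Fin 4) (x : W) :
    F.g (cen htz) (F.π (cen htz) k) (F.g (cen htz) k x) = x := by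
  have h1 : cen htz * cen htz = 1 := Subtype.ext ht
  have h2 := F.g_mul (cen htz) (cen htz) k
  rw [h1, F.g_one] at h2
  exact (congrArg (fun e : Equiv.Perm W => e x) h2).symm

theorem π_sq (ht : t * t = 1) (htz : t * z = z * t) : F.π (cen htz) * F.π (cen htz) = 1 := by
  have h1 : cen htz * cen htz = 1 := Subtype.ext ht
  rw [← F.π_mul, h1, F.π_one]

theorem sgn_sq (ht : t * t = 1) (htz : t * z = z * t) (k : Fin 4) :
    F.sgn (cen htz) (F.π (cen htz) k) * F.sgn (cen htz) k = 1 := by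
  have h1 : cen htz * cen htz = 1 := Subtype.ext ht
  rw [← F.sgn_mul, h1, F.sgn_one]

/-- the vector moved by `t` along a non-fixed plane -/
theorem inR_move (ht : t * t = 1) (htz : t * z = z * t) {a : Fin 4} (ha : F.π (cen htz) a ≠ a) (x : W) :
    ∃ r : Q, lz.pr r = F.sg a x + F.sg (F.π (cen htz) a) (F.g (cen htz) a x) ∧ (r : G) * t = t * r ∧
      (r : G) * r = 1 := by
  have h := inR_of (lz := lz) ht htz (v := F.sg a x) (by rw [F.act_sg]; exact b_sg_ne (Ne.symm ha) _ _)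
  rwa [F.act_sg] at h

end frame

section inner

variable {F : Frame lz} {t : G}

theorem pr_mul_z (r : Q) {s : Q} (hs : (s : G) = r * z) : lz.pr s = lz.pr r :=
  lz.pr_eq_pr.2 (Or.inr hs)

/-- the homomorphism at `t` -/
theorem exists_rho (ht : IsConj z t) : ∃ ρ : ∀ r : G, r * t = t * r → Equiv.Perm (Fin 4),
    (∀ r hr s hs hrs, ρ (r * s) hrs = ρ r hr * ρ s hs) ∧ ∀ r hr, ρ r hr = 1 → In F t r := by
  obtain ⟨g, hg⟩ := isConj_iff.1 ht
  have key : ∀ r, r * t = t * r → (g⁻¹ * r * g) * z = z * (g⁻¹ * r * g) := by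
    intro r hr
    calc g⁻¹ * r * g * z = g⁻¹ * (r * (g * z * g⁻¹)) * g := by group
      _ = g⁻¹ * (r * t) * g := by rw [hg]
      _ = g⁻¹ * (t * r) * g := by rw [hr]
      _ = g⁻¹ * (g * z * g⁻¹ * r) * g := by rw [hg]
      _ = z * (g⁻¹ * r * g) := by group
  refine ⟨fun r hr => F.rho4 (cen (key r hr)), ?_, ?_⟩
  · intro r hr s hs hrs
    have h1 : cen (key (r * s) hrs) = cen (key r hr) * cen (key s hs) := by
      apply Subtype.ext
      show g⁻¹ * (r * s) * g = g⁻¹ * r * g * (g⁻¹ * s * g)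
      group
    show F.rho4 (cen (key (r * s) hrs)) = F.rho4 (cen (key r hr)) * F.rho4 (cen (key s hs))
    rw [h1, map_mul]
  · intro r hr h
    rw [in_iff hg]
    exact ⟨_, F.in1_of_rho4 h⟩

/-- an inner element of `Q` commutes with everything in `C_Q(t)` -/
theorem comm_of_in (H : Hyp F) (htC : t ∉ F.C1) {w : Q} (hin : In F t w) {r : Q} (hr : (r : G) * t = t * r) :
    lz.b (lz.pr w) (lz.pr r) = 0 := by
  rw [lz.b_pr]
  rcases lz.comm w w.2 r r.2 with h | h
  · exact h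
  · exfalso
    apply not_in_z H htC
    have h1 := in_conj_mem hin hr
    have h2 := in_mul (in_inv h1) hin
    have h3 : (r : G)⁻¹ * w = w * z * (r : G)⁻¹ := by
      calc (r : G)⁻¹ * w = (r : G)⁻¹ * (w * r) * (r : G)⁻¹ := by group
        _ = (r : G)⁻¹ * (r * w * z) * (r : G)⁻¹ := by rw [h]
        _ = w * z * (r : G)⁻¹ := by group
    have e : ((r : G) * w * (r : G)⁻¹)⁻¹ * w = z := by
      calc ((r : G) * w * (r : G)⁻¹)⁻¹ * w = r * (w : G)⁻¹ * ((r : G)⁻¹ * w) := by group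
        _ = r * (w : G)⁻¹ * (w * z * (r : G)⁻¹) := by rw [h3]
        _ = (r * z) * (r : G)⁻¹ := by group
        _ = z * r * (r : G)⁻¹ := by rw [lz.comm_z r r.2]
        _ = z := by group
    rwa [e] at h2

/-- `t` of order 2 fixing every plane: the case of two minus signs is impossible. -/
theorem alpha_one (H : Hyp F) (ht : IsConj z t) (htz : t * z = z * t) (htC : t ∉ F.C1)
    (hπ : F.π (cen htz) = 1) : False := by
  have ht2 := sq_of_isConj lz ht
  have hsgn : ∃ k l, F.sgn (cen htz) k ≠ F.sgn (cen htz) l := by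
    by_contra hcon
    push Not at hcon
    exact htC ⟨Subgroup.mem_centralizer_singleton_iff.2 htz,
      show isV (F.π (cen htz)) by rw [hπ]; exact isV_one, hcon⟩
  have hcomb : ∀ e : Fin 4 → ℤˣ, ∏ k, e k = 1 → (∃ k l, e k ≠ e l) →
      ∃ a b c d : Fin 4, a ≠ b ∧ a ≠ c ∧ a ≠ d ∧ b ≠ c ∧ b ≠ d ∧ c ≠ d ∧ e a = -1 ∧ e b = -1 ∧
        e c = 1 ∧ e d = 1 := by decide +kernel
  obtain ⟨a, b, c, d, hab, hac, had, hbc, hbd, hcd, ea, eb, ec, ed⟩ := hcomb _ (F.sgn_prod _) hsgn
  have hfix : ∀ k, F.π (cen htz) k = k := fun k => by rw [hπ]; rfl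
  have hgg : ∀ k x, F.g (cen htz) k (F.g (cen htz) k x) = x := by
    intro k x
    have := g_sq (F := F) ht2 htz k x
    rwa [hfix k] at this
  have hact : ∀ k x, lz.act (cen htz) (F.sg k x) = F.sg k (F.g (cen htz) k x) := by
    intro k x
    rw [F.act_sg, hfix k]
  have hc : ∀ x, F.g (cen htz) c x = x := even_invol _ (F.gadd _ c) (hgg c) ec
  have hd : ∀ x, F.g (cen htz) d x = x := even_invol _ (F.gadd _ d) (hgg d) ed
  obtain ⟨i, ⟨hi0, hi1, hi2⟩, v, hv1, hv2⟩ := odd_invol _ ⟨F.gadd _ a, hgg a, ea⟩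
  have hni : ¬ inR lz t (F.sg a i) := by
    have := not_inR (lz := lz) ht2 htz (v := F.sg a v) (by rw [hact, b_sg_same]; exact hv2)
    rwa [hact, ← sg_add, hv1] at this
  -- the elements `r_x`
  have hr : ∀ x : W × W, ∃ r : Q, (r : G) * t = t * r ∧ F.φ (lz.pr r) c = x.1 ∧
      F.φ (lz.pr r) d = x.2 ∧ (F.φ (lz.pr r) a = 0 ∨ F.φ (lz.pr r) a = i) ∧ F.φ (lz.pr r) b = 0 := by
    intro x
    have e1 : ∀ k, F.φ (F.sg c x.1 + F.sg d x.2) k =
        (Pi.single c x.1 : Fin 4 → W) k + (Pi.single d x.2 : Fin 4 → W) k := by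
      intro k; rw [map_add, F.φ_sg, F.φ_sg]; rfl
    by_cases h : inR lz t (F.sg c x.1 + F.sg d x.2)
    · obtain ⟨r, hr, hrt⟩ := h
      refine ⟨r, hrt, ?_, ?_, Or.inl ?_, ?_⟩
      · rw [hr, e1, Pi.single_eq_same, Pi.single_eq_of_ne hcd, add_zero]
      · rw [hr, e1, Pi.single_eq_same, Pi.single_eq_of_ne hcd.symm, zero_add]
      · rw [hr, e1, Pi.single_eq_of_ne hac, Pi.single_eq_of_ne had, add_zero]
      · rw [hr, e1, Pi.single_eq_of_ne hbc, Pi.single_eq_of_ne hbd, add_zero]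
    · obtain ⟨r, hr, hrt⟩ := inR_or htz (v := F.sg c x.1 + F.sg d x.2) (w := F.sg a i)
        (by rw [map_add, hact, hact, hc, hd]) (by rw [hact, hi1]) h hni
      have e2 : ∀ k, F.φ (lz.pr r) k = (Pi.single c x.1 : Fin 4 → W) k + (Pi.single d x.2 : Fin 4 → W) k +
          (Pi.single a i : Fin 4 → W) k := by
        intro k; rw [hr, map_add, Pi.add_apply, e1, F.φ_sg]
      refine ⟨r, hrt, ?_, ?_, Or.inr ?_, ?_⟩
      · rw [e2, Pi.single_eq_same, Pi.single_eq_of_ne hcd, Pi.single_eq_of_ne hac.symm, add_zero,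
          add_zero]
      · rw [e2, Pi.single_eq_same, Pi.single_eq_of_ne hcd.symm, Pi.single_eq_of_ne had.symm, zero_add,
          add_zero]
      · rw [e2, Pi.single_eq_of_ne hac, Pi.single_eq_of_ne had, Pi.single_eq_same, add_zero, zero_add]
      · rw [e2, Pi.single_eq_of_ne hbc, Pi.single_eq_of_ne hbd, Pi.single_eq_of_ne hab.symm, add_zero,
          add_zero]
  -- inner elements have trivial `c`, `d` components
  have hin : ∀ w : Q, (w : G) * t = t * w → In F t w → F.φ (lz.pr w) c = 0 ∧ F.φ (lz.pr w) d = 0 := by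
    intro w hw hwin
    have ha : F.φ (lz.pr w) a = 0 ∨ F.φ (lz.pr w) a = i := by
      apply hi2
      have h1 := F.hact (cen htz) (lz.pr w) a
      rw [inR_fix htz ⟨w, rfl, hw⟩, hfix a] at h1
      exact h1.symm
    have hpair : ∀ x : W × W, om (F.φ (lz.pr w) c) x.1 + om (F.φ (lz.pr w) d) x.2 = 0 := by
      intro x
      obtain ⟨r, hrt, r1, r2, r3, r4⟩ := hr x
      have h1 := comm_of_in H htC hwin hrt
      rw [F.hb] at h1
      have hsum : ∀ f : Fin 4 → ZMod 2, ∑ k, f k = f a + f b + f c + f d := by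
        intro f
        have : (Finset.univ : Finset (Fin 4)) = {a, b, c, d} := by
          have hcomb2 : ∀ a b c d : Fin 4, a ≠ b → a ≠ c → a ≠ d → b ≠ c → b ≠ d → c ≠ d →
              (Finset.univ : Finset (Fin 4)) = {a, b, c, d} := by decide +kernel
          exact hcomb2 a b c d hab hac had hbc hbd hcd
        rw [this, Finset.sum_insert, Finset.sum_insert, Finset.sum_insert, Finset.sum_singleton]
        · ring
        · simpa using hcd
        · simpa using ⟨hbc, hbd⟩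
        · simpa using ⟨hab, hac, had⟩
      rw [hsum, r1, r2, r4, om_zero_right] at h1
      have h2 : om (F.φ (lz.pr w) a) (F.φ (lz.pr r) a) = 0 := by
        rcases ha with h | h <;> rcases r3 with h' | h' <;> rw [h, h'] <;>
          first | exact om_zero_left _ | exact om_zero_right _ | exact om_self _
      rw [h2, zero_add, zero_add] at h1
      exact h1
    constructor
    · apply om_nondeg
      intro y
      have := hpair (y, 0)
      rwa [om_zero_right, add_zero] at this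
    · apply om_nondeg
      intro y
      have := hpair (0, y)
      rwa [om_zero_right, zero_add] at this
  obtain ⟨ρ, ρmul, ρin⟩ := exists_rho (F := F) ht
  choose r hrt r1 r2 _ _ using hr
  -- elements `r_x z^δ`
  let m : (W × W) × Bool → Q := fun p => if p.2 then r p.1 * ⟨z, lz.z_mem⟩ else r p.1
  have hm : ∀ p, (m p : G) * t = t * m p := by
    intro p
    show ((if p.2 then r p.1 * ⟨z, lz.z_mem⟩ else r p.1 : Q) : G) * t =
      t * ((if p.2 then r p.1 * ⟨z, lz.z_mem⟩ else r p.1 : Q) : G)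
    split_ifs
    · show (r p.1 : G) * z * t = t * (r p.1 * z)
      rw [mul_assoc, ← htz, ← mul_assoc, hrt]
      group
    · exact hrt _
  have hmpr : ∀ p, lz.pr (m p) = lz.pr (r p.1) := by
    intro p
    show lz.pr (if p.2 then r p.1 * ⟨z, lz.z_mem⟩ else r p.1 : Q) = _
    split_ifs
    · exact pr_mul_z _ rfl
    · rfl
  have hinj : Function.Injective fun p => ρ (m p) (hm p) := by
    intro p p' hpp
    have hpp' : ρ (m p) (hm p) = ρ (m p') (hm p') := hpp
    have hw : (((m p)⁻¹ * m p' : Q) : G) * t = t * ((m p)⁻¹ * m p' : Q) := by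
      show (m p : G)⁻¹ * m p' * t = t * ((m p : G)⁻¹ * m p')
      have h1 : (m p : G)⁻¹ * t = t * (m p : G)⁻¹ := by
        rw [inv_mul_eq_iff_eq_mul, ← mul_assoc, hm p, mul_assoc, mul_inv_cancel, mul_one]
      rw [mul_assoc, hm p', ← mul_assoc, h1, mul_assoc]
    have hw1 : ρ ((m p)⁻¹ * m p' : Q) hw = 1 := by
      have h2 : (m p : G) * ((m p)⁻¹ * m p' : Q) = m p' := by
        show (m p : G) * ((m p : G)⁻¹ * m p') = m p'
        group
      have h3 := ρmul (m p) (hm p) _ hw (by rw [h2]; exact hm p')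
      have h4 : ρ ((m p : G) * ((m p)⁻¹ * m p' : Q)) (by rw [h2]; exact hm p') = ρ (m p') (hm p') := by
        congr 1
      rw [h4, ← hpp'] at h3
      exact (mul_eq_left.1 h3.symm)
    have hw2 := ρin _ _ hw1
    obtain ⟨w1, w2⟩ := hin _ hw hw2
    rw [lz.pr_mul, lz.pr_inv, lz.neg_eq, hmpr, hmpr, map_add, Pi.add_apply, r1, r1] at w1
    rw [lz.pr_mul, lz.pr_inv, lz.neg_eq, hmpr, hmpr, map_add, Pi.add_apply, r2, r2] at w2
    have haddW : ∀ x y : W, x + y = 0 → x = y := by decide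
    have hx : p.1 = p'.1 := Prod.ext (haddW _ _ w1) (haddW _ _ w2)
    obtain ⟨x, δ⟩ := p
    obtain ⟨x', δ'⟩ := p'
    simp only at hx
    subst hx
    by_cases hδ : δ = δ'
    · rw [hδ]
    · exfalso
      apply not_in_z H htC
      have hz : (((m (x, δ))⁻¹ * m (x, δ') : Q) : G) = z := by
        cases δ <;> cases δ'
        · exact absurd rfl hδ
        · show (r x : G)⁻¹ * (r x * z) = z
          group
        · show (r x * z : G)⁻¹ * r x = z
          rw [mul_inv_rev, lz.z_inv]; group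
        · exact absurd rfl hδ
      rwa [hz] at hw2
  have hcard := Fintype.card_le_of_injective _ hinj
  rw [Fintype.card_prod, Fintype.card_prod, Fintype.card_perm] at hcard
  revert hcard
  decide

/-- lifts of `A_x = x + x^t` (`x` in a plane moved by `t`) which are never inner: impossible -/
theorem alpha_fam (H : Hyp F) (ht : IsConj z t) (htz : t * z = z * t) (htC : t ∉ F.C1) {a : Fin 4}
    (ha : F.π (cen htz) a ≠ a)
    (hn : ∀ (x : W) (r : Q), x ≠ 0 → (r : G) * t = t * r →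
      lz.pr r = F.sg a x + F.sg (F.π (cen htz) a) (F.g (cen htz) a x) → ¬ In F t r) : False := by
  have ht2 := sq_of_isConj lz ht
  obtain ⟨ρ, ρmul, ρin⟩ := exists_rho (F := F) ht
  obtain ⟨r, hr, hrt, hr2⟩ := inR_move (F := F) ht2 htz ha (1, 0)
  obtain ⟨s, hs, hst, hs2⟩ := inR_move (F := F) ht2 htz ha (0, 1)
  have hzt : z * t = t * z := htz.symm
  have hcomm : (r : G) * s = s * r := by
    rw [← lz.b_pr, hr, hs, map_add, map_add lz.b, LinearMap.add_apply, LinearMap.add_apply,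
      b_sg_same, b_sg_same, b_sg_ne (Ne.symm ha), b_sg_ne ha, om_map _ (F.gadd _ a)]
    decide
  have hadd : lz.pr (r * s) = F.sg a (1, 1) + F.sg (F.π (cen htz) a) (F.g (cen htz) a (1, 1)) := by
    have e1 : ((1, 1) : W) = (1, 0) + (0, 1) := by decide
    rw [lz.pr_mul, hr, hs, e1, F.gadd, sg_add, sg_add]
    abel
  have hrz : (r : G) * z * t = t * (r * z) := by
    rw [mul_assoc, hzt, ← mul_assoc, hrt, mul_assoc]
  have hsz : (s : G) * z * t = t * (s * z) := by
    rw [mul_assoc, hzt, ← mul_assoc, hst, mul_assoc]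
  have hrs : (r : G) * s * t = t * (r * s) := by
    rw [mul_assoc, hst, ← mul_assoc, hrt, mul_assoc]
  have hrsz : (r : G) * s * z * t = t * (r * s * z) := by
    rw [mul_assoc, hzt, ← mul_assoc, hrs, mul_assoc]
  have n1 : ρ z hzt ≠ 1 := fun h => not_in_z H htC (ρin _ _ h)
  have n2 : ρ r hrt ≠ 1 := fun h => hn (1, 0) r (by decide) hrt hr (ρin _ _ h)
  have ρ1 : ∀ h : (1 : G) * t = t * 1, ρ 1 h = 1 := by
    intro h
    have := ρmul 1 h 1 h (by rw [one_mul, one_mul, mul_one])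
    have h2 : ρ (1 * 1) (by rw [one_mul, one_mul, mul_one]) = ρ 1 h := by congr 1; exact one_mul _
    rw [h2] at this
    exact left_eq_mul.1 this
  have ρsq : ∀ (u : G) (hu : u * t = t * u), u * u = 1 → ρ u hu * ρ u hu = 1 := by
    intro u hu h2
    have h3 : u * u * t = t * (u * u) := by rw [h2, one_mul, mul_one]
    rw [← ρmul u hu u hu h3, ← ρ1 (by rw [one_mul, mul_one])]
    congr 1
  have n3 : ρ r hrt ≠ ρ z hzt := by
    intro h
    have h1 := ρmul r hrt z hzt hrz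
    rw [h, ρsq z hzt lz.z_sq] at h1
    exact hn (1, 0) (r * ⟨z, lz.z_mem⟩) (by decide) hrz (by rw [← hr]; exact pr_mul_z r rfl)
      (ρin _ _ h1)
  have ρcomm : ∀ (u v : G) (hu : u * t = t * u) (hv : v * t = t * v), u * v = v * u →
      ρ u hu * ρ v hv = ρ v hv * ρ u hu := by
    intro u v hu hv huv
    have h1 : u * v * t = t * (u * v) := by rw [mul_assoc, hv, ← mul_assoc, hu, mul_assoc]
    have h2 : v * u * t = t * (v * u) := by rw [← huv]; exact h1
    rw [← ρmul u hu v hv h1, ← ρmul v hv u hu h2]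
    congr 1
  rcases elem_ab (ρ r hrt) (ρ z hzt) (ρsq r hrt hr2) (ρsq z hzt lz.z_sq)
      (ρcomm _ _ _ _ (lz.comm_z r r.2)) n2 n1 n3 (ρ s hst) (ρsq s hst hs2)
      (ρcomm _ _ _ _ hcomm) (ρcomm _ _ _ _ (lz.comm_z s s.2).symm) with h | h | h | h
  · exact hn (0, 1) s (by decide) hst hs (ρin _ _ h)
  · -- `ρ s = ρ r`
    have h1 := ρmul r hrt s hst hrs
    rw [h, ρsq r hrt hr2] at h1
    exact hn (1, 1) (r * s) (by decide) hrs hadd (ρin _ _ h1)
  · have h1 := ρmul s hst z hzt hsz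
    rw [h, ρsq z hzt lz.z_sq] at h1
    exact hn (0, 1) (s * ⟨z, lz.z_mem⟩) (by decide) hsz (by rw [← hs]; exact pr_mul_z s rfl)
      (ρin _ _ h1)
  · have h1 := ρmul r hrt s hst hrs
    have h2 := ρmul (r * s) hrs z hzt hrsz
    rw [h1, h, ← mul_assoc, ρsq r hrt hr2, one_mul, ρsq z hzt lz.z_sq] at h2
    exact hn (1, 1) (r * s * ⟨z, lz.z_mem⟩) (by decide) hrsz
      (by rw [← hadd]; exact pr_mul_z (r * s) rfl) (ρin _ _ h2)

/-- **alpha**: a conjugate of `z` commuting with `z` acting on the planes by an element of the four-group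
lies in `C1`. -/
theorem alpha (H : Hyp F) (ht : IsConj z t) (htz : t * z = z * t) (hV : isV (F.π (cen htz))) :
    t ∈ F.C1 := by
  by_contra htC
  by_cases hπ : F.π (cen htz) = 1
  · exact alpha_one H ht htz htC hπ
  have ht2 := sq_of_isConj lz ht
  have hcomb : ∀ p : Equiv.Perm (Fin 4), isV p → p ≠ 1 → ∃ a c : Fin 4, a ≠ c ∧ a ≠ p c ∧ p a ≠ a ∧
      p c ≠ c ∧ p a ≠ c ∧ p a ≠ p c ∧ ∀ k, k = a ∨ k = p a ∨ k = c ∨ k = p c := by decide +kernel
  obtain ⟨a, c, h1, h2, h3, h4, h5, h6, h7⟩ := hcomb _ hV hπ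
  by_cases hA : ∃ (x : W) (r : Q), x ≠ 0 ∧ (r : G) * t = t * r ∧
      lz.pr r = F.sg a x + F.sg (F.π (cen htz) a) (F.g (cen htz) a x) ∧ In F t r
  · obtain ⟨x, r, hx, hrt, hr, hrin⟩ := hA
    refine alpha_fam H ht htz htC h4 fun y s hy hst hs hsin => ?_
    have hrs : ((r * s : Q) : G) * t = t * (r * s : Q) := by
      show (r : G) * s * t = t * (r * s)
      rw [mul_assoc, hst, ← mul_assoc, hrt, mul_assoc]
    refine not_in_wt4 H htz htC hrs ?_ (in_mul hrin hsin)
    have e : ∀ k, F.φ (lz.pr (r * s)) k = (Pi.single a x : Fin 4 → W) k +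
        (Pi.single (F.π (cen htz) a) (F.g (cen htz) a x) : Fin 4 → W) k +
        ((Pi.single c y : Fin 4 → W) k +
        (Pi.single (F.π (cen htz) c) (F.g (cen htz) c y) : Fin 4 → W) k) := by
      intro k
      rw [lz.pr_mul, hr, hs, map_add, map_add, map_add, F.φ_sg, F.φ_sg, F.φ_sg, F.φ_sg]
      rfl
    intro k
    rcases h7 k with hk | hk | hk | hk <;> rw [e, hk]
    · rw [Pi.single_eq_same, Pi.single_eq_of_ne h3.symm, Pi.single_eq_of_ne h1,
        Pi.single_eq_of_ne h2, add_zero, add_zero, add_zero]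
      exact hx
    · rw [Pi.single_eq_same, Pi.single_eq_of_ne h3, Pi.single_eq_of_ne h5,
        Pi.single_eq_of_ne h6, zero_add, add_zero, add_zero]
      exact F.g_ne hx
    · rw [Pi.single_eq_same, Pi.single_eq_of_ne h1.symm, Pi.single_eq_of_ne h5.symm,
        Pi.single_eq_of_ne h4.symm, zero_add, zero_add, add_zero]
      exact hy
    · rw [Pi.single_eq_same, Pi.single_eq_of_ne h2.symm, Pi.single_eq_of_ne h6.symm,
        Pi.single_eq_of_ne h4, zero_add, zero_add, zero_add]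
      exact F.g_ne hy
  · refine alpha_fam H ht htz htC h3 fun x r hx hrt hr hrin => hA ⟨x, r, hx, hrt, hr, hrin⟩

/-- **(*)** -/
theorem star (H : Hyp F) (ht : IsConj z t) (htz : t * z = z * t) : t ∈ F.C1 := by
  by_cases hV : isV (F.π (cen htz))
  · exact alpha H ht htz hV
  by_contra htC
  have ht2 := sq_of_isConj lz ht
  have hcomb : ∀ p : Equiv.Perm (Fin 4), (p * p = 1 ∧ ¬ isV p) → ∃ a c d : Fin 4, p a ≠ a ∧
      p c = c ∧ p d = d ∧ a ≠ c ∧ a ≠ d ∧ p a ≠ c ∧ p a ≠ d ∧ c ≠ d ∧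
      ∀ k, k = a ∨ k = p a ∨ k = c ∨ k = d := by decide +kernel
  obtain ⟨a, c, d, h1, h2, h3, h4, h5, h6, h7, h8, h9⟩ :=
    hcomb _ ⟨π_sq (F := F) ht2 htz, hV⟩
  have hgc : ∀ x, F.g (cen htz) c (F.g (cen htz) c x) = x := by
    intro x
    have := g_sq (F := F) ht2 htz c x
    rwa [h2] at this
  have hgd : ∀ x, F.g (cen htz) d (F.g (cen htz) d x) = x := by
    intro x
    have := g_sq (F := F) ht2 htz d x
    rwa [h3] at this
  have hactc : ∀ x, lz.act (cen htz) (F.sg c x) = F.sg c (F.g (cen htz) c x) := by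
    intro x; rw [F.act_sg, h2]
  have hactd : ∀ x, lz.act (cen htz) (F.sg d x) = F.sg d (F.g (cen htz) d x) := by
    intro x; rw [F.act_sg, h3]
  -- the signs
  have hs : F.sgn (cen htz) c = F.sgn (cen htz) d := by
    have hp := F.sgn_prod (cen htz)
    have ha := sgn_sq (F := F) ht2 htz a
    have hc4 : ∀ (p : Fin 4) (a c d : Fin 4), a ≠ p → a ≠ c → a ≠ d → p ≠ c → p ≠ d → c ≠ d →
        ∀ e : Fin 4 → ℤˣ, ∏ k, e k = 1 → e p * e a = 1 → e c = e d := by decide +kernel
    exact hc4 _ a c d h1.symm h4 h5 h6 h7 h8 _ hp ha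
  have hcd : ∃ x y : W, x ≠ 0 ∧ y ≠ 0 ∧ inR lz t (F.sg c x + F.sg d y) := by
    rcases Int.units_eq_one_or (F.sgn (cen htz) c) with hc | hc
    · have hd : F.sgn (cen htz) d = 1 := hs ▸ hc
      have fc : ∀ x, F.g (cen htz) c x = x := even_invol _ (F.gadd _ c) hgc hc
      have fd : ∀ x, F.g (cen htz) d x = x := even_invol _ (F.gadd _ d) hgd hd
      have key : ∀ j : Fin 4, (∀ x, lz.act (cen htz) (F.sg j x) = F.sg j x) →
          ∃ x : W, x ≠ 0 ∧ inR lz t (F.sg j x) := by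
        intro j hj
        by_cases k1 : inR lz t (F.sg j (1, 0))
        · exact ⟨_, by decide, k1⟩
        by_cases k2 : inR lz t (F.sg j (0, 1))
        · exact ⟨_, by decide, k2⟩
        · exact ⟨(1, 0) + (0, 1), by decide, by rw [sg_add]; exact inR_or htz (hj _) (hj _) k1 k2⟩
      obtain ⟨x, hx, hx'⟩ := key c (fun x => by rw [hactc, fc])
      obtain ⟨y, hy, hy'⟩ := key d (fun x => by rw [hactd, fd])
      exact ⟨x, y, hx, hy, inR_add hx' hy'⟩
    · have hd : F.sgn (cen htz) d = -1 := hs ▸ hc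
      obtain ⟨i, ⟨hi0, hi1, hi2⟩, v, hv1, hv2⟩ := odd_invol _ ⟨F.gadd _ c, hgc, hc⟩
      obtain ⟨j, ⟨hj0, hj1, hj2⟩, w, hw1, hw2⟩ := odd_invol _ ⟨F.gadd _ d, hgd, hd⟩
      have n1 : ¬ inR lz t (F.sg c i) := by
        have := not_inR (lz := lz) ht2 htz (v := F.sg c v) (by rw [hactc, b_sg_same]; exact hv2)
        rwa [hactc, ← sg_add, hv1] at this
      have n2 : ¬ inR lz t (F.sg d j) := by
        have := not_inR (lz := lz) ht2 htz (v := F.sg d w) (by rw [hactd, b_sg_same]; exact hw2)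
        rwa [hactd, ← sg_add, hw1] at this
      exact ⟨i, j, hi0, hj0, inR_or htz (by rw [hactc, hi1]) (by rw [hactd, hj1]) n1 n2⟩
  obtain ⟨x, y, hx, hy, hxy⟩ := hcd
  obtain ⟨r0, hr0, hr0t, -⟩ := inR_move (F := F) ht2 htz h1 (1, 0)
  obtain ⟨r, hr, hrt⟩ := inR_add (⟨r0, hr0, hr0t⟩ : inR lz t _) hxy
  have e : ∀ k, F.φ (lz.pr r) k = (Pi.single a (1, 0) : Fin 4 → W) k +
      (Pi.single (F.π (cen htz) a) (F.g (cen htz) a (1, 0)) : Fin 4 → W) k +
      ((Pi.single c x : Fin 4 → W) k + (Pi.single d y : Fin 4 → W) k) := by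
    intro k
    rw [hr, map_add, map_add, map_add, F.φ_sg, F.φ_sg, F.φ_sg, F.φ_sg]
    rfl
  have hwt : ∀ k, F.φ (lz.pr r) k ≠ 0 := by
    intro k
    rcases h9 k with hk | hk | hk | hk <;> rw [e, hk]
    · rw [Pi.single_eq_same, Pi.single_eq_of_ne h1.symm, Pi.single_eq_of_ne h4,
        Pi.single_eq_of_ne h5, add_zero, add_zero, add_zero]
      decide
    · rw [Pi.single_eq_same, Pi.single_eq_of_ne h1, Pi.single_eq_of_ne h6,
        Pi.single_eq_of_ne h7, zero_add, add_zero, add_zero]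
      exact F.g_ne (by decide)
    · rw [Pi.single_eq_same, Pi.single_eq_of_ne h4.symm, Pi.single_eq_of_ne h6.symm,
        Pi.single_eq_of_ne h8, zero_add, zero_add, add_zero]
      exact hx
    · rw [Pi.single_eq_same, Pi.single_eq_of_ne h5.symm, Pi.single_eq_of_ne h7.symm,
        Pi.single_eq_of_ne h8.symm, zero_add, zero_add, zero_add]
      exact hy
  have hzt : z * t = t * z := htz.symm
  let r' : Q := r * ⟨z, lz.z_mem⟩
  have hpr' : lz.pr r' = lz.pr r := pr_mul_z r rfl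
  have hrt' : (r' : G) * t = t * r' := by
    show (r : G) * z * t = t * (r * z)
    rw [mul_assoc, hzt, ← mul_assoc, hrt, mul_assoc]
  have hwt' : ∀ k, F.φ (lz.pr r') k ≠ 0 := by rw [hpr']; exact hwt
  -- move to `t`
  obtain ⟨g, hg⟩ := isConj_iff.1 ht
  have key : ∀ r : G, r * t = t * r → (g⁻¹ * r * g) * z = z * (g⁻¹ * r * g) := by
    intro r hr
    calc g⁻¹ * r * g * z = g⁻¹ * (r * (g * z * g⁻¹)) * g := by group
      _ = g⁻¹ * (r * t) * g := by rw [hg]
      _ = g⁻¹ * (t * r) * g := by rw [hr]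
      _ = g⁻¹ * (g * z * g⁻¹ * r) * g := by rw [hg]
      _ = z * (g⁻¹ * r * g) := by group
  have hconj : ∀ r : G, IsConj z r → IsConj z (g⁻¹ * r * g) := by
    intro r hr
    obtain ⟨k, hk⟩ := isConj_iff.1 hr
    refine isConj_iff.2 ⟨g⁻¹ * k, ?_⟩
    rw [← hk]; group
  have hnV : ∀ (u : G) (hut : u * t = t * u), IsConj z u → ¬ In F t u →
      F.π (cen (key u hut)) * F.π (cen (key u hut)) = 1 ∧ ¬ isV (F.π (cen (key u hut))) := by
    intro u hut hu hnu
    refine ⟨π_sq (sq_of_isConj lz (hconj u hu)) _, fun hv => hnu ?_⟩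
    rw [in_iff hg]
    exact alpha H (hconj u hu) (key u hut) hv
  obtain ⟨q1, q2⟩ := hnV z hzt (IsConj.refl z) (not_in_z H htC)
  obtain ⟨q3, q4⟩ := hnV r hrt (H.conj_of_wt4 r hwt) (not_in_wt4 H htz htC hrt hwt)
  obtain ⟨q5, q6⟩ := hnV r' hrt' (H.conj_of_wt4 r' hwt') (not_in_wt4 H htz htC hrt' hwt')
  have hmul : F.π (cen (key r' hrt')) = F.π (cen (key r hrt)) * F.π (cen (key z hzt)) := by
    rw [← F.π_mul]
    congr 1
    apply Subtype.ext
    show g⁻¹ * ((r : G) * z) * g = g⁻¹ * r * g * (g⁻¹ * z * g)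
    group
  have hmul' : F.π (cen (key r' hrt')) = F.π (cen (key z hzt)) * F.π (cen (key r hrt)) := by
    rw [← F.π_mul]
    congr 1
    apply Subtype.ext
    show g⁻¹ * ((r : G) * z) * g = g⁻¹ * z * g * (g⁻¹ * r * g)
    rw [lz.comm_z r r.2]
    group
  apply q6
  rw [hmul]
  exact isV_mul_of_not _ _ q3 q1 (by rw [← hmul, hmul']) q4 q2

end inner

end Cfsg.Agent.TypeD4Three.Star
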