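import Mathlib

/-!
# The plane `W = 𝔽₂²` and some finite facts (S1763, case [P], piece (*); helper948)
-/

set_option autoImplicit false

namespace Cfsg.Agent.TypeD4Three.StarModel

/-- the plane `𝔽₂²` -/
abbrev W := ZMod 2 × ZMod 2

/-- the symplectic form of `W` -/
def om (x y : W) : ZMod 2 := x.1 * y.2 + x.2 * y.1

theorem om_self (x : W) : om x x = 0 := by revert x; decide

theorem om_zero_left (x : W) : om 0 x = 0 := by revert x; decide

theorem om_zero_right (x : W) : om x 0 = 0 := by revert x; decide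

theorem om_nondeg (x : W) (h : ∀ y, om x y = 0) : x = 0 := by
  revert x; decide

/-- The normal four-group of `Sym(4)`, elementwise. -/
def isV (p : Equiv.Perm (Fin 4)) : Prop := p * p = 1 ∧ (p = 1 ∨ ∀ k, p k ≠ k)

instance (p : Equiv.Perm (Fin 4)) : Decidable (isV p) := by unfold isV; infer_instance

theorem isV_one : isV 1 := by decide

theorem isV_mul (p q : Equiv.Perm (Fin 4)) (hp : isV p) (hq : isV q) : isV (p * q) := by
  revert p q; decide +kernel

theorem isV_inv (p : Equiv.Perm (Fin 4)) (hp : isV p) : isV p⁻¹ := by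
  revert p; decide +kernel

theorem isV_conj (p q : Equiv.Perm (Fin 4)) (hp : isV p) : isV (q * p * q⁻¹) := by
  revert p q; decide +kernel

theorem isV_comm (p q : Equiv.Perm (Fin 4)) (hp : isV p) (hq : isV q) : p * q = q * p := by
  revert p q; decide +kernel

/-- Two commuting involutions outside the four-group have their product in it. -/
theorem isV_mul_of_not (p q : Equiv.Perm (Fin 4)) (hp : p * p = 1) (hq : q * q = 1)
    (hpq : p * q = q * p) (hp' : ¬ isV p) (hq' : ¬ isV q) : isV (p * q) := by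
  revert p q; decide +kernel

/-- `Sym(4)` contains no elementary abelian group of order 8. -/
theorem elem_ab_aux : ∀ p q : Equiv.Perm (Fin 4), (p * p = 1 ∧ q * q = 1 ∧ p * q = q * p ∧
    p ≠ 1 ∧ q ≠ 1 ∧ p ≠ q) → ∀ r : Equiv.Perm (Fin 4), (r * r = 1 ∧ p * r = r * p ∧ q * r = r * q) →
      (r = 1 ∨ r = p ∨ r = q ∨ r = p * q) := by
  decide +kernel

theorem elem_ab (p q : Equiv.Perm (Fin 4)) (hp : p * p = 1) (hq : q * q = 1) (hpq : p * q = q * p)
    (hp1 : p ≠ 1) (hq1 : q ≠ 1) (hne : p ≠ q) (r : Equiv.Perm (Fin 4)) (hr : r * r = 1)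
    (h1 : p * r = r * p) (h2 : q * r = r * q) : r = 1 ∨ r = p ∨ r = q ∨ r = p * q :=
  elem_ab_aux p q ⟨hp, hq, hpq, hp1, hq1, hne⟩ r ⟨hr, h1, h2⟩

section lin

variable (g : Equiv.Perm W) (hg : ∀ x y, g (x + y) = g x + g y)

theorem om_map : ∀ (g : Equiv.Perm W), (∀ x y, g (x + y) = g x + g y) → ∀ x y,
    om (g x) (g y) = om x y := by decide +kernel

theorem map_zero' (g : Equiv.Perm W) (hg : ∀ x y, g (x + y) = g x + g y) : g 0 = 0 := by
  have := hg 0 0
  rw [add_zero] at this
  exact left_eq_add.1 this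

/-- An even automorphism of `W` of order at most 2 is trivial. -/
theorem even_invol : ∀ (g : Equiv.Perm W), (∀ x y, g (x + y) = g x + g y) →
    (∀ x, g (g x) = x) → Equiv.Perm.sign g = 1 → ∀ x, g x = x := by decide +kernel

/-- The odd involutions. -/
theorem odd_invol : ∀ (g : Equiv.Perm W), ((∀ x y, g (x + y) = g x + g y) ∧
    (∀ x, g (g x) = x) ∧ Equiv.Perm.sign g = -1) →
    ∃ i : W, (i ≠ 0 ∧ g i = i ∧ ∀ x, g x = x → x = 0 ∨ x = i) ∧
      ∃ v : W, v + g v = i ∧ om v (g v) = 1 := by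
  decide +kernel

end lin

end Cfsg.Agent.TypeD4Three.StarModel
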