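import Cfsg.Agent.LargeExtra.Local
import Cfsg.Agent.TypeD4Three.StarModel

/-!
# S1763, case [P]: coordinates of `V = Q / ⟨z⟩` and the subgroup `C1` of `C_G(z)` (helper948)

`Frame lz`: `V = V₀ ⊥ V₁ ⊥ V₂ ⊥ V₃`, each `V_k` identified with `W = 𝔽₂²`, `C_G(z)` permutes the `V_k`.
`C1` consists of the elements inducing an element of the four-group on the four planes with constant sign.
`rho4 : C_G(z) →* Sym(4)` has kernel inside `C1`.
-/

set_option autoImplicit false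

namespace Cfsg.Agent.TypeD4Three.StarFrame

open Cfsg.Agent.Co2Type.Quad Cfsg.Agent.LargeExtra.Base Cfsg.Agent.LargeExtra.Local
open Cfsg.Agent.TypeD4Three.StarModel

variable {G : Type*} [Group G] {Q : Subgroup G} {z : G}

/-- Coordinates for `V = Q / ⟨z⟩`. -/
structure Frame (lz : Large Q z) where
  φ : lz.V ≃+ (Fin 4 → W)
  hb : ∀ v w, lz.b v w = ∑ k, om (φ v k) (φ w k)
  π : ↥(Subgroup.centralizer ({z} : Set G)) → Equiv.Perm (Fin 4)
  g : ↥(Subgroup.centralizer ({z} : Set G)) → Fin 4 → Equiv.Perm W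
  gadd : ∀ c k x y, g c k (x + y) = g c k x + g c k y
  hact : ∀ c v k, φ (lz.act c v) (π c k) = g c k (φ v k)
  even : ∀ c, ∏ k, Equiv.Perm.sign (g c k) = 1

theorem p_inv (p : Equiv.Perm (Fin 4)) (k : Fin 4) : p (p⁻¹ k) = k := Equiv.apply_symm_apply p k

theorem inv_p (p : Equiv.Perm (Fin 4)) (k : Fin 4) : p⁻¹ (p k) = k := Equiv.symm_apply_apply p k

namespace Frame

variable {lz : Large Q z} (F : Frame lz)

/-- the vector `x` in the plane `k` -/
noncomputable def sg (k : Fin 4) (x : W) : lz.V := F.φ.symm (Pi.single k x)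

theorem φ_sg (k : Fin 4) (x : W) : F.φ (F.sg k x) = Pi.single k x := F.φ.apply_symm_apply _

theorem sg_same (k : Fin 4) (x : W) : F.φ (F.sg k x) k = x := by rw [φ_sg, Pi.single_eq_same]

theorem sg_ne {k j : Fin 4} (h : j ≠ k) (x : W) : F.φ (F.sg k x) j = 0 := by
  rw [φ_sg, Pi.single_eq_of_ne h]

theorem g_zero (c : ↥(Subgroup.centralizer ({z} : Set G))) (k : Fin 4) : F.g c k 0 = 0 :=
  map_zero' _ (F.gadd c k)

theorem act_sg (c : ↥(Subgroup.centralizer ({z} : Set G))) (k : Fin 4) (x : W) :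
    lz.act c (F.sg k x) = F.sg (F.π c k) (F.g c k x) := by
  apply F.φ.injective
  funext j
  obtain ⟨i, rfl⟩ := (F.π c).surjective j
  rw [F.hact]
  by_cases h : i = k
  · subst h; rw [sg_same, sg_same]
  · rw [F.sg_ne h, F.sg_ne (fun h' => h ((F.π c).injective h')), F.g_zero]

theorem sg_inj {k j : Fin 4} {x y : W} (hx : x ≠ 0) (h : F.sg k x = F.sg j y) : k = j ∧ x = y := by
  have h1 : (Pi.single k x : Fin 4 → W) = Pi.single j y := by
    rw [← F.φ_sg, ← F.φ_sg, h]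
  have h2 : k = j := by
    by_contra hk
    have := congrFun h1 k
    rw [Pi.single_eq_same, Pi.single_eq_of_ne hk] at this
    exact hx this
  subst h2
  refine ⟨rfl, ?_⟩
  have := congrFun h1 k
  rwa [Pi.single_eq_same, Pi.single_eq_same] at this

theorem g_ne {c : ↥(Subgroup.centralizer ({z} : Set G))} {k : Fin 4} {x : W} (hx : x ≠ 0) :
    F.g c k x ≠ 0 := by
  intro h
  apply hx
  apply (F.g c k).injective
  rw [h, F.g_zero]

theorem pg_mul (c d : ↥(Subgroup.centralizer ({z} : Set G))) (k : Fin 4) {x : W} (hx : x ≠ 0) :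
    F.π (c * d) k = F.π c (F.π d k) ∧ F.g (c * d) k x = F.g c (F.π d k) (F.g d k x) := by
  have h1 : lz.act (c * d) (F.sg k x) = lz.act c (lz.act d (F.sg k x)) := by
    rw [map_mul]; rfl
  rw [F.act_sg, F.act_sg, F.act_sg] at h1
  exact F.sg_inj (F.g_ne hx) h1

theorem π_mul (c d : ↥(Subgroup.centralizer ({z} : Set G))) : F.π (c * d) = F.π c * F.π d := by
  ext k
  rw [(F.pg_mul c d k (x := (1, 0)) (by decide)).1]
  rfl

theorem g_mul (c d : ↥(Subgroup.centralizer ({z} : Set G))) (k : Fin 4) :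
    F.g (c * d) k = F.g c (F.π d k) * F.g d k := by
  ext1 x
  by_cases hx : x = 0
  · subst hx; rw [Equiv.Perm.mul_apply, F.g_zero, F.g_zero, F.g_zero]
  · exact (F.pg_mul c d k hx).2

theorem g_eq_one_of_act {c : ↥(Subgroup.centralizer ({z} : Set G))} (h : lz.act c = 1) :
    F.π c = 1 ∧ ∀ k, F.g c k = 1 := by
  have key : ∀ k (x : W), x ≠ 0 → F.π c k = k ∧ F.g c k x = x := by
    intro k x hx
    have h1 := F.act_sg c k x
    rw [h] at h1
    have h2 := F.sg_inj hx h1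
    exact ⟨h2.1.symm, h2.2.symm⟩
  refine ⟨?_, ?_⟩
  · ext k
    rw [(key k (1, 0) (by decide)).1]; rfl
  · intro k
    ext1 x
    by_cases hx : x = 0
    · subst hx; rw [F.g_zero]; rfl
    · exact (key k x hx).2

theorem π_one : F.π 1 = 1 := (F.g_eq_one_of_act (map_one _)).1

theorem g_one (k : Fin 4) : F.g 1 k = 1 := (F.g_eq_one_of_act (map_one _)).2 k

theorem π_inv (c : ↥(Subgroup.centralizer ({z} : Set G))) : F.π c⁻¹ = (F.π c)⁻¹ := by
  rw [eq_inv_iff_mul_eq_one, ← π_mul, inv_mul_cancel, π_one]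

/-- The sign of `c` on the plane `k`. -/
def sgn (c : ↥(Subgroup.centralizer ({z} : Set G))) (k : Fin 4) : ℤˣ := Equiv.Perm.sign (F.g c k)

theorem sgn_mul (c d : ↥(Subgroup.centralizer ({z} : Set G))) (k : Fin 4) :
    F.sgn (c * d) k = F.sgn c (F.π d k) * F.sgn d k := by
  rw [sgn, g_mul, Equiv.Perm.sign_mul]; rfl

theorem sgn_one (k : Fin 4) : F.sgn 1 k = 1 := by
  rw [sgn, g_one, Equiv.Perm.sign_one]

theorem sgn_inv (c : ↥(Subgroup.centralizer ({z} : Set G))) (k : Fin 4) :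
    F.sgn c⁻¹ k = F.sgn c ((F.π c)⁻¹ k) := by
  have h := F.sgn_mul c⁻¹ c ((F.π c)⁻¹ k)
  rw [inv_mul_cancel, sgn_one, p_inv] at h
  have h2 : F.sgn c⁻¹ k * F.sgn c ((F.π c)⁻¹ k) = 1 := h.symm
  rw [mul_eq_one_iff_eq_inv, Int.units_inv_eq_self] at h2
  exact h2

theorem sgn_prod (c : ↥(Subgroup.centralizer ({z} : Set G))) : ∏ k, F.sgn c k = 1 := F.even c

/-- the condition defining `C1` -/
def In1 (c : ↥(Subgroup.centralizer ({z} : Set G))) : Prop :=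
  isV (F.π c) ∧ ∀ k l, F.sgn c k = F.sgn c l

theorem in1_one : F.In1 1 := ⟨by rw [π_one]; exact isV_one, fun k l => by rw [sgn_one, sgn_one]⟩

theorem in1_mul {c d : ↥(Subgroup.centralizer ({z} : Set G))} (hc : F.In1 c) (hd : F.In1 d) :
    F.In1 (c * d) := by
  refine ⟨by rw [π_mul]; exact isV_mul _ _ hc.1 hd.1, fun k l => ?_⟩
  rw [sgn_mul, sgn_mul, hc.2 (F.π d k) (F.π d l), hd.2 k l]

theorem in1_inv {c : ↥(Subgroup.centralizer ({z} : Set G))} (hc : F.In1 c) : F.In1 c⁻¹ := by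
  refine ⟨by rw [π_inv]; exact isV_inv _ hc.1, fun k l => ?_⟩
  rw [sgn_inv, sgn_inv]
  exact hc.2 _ _

theorem in1_conj {c : ↥(Subgroup.centralizer ({z} : Set G))} (hc : F.In1 c)
    (d : ↥(Subgroup.centralizer ({z} : Set G))) : F.In1 (d * c * d⁻¹) := by
  refine ⟨by rw [π_mul, π_mul, π_inv]; exact isV_conj _ _ hc.1, fun k l => ?_⟩
  have key : ∀ k, F.sgn (d * c * d⁻¹) k =
      F.sgn d (F.π c ((F.π d)⁻¹ k)) * F.sgn c ((F.π d)⁻¹ k) * F.sgn d ((F.π d)⁻¹ k) := by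
    intro k
    rw [sgn_mul, sgn_mul, sgn_inv, π_inv]
  -- the product of the signs of `d` over an orbit of `π c`
  have h4 : ∀ (p : Equiv.Perm (Fin 4)), isV p → ∀ (e : Fin 4 → ℤˣ), ∏ k, e k = 1 →
      ∀ k l, e (p k) * e k = e (p l) * e l := by
    decide +kernel
  have h5 := h4 _ hc.1 (F.sgn d) (F.sgn_prod d) ((F.π d)⁻¹ k) ((F.π d)⁻¹ l)
  rw [key, key, hc.2 ((F.π d)⁻¹ k) ((F.π d)⁻¹ l)]
  calc F.sgn d (F.π c ((F.π d)⁻¹ k)) * F.sgn c ((F.π d)⁻¹ l) * F.sgn d ((F.π d)⁻¹ k)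
      = (F.sgn d (F.π c ((F.π d)⁻¹ k)) * F.sgn d ((F.π d)⁻¹ k)) * F.sgn c ((F.π d)⁻¹ l) := by
        rw [mul_assoc, mul_comm (F.sgn c _), ← mul_assoc]
    _ = _ := by rw [h5, mul_assoc, mul_comm (F.sgn d ((F.π d)⁻¹ l)), ← mul_assoc]

/-- the subgroup `C1` of `C_G(z)` -/
def C1 : Subgroup G where
  carrier := {u | ∃ h : u ∈ Subgroup.centralizer ({z} : Set G), F.In1 ⟨u, h⟩}
  one_mem' := ⟨one_mem _, F.in1_one⟩
  mul_mem' := by
    rintro a b ⟨ha, ha'⟩ ⟨hb, hb'⟩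
    exact ⟨mul_mem ha hb, F.in1_mul ha' hb'⟩
  inv_mem' := by
    rintro a ⟨ha, ha'⟩
    exact ⟨inv_mem ha, F.in1_inv ha'⟩

theorem mem_C1 {u : G} : u ∈ F.C1 ↔ ∃ h : u ∈ Subgroup.centralizer ({z} : Set G), F.In1 ⟨u, h⟩ := Iff.rfl

theorem C1_comm {u : G} (hu : u ∈ F.C1) : u * z = z * u := by
  obtain ⟨h, -⟩ := hu
  exact Subgroup.mem_centralizer_singleton_iff.1 h

theorem C1_conj {u c : G} (hu : u ∈ F.C1) (hc : c * z = z * c) : c * u * c⁻¹ ∈ F.C1 := by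
  obtain ⟨h, h'⟩ := hu
  exact ⟨_, F.in1_conj h' ⟨c, Subgroup.mem_centralizer_singleton_iff.2 hc⟩⟩

theorem Q_le_C1 : Q ≤ F.C1 := by
  intro x hx
  have hc : x ∈ Subgroup.centralizer ({z} : Set G) :=
    Subgroup.mem_centralizer_singleton_iff.2 (lz.comm_z x hx)
  have h1 := F.g_eq_one_of_act (c := ⟨x, hc⟩) (lz.act_mem ⟨x, hc⟩ hx)
  refine ⟨hc, by rw [h1.1]; exact isV_one, fun k l => ?_⟩
  rw [sgn, sgn, h1.2, h1.2]

/-! ### the action on the four even orientations -/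

/-- even orientations normalised at `0` -/
abbrev X : Type := {o : Fin 4 → ℤˣ // o 0 = 1 ∧ ∏ k, o k = 1}

theorem card_X : Fintype.card X = 4 := by decide +kernel

/-- the action -/
def smulX (c : ↥(Subgroup.centralizer ({z} : Set G))) (o : X) : X :=
  ⟨fun k => (F.sgn c ((F.π c)⁻¹ 0) * o.1 ((F.π c)⁻¹ 0)) * (F.sgn c ((F.π c)⁻¹ k) * o.1 ((F.π c)⁻¹ k)), by
    constructor
    · exact Int.units_mul_self _
    · have h1 : ∏ k, (F.sgn c ((F.π c)⁻¹ k) * o.1 ((F.π c)⁻¹ k)) = 1 := by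
        rw [Equiv.prod_comp (F.π c)⁻¹ (fun k => F.sgn c k * o.1 k), Finset.prod_mul_distrib,
          F.sgn_prod, o.2.2, one_mul]
      rw [Finset.prod_mul_distrib, h1, mul_one, Finset.prod_const, Finset.card_univ, Fintype.card_fin]
      have : ∀ u : ℤˣ, u ^ 4 = 1 := by decide
      exact this _⟩

theorem smulX_coe (c : ↥(Subgroup.centralizer ({z} : Set G))) (o : X) (k : Fin 4) :
    (F.smulX c o).1 k =
      (F.sgn c ((F.π c)⁻¹ 0) * o.1 ((F.π c)⁻¹ 0)) * (F.sgn c ((F.π c)⁻¹ k) * o.1 ((F.π c)⁻¹ k)) := rfl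

theorem smulX_one (o : X) : F.smulX 1 o = o := by
  apply Subtype.ext
  funext k
  rw [smulX_coe, π_one, inv_one, sgn_one, sgn_one]
  show 1 * o.1 0 * (1 * o.1 k) = o.1 k
  rw [o.2.1, one_mul, one_mul, one_mul]

theorem smulX_mul (c d : ↥(Subgroup.centralizer ({z} : Set G))) (o : X) :
    F.smulX (c * d) o = F.smulX c (F.smulX d o) := by
  apply Subtype.ext
  funext k
  rw [smulX_coe, smulX_coe, smulX_coe, smulX_coe, π_mul, mul_inv_rev, sgn_mul, sgn_mul]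
  simp only [Equiv.Perm.mul_apply, p_inv]
  generalize F.sgn c ((F.π c)⁻¹ 0) = a1
  generalize F.sgn d ((F.π d)⁻¹ ((F.π c)⁻¹ 0)) = a2
  generalize o.1 ((F.π d)⁻¹ ((F.π c)⁻¹ 0)) = a3
  generalize F.sgn c ((F.π c)⁻¹ k) = b1
  generalize F.sgn d ((F.π d)⁻¹ ((F.π c)⁻¹ k)) = b2
  generalize o.1 ((F.π d)⁻¹ ((F.π c)⁻¹ k)) = b3
  generalize F.sgn d ((F.π d)⁻¹ 0) * o.1 ((F.π d)⁻¹ 0) = s
  have hs : s * s = 1 := Int.units_mul_self s
  calc a1 * a2 * a3 * (b1 * b2 * b3) = a1 * (a2 * a3) * (b1 * (b2 * b3)) * (s * s) := by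
        rw [hs, mul_one, mul_assoc a1, mul_assoc b1]
    _ = a1 * (s * (a2 * a3)) * (b1 * (s * (b2 * b3))) := by
        simp only [mul_assoc, mul_comm, mul_left_comm]

/-- the homomorphism `C_G(z) → Sym(X)` -/
def rhoX : ↥(Subgroup.centralizer ({z} : Set G)) →* Equiv.Perm X where
  toFun c :=
    { toFun := F.smulX c
      invFun := F.smulX c⁻¹
      left_inv := fun o => by rw [← smulX_mul, inv_mul_cancel, smulX_one]
      right_inv := fun o => by rw [← smulX_mul, mul_inv_cancel, smulX_one] }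
  map_one' := by ext1 o; exact F.smulX_one o
  map_mul' c d := by ext1 o; exact F.smulX_mul c d o

theorem in1_of_rhoX {c : ↥(Subgroup.centralizer ({z} : Set G))} (h : F.rhoX c = 1) : F.In1 c := by
  have h0 : ∀ o, F.smulX c o = o := fun o => congrFun (congrArg DFunLike.coe h) o
  have h1 := h0 ⟨fun _ => 1, rfl, by simp⟩
  have h2 : ∀ k, F.sgn c ((F.π c)⁻¹ 0) * F.sgn c ((F.π c)⁻¹ k) = 1 := by
    intro k
    have := congrFun (congrArg Subtype.val h1) k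
    rw [smulX_coe, mul_one, mul_one] at this
    exact this
  have h3 : ∀ k, F.sgn c k = F.sgn c ((F.π c)⁻¹ 0) := by
    intro k
    have := h2 (F.π c k)
    rw [inv_p, mul_comm, mul_eq_one_iff_eq_inv, Int.units_inv_eq_self] at this
    exact this
  have h4 : ∀ p : Equiv.Perm (Fin 4), (∀ o : Fin 4 → ℤˣ, o 0 = 1 → ∏ k, o k = 1 →
      ∀ k, o (p 0) * o (p k) = o k) → isV p⁻¹ := by decide +kernel
  refine ⟨?_, fun k l => by rw [h3 k, h3 l]⟩
  have h5 := h4 (F.π c)⁻¹ (fun o ho ho' k => by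
    have := congrFun (congrArg Subtype.val (h0 ⟨o, ho, ho'⟩)) k
    rw [smulX_coe, h3 ((F.π c)⁻¹ k)] at this
    refine Eq.trans ?_ this
    show _ = F.sgn c ((F.π c)⁻¹ 0) * o ((F.π c)⁻¹ 0) * (F.sgn c ((F.π c)⁻¹ 0) * o ((F.π c)⁻¹ k))
    have hs : F.sgn c ((F.π c)⁻¹ 0) * F.sgn c ((F.π c)⁻¹ 0) = 1 := Int.units_mul_self _
    calc o ((F.π c)⁻¹ 0) * o ((F.π c)⁻¹ k)
        = (F.sgn c ((F.π c)⁻¹ 0) * F.sgn c ((F.π c)⁻¹ 0)) * (o ((F.π c)⁻¹ 0) * o ((F.π c)⁻¹ k)) := by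
          rw [hs, one_mul]
      _ = _ := by simp only [mul_assoc, mul_comm, mul_left_comm])
  rwa [inv_inv] at h5

/-- the homomorphism `C_G(z) → Sym(4)` with kernel in `C1` -/
noncomputable def rho4 : ↥(Subgroup.centralizer ({z} : Set G)) →* Equiv.Perm (Fin 4) :=
  (Equiv.permCongrHom (Fintype.equivFinOfCardEq card_X)).toMonoidHom.comp F.rhoX

theorem in1_of_rho4 {c : ↥(Subgroup.centralizer ({z} : Set G))} (h : F.rho4 c = 1) : F.In1 c := by
  apply F.in1_of_rhoX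
  apply (Equiv.permCongrHom (Fintype.equivFinOfCardEq card_X)).injective
  rw [map_one]
  exact h

end Frame

end Cfsg.Agent.TypeD4Three.StarFrame
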