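import Cfsg.Agent.TypeD4Three.Setup
import Cfsg.Agent.TypeD4Three.OGroup

/-!
# S1763, case [P] : 3-local analysis, part A (helper754)

`O = Og z (x k)`: `C_O(z) = ⟨x k⟩`, `z` inverts `O / ⟨x k⟩`, `O = ⟨x k⟩ C_O(z y) C_O(y)`, `C_O(y) ≠ 1`.
-/

set_option autoImplicit false

namespace Cfsg.Agent.TypeD4Three

open Cfsg.Agent.Co2Type.Quad

variable {G : Type*} [Group G]

theorem exists_ne4 (k : Fin 4) : ∃ l, k ≠ l := by revert k; decide

namespace Input

variable {Q : Subgroup G} {z : G} {h : Large Q z} (inp : Input h)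

theorem pow_v' {k l : Fin 4} (hkl : k ≠ l) (n : ℕ) : (inp.ξ k ^ n) (inp.v l) = inp.v l := by
  induction n with
  | zero => rfl
  | succ n ih =>
    rw [pow_succ']
    show inp.ξ k ((inp.ξ k ^ n) (inp.v l)) = _
    rw [ih, inp.ξ_v' k l hkl]

/-- an isometry commuting with `ξ k` and trivial on the other planes is a power of `ξ k` -/
theorem exists_pow_single {f : h.V ≃ₗ[ZMod 2] h.V} {k : Fin 4} (hf : f ∈ h.act.range) (hk : f * inp.ξ k = inp.ξ k * f)
    (hu : ∀ l, l ≠ k → f (inp.u l) = inp.u l) (hv : ∀ l, l ≠ k → f (inp.v l) = inp.v l) :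
    ∃ i : ℕ, i < 3 ∧ f = inp.ξ k ^ i := by
  have h2 : f (inp.u k) = 0 ∨ f (inp.u k) = inp.u k ∨ f (inp.u k) = inp.v k ∨ f (inp.u k) = inp.u k + inp.v k := by
    apply inp.mem_plane
    intro l hl
    obtain ⟨g, rfl⟩ := hf
    constructor
    · have h1 := h.b_act g (inp.u k) (inp.u l)
      rw [hu l hl, inp.b_uu k l hl.symm] at h1
      exact h1
    · have h1 := h.b_act g (inp.u k) (inp.v l)
      rw [hv l hl, inp.b_uv' k l hl.symm] at h1
      exact h1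
  have key : ∀ i : ℕ, i < 3 → f (inp.u k) = (inp.ξ k ^ i) (inp.u k) → ∃ i : ℕ, i < 3 ∧ f = inp.ξ k ^ i := by
    intro i hi h3
    refine ⟨i, hi, ?_⟩
    apply inp.ext_equiv
    · intro l
      by_cases hl : l = k
      · rw [hl, h3]
      · rw [hu l hl, inp.pow_u' (Ne.symm hl)]
    · intro l
      by_cases hl : l = k
      · rw [hl, ← inp.ξ_u k]
        have h4 : f (inp.ξ k (inp.u k)) = inp.ξ k (f (inp.u k)) := by
          have : (f * inp.ξ k) (inp.u k) = (inp.ξ k * f) (inp.u k) := by rw [hk]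
          exact this
        rw [h4, h3]
        have h5 : Commute (inp.ξ k) (inp.ξ k ^ i) := (Commute.refl _).pow_right _
        have h6 : (inp.ξ k * inp.ξ k ^ i) (inp.u k) = (inp.ξ k ^ i * inp.ξ k) (inp.u k) := by rw [h5.eq]
        exact h6
      · rw [hv l hl, inp.pow_v' (Ne.symm hl)]
  rcases h2 with h2 | h2 | h2 | h2
  · exfalso
    rw [LinearEquiv.map_eq_zero_iff] at h2
    have := inp.b_uv k
    rw [h2] at this
    simp at this
  · exact key 0 (by norm_num) (by rw [h2]; rfl)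
  · exact key 1 (by norm_num) (by rw [h2, pow_one, inp.ξ_u])
  · refine key 2 (by norm_num) ?_
    rw [h2, pow_two]
    show _ = inp.ξ k (inp.ξ k (inp.u k))
    rw [inp.ξ_u, inp.ξ_v]

end Input

namespace Setup

variable {Q : Subgroup G} {z : G} {x I J : Fin 4 → G} {y ρ : G} (S : Setup Q z x I J y ρ)

include S

section basic

theorem y_inv : y⁻¹ = y := S.inv.y_inv

theorem z_inv : z⁻¹ = z := S.fr.z_inv

theorem og_comm_x {k : Fin 4} {w : G} (hw : w ∈ Og z (x k)) : w * x k = x k * w :=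
  Og.comm_e (S.fr.x_z k).symm hw

theorem og_odd [Finite G] {k : Fin 4} {w : G} (hw : w ∈ Og z (x k)) : Odd (orderOf w) := by
  refine Og.odd S.fr.z_ne S.fr.z_sq (S.fr.x_cube k) (S.fr.x_z k).symm (fun g hg hc => S.iso g k hc ?_) hw
  have h1 : Commute g (x k) := hg
  have h2 : Commute z (x k) := (S.fr.x_z k).symm
  exact ((h1.mul_left h2).mul_left h1.inv_left).eq

theorem og_z {k : Fin 4} {w : G} (hw : w ∈ Og z (x k)) : z * w * z⁻¹ ∈ Og z (x k) :=
  Og.norm_mem (S.fr.x_z k).symm hw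

theorem og_y {k : Fin 4} {w : G} (hw : w ∈ Og z (x k)) : y * w * y⁻¹ ∈ Og z (x k) :=
  Og.conj_self S.inv.yz (Or.inr (S.inv.yx k)) hw

theorem og_zy {k : Fin 4} {w : G} (hw : w ∈ Og z (x k)) : (z * y) * w * (z * y)⁻¹ ∈ Og z (x k) := by
  have := S.og_z (S.og_y hw)
  have h1 : z * y * w * (z * y)⁻¹ = z * (y * w * y⁻¹) * z⁻¹ := by group
  rw [h1]; exact this

theorem og_I {k l : Fin 4} (hkl : k ≠ l) {w : G} (hw : w ∈ Og z (x k)) : I l * w * (I l)⁻¹ ∈ Og z (x k) :=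
  Og.norm_mem (S.fr.x_I' k l hkl).symm hw

theorem og_J {k l : Fin 4} (hkl : k ≠ l) {w : G} (hw : w ∈ Og z (x k)) : J l * w * (J l)⁻¹ ∈ Og z (x k) :=
  Og.norm_mem (S.fr.x_J' k l hkl).symm hw

end basic

theorem x_sq_eq (k : Fin 4) : x k * x k = (x k)⁻¹ := by
  rw [eq_inv_iff_mul_eq_one]; exact S.fr.x_cube k

theorem zpow_cube {k : Fin 4} {c : G} (hc : c ∈ Subgroup.zpowers (x k)) : c * c * c = 1 := by
  obtain ⟨i, rfl⟩ := Subgroup.mem_zpowers_iff.1 hc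
  rw [← zpow_add, ← zpow_add, show i + i + i = 3 * i by ring, zpow_mul]
  have : x k ^ (3 : ℤ) = 1 := by
    have := S.fr.x_pow_three k
    exact_mod_cast this
  rw [this, one_zpow]

theorem zpow_y {k : Fin 4} {c : G} (hc : c ∈ Subgroup.zpowers (x k)) : y * c * y⁻¹ = c⁻¹ := by
  obtain ⟨i, rfl⟩ := Subgroup.mem_zpowers_iff.1 hc
  rw [← conj_zpow, S.inv.yx, inv_zpow]

theorem zpow_z {k : Fin 4} {c : G} (hc : c ∈ Subgroup.zpowers (x k)) : c * z = z * c := by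
  obtain ⟨i, rfl⟩ := Subgroup.mem_zpowers_iff.1 hc
  have : Commute (x k) z := S.fr.x_z k
  exact (this.zpow_left i).eq

omit S in
theorem zpow_og {k : Fin 4} {c : G} (hc : c ∈ Subgroup.zpowers (x k)) : c ∈ Og z (x k) := by
  obtain ⟨i, rfl⟩ := Subgroup.mem_zpowers_iff.1 hc
  exact Subgroup.zpow_mem _ Og.self_mem i

theorem og_comm_zpow {k : Fin 4} {c w : G} (hc : c ∈ Subgroup.zpowers (x k)) (hw : w ∈ Og z (x k)) :
    w * c = c * w := by
  obtain ⟨i, rfl⟩ := Subgroup.mem_zpowers_iff.1 hc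
  have : Commute w (x k) := S.og_comm_x hw
  exact (this.zpow_right i).eq

/-- `C_O(z) = ⟨x k⟩`. -/
theorem fix_z [Finite G] {k : Fin 4} {w : G} (hw : w ∈ Og z (x k)) (hwz : w * z = z * w) :
    w ∈ Subgroup.zpowers (x k) := by
  have hfin := S.fr.finiteQ
  have hwC : w ∈ Subgroup.centralizer ({z} : Set G) := Subgroup.mem_centralizer_singleton_iff.2 hwz
  have key : ∀ q ∈ Q, q * x k = x k * q → q * w = w * q := by
    intro q hq hqx
    have h1 : q * w * q⁻¹ * w⁻¹ ∈ Og z (x k) :=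
      (Og z (x k)).mul_mem (Og.norm_mem hqx hw) ((Og z (x k)).inv_mem hw)
    have h2 : q * w * q⁻¹ * w⁻¹ ∈ Q := by
      have : q * w * q⁻¹ * w⁻¹ = q * (w * q⁻¹ * w⁻¹) := by group
      rw [this]
      exact Q.mul_mem hq (S.fr.large.conj_mem w hwz _ (Q.inv_mem hq))
    have h3 := S.fr.odd_mem_Q h2 (S.og_odd h1)
    rw [mul_inv_eq_one, mul_inv_eq_iff_eq_mul] at h3
    exact h3
  have hI : ∀ l, l ≠ k → w * I l = I l * w := fun l hl =>
    (key _ (S.fr.I_mem l) (S.fr.x_I' k l hl.symm).symm).symm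
  have hJ : ∀ l, l ≠ k → w * J l = J l * w := fun l hl =>
    (key _ (S.fr.J_mem l) (S.fr.x_J' k l hl.symm).symm).symm
  obtain ⟨i, hi, hfi⟩ := S.fr.input.exists_pow_single (f := S.fr.large.act ⟨w, hwC⟩) (k := k) ⟨_, rfl⟩
    (by
      have h1 : (⟨w, hwC⟩ : Subgroup.centralizer ({z} : Set G)) * ⟨x k, S.fr.x_mem k⟩ =
          ⟨x k, S.fr.x_mem k⟩ * ⟨w, hwC⟩ := Subtype.ext (S.og_comm_x hw)
      have h2 := congrArg S.fr.large.act h1
      rw [map_mul, map_mul] at h2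
      exact h2)
    (by
      intro l hl
      show S.fr.large.act ⟨w, hwC⟩ (S.fr.large.pr ⟨I l, S.fr.I_mem l⟩) = S.fr.large.pr ⟨I l, S.fr.I_mem l⟩
      rw [S.fr.large.act_pr]
      refine congrArg _ (Subtype.ext ?_)
      show w * I l * w⁻¹ = I l
      rw [hI l hl]; group)
    (by
      intro l hl
      show S.fr.large.act ⟨w, hwC⟩ (S.fr.large.pr ⟨J l, S.fr.J_mem l⟩) = S.fr.large.pr ⟨J l, S.fr.J_mem l⟩
      rw [S.fr.large.act_pr]
      refine congrArg _ (Subtype.ext ?_)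
      show w * J l * w⁻¹ = J l
      rw [hJ l hl]; group)
  have h1 : S.fr.large.act (⟨w, hwC⟩ * (⟨x k, S.fr.x_mem k⟩ ^ i)⁻¹) = 1 := by
    rw [map_mul, map_inv, map_pow, hfi]
    exact mul_inv_cancel _
  have h2 : w * (x k ^ i)⁻¹ ∈ Q := S.fr.large.mem_of_act _ h1
  have h3 : w * (x k ^ i)⁻¹ ∈ Og z (x k) :=
    (Og z (x k)).mul_mem hw ((Og z (x k)).inv_mem (Subgroup.pow_mem _ Og.self_mem i))
  have h4 := S.fr.odd_mem_Q h2 (S.og_odd h3)
  rw [mul_inv_eq_one] at h4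
  rw [h4]
  exact Subgroup.pow_mem _ (Subgroup.mem_zpowers _) i

/-- `z` inverts `O / ⟨x k⟩`. -/
theorem z_mod [Finite G] {k : Fin 4} {w : G} (hw : w ∈ Og z (x k)) :
    ∃ r ∈ Og z (x k), ∃ c ∈ Subgroup.zpowers (x k), z * r * z⁻¹ = r⁻¹ ∧ w = r * c ∧
      ∀ g, g * w = w * g → g * z = z * g → g * r = r * g := by
  have hv : w * (z * w * z⁻¹)⁻¹ ∈ Og z (x k) := (Og z (x k)).mul_mem hw ((Og z (x k)).inv_mem (S.og_z hw))
  obtain ⟨m, h1, h2⟩ := exists_decomp (t := z) (w := w) S.fr.z_sq (S.og_odd hv)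
  have hr := (Og z (x k)).pow_mem hv m
  have hf := (Og z (x k)).mul_mem ((Og z (x k)).inv_mem hr) hw
  refine ⟨_, hr, _, S.fix_z hf ?_, h1, ?_, ?_⟩
  · rw [mul_inv_eq_iff_eq_mul] at h2
    exact h2.symm
  · group
  · intro g hg hgz
    have h3 : Commute g w := hg
    have h4 : Commute g z := hgz
    have h5 : Commute g (w * (z * w * z⁻¹)⁻¹) :=
      h3.mul_right (((h4.mul_right h3).mul_right h4.inv_right).inv_right)
    exact (h5.pow_right m).eq

theorem z_inv_mod [Finite G] {k : Fin 4} {w : G} (hw : w ∈ Og z (x k)) :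
    z * w * z⁻¹ * w ∈ Subgroup.zpowers (x k) := by
  obtain ⟨r, hr, c, hc, h1, h2, _⟩ := S.z_mod hw
  have h3 := S.og_comm_zpow hc hr
  have h4 : z * w * z⁻¹ * w = c * c := by
    rw [h2]
    calc z * (r * c) * z⁻¹ * (r * c) = (z * r * z⁻¹) * (z * c) * z⁻¹ * (r * c) := by group
      _ = r⁻¹ * (c * z) * z⁻¹ * (r * c) := by rw [h1, S.zpow_z hc]
      _ = r⁻¹ * (c * r) * c := by group
      _ = _ := by rw [← h3]; group
  rw [h4]
  exact Subgroup.mul_mem _ hc hc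

/-- `[O, O] ≤ ⟨x k⟩`. -/
theorem comm_mod [Finite G] {k : Fin 4} {a b : G} (ha : a ∈ Og z (x k)) (hb : b ∈ Og z (x k)) :
    a * b * a⁻¹ * b⁻¹ ∈ Subgroup.zpowers (x k) := by
  have key : ∀ a ∈ Og z (x k), ∀ b ∈ Og z (x k), ∃ c ∈ Subgroup.zpowers (x k), a⁻¹ * b⁻¹ = c * (b⁻¹ * a⁻¹) := by
    intro a ha b hb
    have h1 := S.z_inv_mod ha
    have h2 := S.z_inv_mod hb
    have h3 := S.z_inv_mod ((Og z (x k)).mul_mem ha hb)
    set c1 := z * a * z⁻¹ * a with hc1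
    set c2 := z * b * z⁻¹ * b with hc2
    set c3 := z * (a * b) * z⁻¹ * (a * b) with hc3
    have e1 : z * a * z⁻¹ = c1 * a⁻¹ := by rw [hc1]; group
    have e2 : z * b * z⁻¹ = c2 * b⁻¹ := by rw [hc2]; group
    have e3 : z * (a * b) * z⁻¹ = c3 * (b⁻¹ * a⁻¹) := by rw [hc3]; group
    have e4 : c3 * (b⁻¹ * a⁻¹) = c1 * c2 * (a⁻¹ * b⁻¹) := by
      rw [← e3]
      calc z * (a * b) * z⁻¹ = (z * a * z⁻¹) * (z * b * z⁻¹) := by group
        _ = c1 * (a⁻¹ * c2) * b⁻¹ := by rw [e1, e2]; group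
        _ = c1 * (c2 * a⁻¹) * b⁻¹ := by rw [S.og_comm_zpow h2 ((Og z (x k)).inv_mem ha)]
        _ = _ := by group
    refine ⟨(c1 * c2)⁻¹ * c3, Subgroup.mul_mem _ (Subgroup.inv_mem _ (Subgroup.mul_mem _ h1 h2)) h3, ?_⟩
    calc a⁻¹ * b⁻¹ = (c1 * c2)⁻¹ * (c1 * c2 * (a⁻¹ * b⁻¹)) := by group
      _ = _ := by rw [← e4]; group
  obtain ⟨c, hc, h1⟩ := key _ ((Og z (x k)).inv_mem ha) _ ((Og z (x k)).inv_mem hb)
  rw [inv_inv, inv_inv] at h1
  have : a * b * a⁻¹ * b⁻¹ = c := by rw [h1]; group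
  rw [this]; exact hc

/-- `C_O(y)` is inverted by `z`. -/
theorem inv_of_y [Finite G] {k : Fin 4} {w : G} (hw : w ∈ Og z (x k)) (hwy : y * w = w * y) : z * w * z⁻¹ = w⁻¹ := by
  obtain ⟨r, hr, c, hc, h1, h2, h3⟩ := S.z_mod hw
  have h4 := h3 y hwy S.inv.yz
  have h5 : y * c * y⁻¹ = c := by
    have : c = r⁻¹ * w := by rw [h2]; group
    rw [this]
    have h6 : Commute y r := h4
    have h7 : Commute y w := hwy
    rw [(h6.inv_right.mul_right h7).eq]; group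
  rw [S.zpow_y hc] at h5
  have h6 : c = 1 := by
    have h7 := S.zpow_cube hc
    have h8 : c * c = 1 := by
      nth_rewrite 1 [← h5]; group
    rw [h8, one_mul] at h7
    exact h7
  rw [h6, mul_one] at h2
  rw [h2]; exact h1

/-- `C_O(y)` is abelian. -/
theorem comm_of_y [Finite G] {k : Fin 4} {a b : G} (ha : a ∈ Og z (x k)) (hay : y * a = a * y)
    (hb : b ∈ Og z (x k)) (hby : y * b = b * y) : a * b = b * a := by
  have h1 := S.inv_of_y ha hay
  have h2 := S.inv_of_y hb hby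
  have h3 : Commute y a := hay
  have h4 : Commute y b := hby
  have h5 := S.inv_of_y ((Og z (x k)).mul_mem ha hb) (h3.mul_right h4).eq
  have h6 : z * (a * b) * z⁻¹ = a⁻¹ * b⁻¹ := by
    calc z * (a * b) * z⁻¹ = (z * a * z⁻¹) * (z * b * z⁻¹) := by group
      _ = _ := by rw [h1, h2]
  rw [h5] at h6
  have h7 := congrArg (·⁻¹) h6
  simp only [inv_inv, mul_inv_rev] at h7
  exact h7

/-- `O = ⟨x k⟩ C_O(z y) C_O(y)`. -/
theorem decomp_y [Finite G] {k : Fin 4} {w : G} (hw : w ∈ Og z (x k)) :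
    ∃ c ∈ Subgroup.zpowers (x k), ∃ b ∈ Og z (x k), ∃ a ∈ Og z (x k), (z * y) * b = b * (z * y) ∧
      y * a = a * y ∧ w = c * b * a := by
  have hv : w * (y * w * y⁻¹)⁻¹ ∈ Og z (x k) := (Og z (x k)).mul_mem hw ((Og z (x k)).inv_mem (S.og_y hw))
  obtain ⟨m, h1, h2⟩ := exists_decomp (t := y) (w := w) S.inv.sq (S.og_odd hv)
  set r := (w * (y * w * y⁻¹)⁻¹) ^ m with hrdef
  have hr : r ∈ Og z (x k) := (Og z (x k)).pow_mem hv m
  have hf : r⁻¹ * w ∈ Og z (x k) := (Og z (x k)).mul_mem ((Og z (x k)).inv_mem hr) hw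
  have hc := S.z_inv_mod hr
  set c := z * r * z⁻¹ * r with hcdef
  have hzr : z * r * z⁻¹ = c * r⁻¹ := by rw [hcdef]; group
  have hcr := S.og_comm_zpow hc hr
  have hc3 := S.zpow_cube hc
  refine ⟨c⁻¹, Subgroup.inv_mem _ hc, r * c, (Og z (x k)).mul_mem hr (zpow_og hc), r⁻¹ * w, hf, ?_, ?_, ?_⟩
  · rw [← mul_inv_eq_iff_eq_mul]
    calc z * y * (r * c) * (z * y)⁻¹ = z * ((y * r * y⁻¹) * (y * c * y⁻¹)) * z⁻¹ := by group
      _ = (z * r * z⁻¹)⁻¹ * (z * c⁻¹) * z⁻¹ := by rw [h1, S.zpow_y hc]; group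
      _ = (z * r * z⁻¹)⁻¹ * c⁻¹ := by
        have h5 : Commute c z := S.zpow_z hc
        rw [← h5.inv_left.eq]; group
      _ = r * (c * c)⁻¹ := by rw [hzr]; group
      _ = r * c := by
        congr 1
        rw [inv_eq_iff_mul_eq_one]; exact hc3
  · rw [mul_inv_eq_iff_eq_mul] at h2
    exact h2
  · rw [hcr]; group

/-- `C_O(y) ≠ 1`. -/
theorem exists_y [Finite G] (k : Fin 4) : ∃ u ∈ Og z (x k), u ≠ 1 ∧ y * u = u * y := by
  by_contra hcon
  have h1 : ∀ u ∈ Og z (x k), y * u = u * y → u = 1 := by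
    intro u hu hy
    by_contra hne
    exact hcon ⟨u, hu, hne, hy⟩
  obtain ⟨l, hl⟩ : ∃ l, k ≠ l := exists_ne4 k
  have hIy : I l * y * (I l)⁻¹ = z * y := by
    have h2 := S.inv.yI l
    have h3 : y * I l = I l * z * y := by rw [← h2]; group
    calc I l * y * (I l)⁻¹ = (z * z) * (I l * y * (I l)⁻¹) := by rw [S.fr.z_sq, one_mul]
      _ = z * ((z * I l) * y * (I l)⁻¹) := by group
      _ = z * ((y * I l) * (I l)⁻¹) := by rw [← S.fr.I_z l, h3]
      _ = z * y := by group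
  have hIzy : I l * (z * y) * (I l)⁻¹ = y := by
    calc I l * (z * y) * (I l)⁻¹ = (I l * z * (I l)⁻¹) * (I l * y * (I l)⁻¹) := by group
      _ = z * (z * y) := by rw [hIy, S.fr.I_z]; group
      _ = _ := by rw [← mul_assoc, S.fr.z_sq, one_mul]
  have h2 : ∀ u ∈ Og z (x k), (z * y) * u = u * (z * y) → u = 1 := by
    intro u hu hy
    have h3 := h1 _ (S.og_I hl hu) (by
      calc y * (I l * u * (I l)⁻¹) = (I l * (z * y) * (I l)⁻¹) * (I l * u * (I l)⁻¹) := by rw [hIzy]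
        _ = I l * ((z * y) * u) * (I l)⁻¹ := by group
        _ = I l * u * (I l)⁻¹ * (I l * (z * y) * (I l)⁻¹) := by rw [hy]; group
        _ = _ := by rw [hIzy])
    calc u = (I l)⁻¹ * (I l * u * (I l)⁻¹) * I l := by group
      _ = 1 := by rw [h3]; group
  have h3 : ∀ w ∈ Og z (x k), w ∈ Subgroup.zpowers (x k) := by
    intro w hw
    obtain ⟨c, hc, b, hb, a, ha, hbz, hay, e⟩ := S.decomp_y hw
    rw [e, h1 a ha hay, h2 b hb hbz, mul_one, mul_one]
    exact hc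
  obtain ⟨g, hg, hgz⟩ := S.nb k
  apply hgz
  have h4 := h3 _ (Og.comm_mem hg)
  set c := z * g * z⁻¹ * g⁻¹ with hc
  have h5 : z * g * z⁻¹ = c * g := by rw [hc]; group
  have hzi := S.z_inv
  have h6 : g = c * c * g := by
    calc g = z * z * g * (z * z)⁻¹ := by rw [S.fr.z_sq]; group
      _ = z * (z * g * z⁻¹) * z⁻¹ := by group
      _ = (z * c) * (g * z⁻¹) := by rw [h5]; group
      _ = (c * z) * (g * z⁻¹) := by rw [S.zpow_z h4]
      _ = c * (z * g * z⁻¹) := by group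
      _ = _ := by rw [h5]; group
  have h7 : c * c = 1 := mul_eq_right.1 h6.symm
  have h8 := S.zpow_cube h4
  rw [h7, one_mul] at h8
  rw [h8, one_mul, mul_inv_eq_iff_eq_mul] at h5
  exact h5.symm

end Setup

end Cfsg.Agent.TypeD4Three
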