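import Cfsg.Agent.TypeD4Three.ThreeA

/-!
# S1763, case [P] : 3-local analysis, part B: eigenvectors (helper754)

If `N ≤ O = Og z (x k)` is normalised by all `I l`, `J l` (`l ≠ k`) and `C_N(y) ≠ 1`, then for each `j` the group `N`
contains `ρ (x j) ρ⁻¹` or `ρ (I j x j (I j)⁻¹) ρ⁻¹`.
-/

set_option autoImplicit false

namespace Cfsg.Agent.TypeD4Three

open Cfsg.Agent.Co2Type.Quad

variable {G : Type*} [Group G]

/-- `u` or `u⁻¹` -/
def sg {G : Type*} [Group G] (a : Bool) (u : G) : G := bif a then u⁻¹ else u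

theorem sg_conj (a : Bool) (g u : G) : g * sg a u * g⁻¹ = sg a (g * u * g⁻¹) := by
  cases a
  · rfl
  · show g * u⁻¹ * g⁻¹ = (g * u * g⁻¹)⁻¹
    group

theorem sg_inv (a : Bool) (u : G) : (sg a u)⁻¹ = sg (!a) u := by
  cases a
  · rfl
  · show (u⁻¹)⁻¹ = u
    rw [inv_inv]

theorem indep {w1 w2 w3 w4 s1 s2 : G} (h12 : w1 * w2 = w2 * w1) (h34 : w3 * w4 = w4 * w3)
    (a1 : s1 * w1 * s1⁻¹ = w1) (a2 : s1 * w2 * s1⁻¹ = w2) (a3 : s1 * w3 * s1⁻¹ = w3⁻¹) (a4 : s1 * w4 * s1⁻¹ = w4⁻¹)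
    (b1 : s2 * w1 * s2⁻¹ = w1) (b2 : s2 * w2 * s2⁻¹ = w2⁻¹) (b3 : s2 * w3 * s2⁻¹ = w3) (b4 : s2 * w4 * s2⁻¹ = w4⁻¹)
    (c1 : w1 ^ 3 = 1) (c2 : w2 ^ 3 = 1) (c3 : w3 ^ 3 = 1) (h : w1 * w2 * w3 * w4 = 1) :
    w1 = 1 ∧ w2 = 1 ∧ w3 = 1 ∧ w4 = 1 := by
  have hc12 : Commute w1 w2 := h12
  have hc34 : Commute w3 w4 := h34
  have cube_sq : ∀ w : G, w ^ 3 = 1 → w * w = 1 → w = 1 := by
    intro w h1 h2
    rw [pow_three', h2, one_mul] at h1
    exact h1
  have e1 : (w1 * w2) * (w3 * w4)⁻¹ = 1 := by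
    calc (w1 * w2) * (w3 * w4)⁻¹ = w1 * w2 * (w4 * w3)⁻¹ := by rw [h34]
      _ = (s1 * w1 * s1⁻¹) * (s1 * w2 * s1⁻¹) * ((s1 * w3 * s1⁻¹) * (s1 * w4 * s1⁻¹)) := by
        rw [a1, a2, a3, a4]; group
      _ = s1 * (w1 * w2 * w3 * w4) * s1⁻¹ := by group
      _ = 1 := by rw [h]; group
  have e2 : (w1 * w2) = (w3 * w4) := mul_inv_eq_one.1 e1
  have e3 : (w1 * w2) * (w1 * w2) = 1 := by
    nth_rewrite 2 [e2]
    rw [← h]; group
  have e4 : w1 * w2 = 1 := cube_sq _ (by rw [hc12.mul_pow, c1, c2, one_mul]) e3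
  have e5 : w3 * w4 = 1 := by rw [← e2]; exact e4
  have e6 : w1 * w2⁻¹ = 1 := by
    calc w1 * w2⁻¹ = (s2 * w1 * s2⁻¹) * (s2 * w2 * s2⁻¹) := by rw [b1, b2]
      _ = s2 * (w1 * w2) * s2⁻¹ := by group
      _ = 1 := by rw [e4]; group
  have e7 : w1 = w2 := mul_inv_eq_one.1 e6
  have e8 : w1 = 1 := by
    apply cube_sq _ c1
    nth_rewrite 2 [e7]; exact e4
  have e9 : w3 * w4⁻¹ = 1 := by
    calc w3 * w4⁻¹ = (s2 * w3 * s2⁻¹) * (s2 * w4 * s2⁻¹) := by rw [b3, b4]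
      _ = s2 * (w3 * w4) * s2⁻¹ := by group
      _ = 1 := by rw [e5]; group
  have e10 : w3 = w4 := mul_inv_eq_one.1 e9
  have e11 : w3 = 1 := by
    apply cube_sq _ c3
    nth_rewrite 2 [e10]; exact e5
  exact ⟨e8, e7 ▸ e8, e11, e10 ▸ e11⟩

theorem pow_inj3 {u : G} (h1 : u ≠ 1) (h3 : u ^ 3 = 1) {a b : ℕ} (ha : a < 3) (hb : b < 3) (h : u ^ a = u ^ b) :
    a = b := by
  have hu : orderOf u = 3 := by
    have : Fact (Nat.Prime 3) := ⟨Nat.prime_three⟩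
    exact orderOf_eq_prime h3 h1
  exact pow_injOn_Iio_orderOf (by rw [hu]; exact ha) (by rw [hu]; exact hb) h

namespace Frame

variable {Q : Subgroup G} {z : G} {x I J : Fin 4 → G} (F : Frame Q z x I J)

include F

theorem I_inv (k : Fin 4) : (I k)⁻¹ = I k * z := by
  rw [inv_eq_iff_mul_eq_one, ← mul_assoc, F.I_sq, F.z_sq]

theorem J_inv (k : Fin 4) : (J k)⁻¹ = J k * z := by
  rw [inv_eq_iff_mul_eq_one, ← mul_assoc, F.J_sq, F.z_sq]

theorem J_conj_I (k : Fin 4) : J k * I k * (J k)⁻¹ = I k * z := by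
  rw [F.J_I, F.J_inv]
  have h1 := F.J_sq k
  have h2 : Commute (J k) z := F.J_z k
  calc I k * J k * z * (J k * z) = I k * (J k * (z * J k)) * z := by group
    _ = I k * (J k * J k) * (z * z) := by rw [← F.J_z]; group
    _ = _ := by rw [h1, F.z_sq, mul_one]

theorem J_conj_I' {k l : Fin 4} (h : k ≠ l) : J k * I l * (J k)⁻¹ = I l := by
  rw [← F.I_J l k h.symm]; group

theorem I_conj_y {y : G} (h : Inv z x I J y) (k : Fin 4) : I k * y * (I k)⁻¹ = z * y := by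
  have h2 := h.yI k
  have h3 : y * I k = I k * z * y := by rw [← h2]; group
  calc I k * y * (I k)⁻¹ = (z * z) * (I k * y * (I k)⁻¹) := by rw [F.z_sq, one_mul]
    _ = z * ((z * I k) * y * (I k)⁻¹) := by group
    _ = z * ((y * I k) * (I k)⁻¹) := by rw [← F.I_z k, h3]
    _ = z * y := by group

theorem J_conj_y {y : G} (h : Inv z x I J y) (k : Fin 4) : J k * y * (J k)⁻¹ = I k * y := by
  have h2 := h.yJ k
  have h3 : y * (J k)⁻¹ = (I k * J k * z)⁻¹ * y := by rw [← h2]; group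
  calc J k * y * (J k)⁻¹ = J k * (y * (J k)⁻¹) := by group
    _ = J k * (z⁻¹ * (J k)⁻¹) * (I k)⁻¹ * y := by rw [h3]; group
    _ = J k * ((J k)⁻¹ * z⁻¹) * (I k)⁻¹ * y := by
      have : Commute (J k) z := F.J_z k
      rw [(this.inv_inv).eq]
    _ = z⁻¹ * (I k)⁻¹ * y := by group
    _ = z * (I k * z) * y := by rw [F.z_inv, F.I_inv]
    _ = I k * (z * z) * y := by rw [← mul_assoc z, ← F.I_z]; group
    _ = _ := by rw [F.z_sq, mul_one]

end Frame

namespace Setup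

variable {Q : Subgroup G} {z : G} {x I J : Fin 4 → G} {y ρ : G} (S : Setup Q z x I J y ρ)

include S

theorem s_y (l m : Fin 4) : y * (I l * I m) * y⁻¹ = I l * I m := by
  calc y * (I l * I m) * y⁻¹ = (y * I l * y⁻¹) * (y * I m * y⁻¹) := by group
    _ = I l * (z * I m) * z := by rw [S.inv.yI, S.inv.yI]; group
    _ = I l * I m * (z * z) := by rw [← S.fr.I_z]; group
    _ = _ := by rw [S.fr.z_sq, mul_one]

theorem s_z (l m : Fin 4) : (I l * I m) * z = z * (I l * I m) := by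
  have h1 : Commute (I l) z := S.fr.I_z l
  have h2 : Commute (I m) z := S.fr.I_z m
  exact (h1.mul_left h2).eq

theorem s_sq {l m : Fin 4} (h : l ≠ m) : (I l * I m) * (I l * I m) = 1 := by
  calc (I l * I m) * (I l * I m) = I l * (I m * I l) * I m := by group
    _ = (I l * I l) * (I m * I m) := by rw [← S.fr.I_I l m h]; group
    _ = 1 := by rw [S.fr.I_sq, S.fr.I_sq, S.fr.z_sq]

/-- `g = J l J m` : `y ↦ I l I m y` -/
theorem g_y {l m : Fin 4} (h : l ≠ m) : (J l * J m) * y * (J l * J m)⁻¹ = (I l * I m) * y := by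
  calc (J l * J m) * y * (J l * J m)⁻¹ = J l * (J m * y * (J m)⁻¹) * (J l)⁻¹ := by group
    _ = (J l * I m * (J l)⁻¹) * (J l * y * (J l)⁻¹) := by rw [S.fr.J_conj_y S.inv]; group
    _ = I m * (I l * y) := by rw [S.fr.J_conj_I' h, S.fr.J_conj_y S.inv]
    _ = _ := by rw [← mul_assoc, S.fr.I_I m l h.symm]

theorem g_s {l m : Fin 4} (h : l ≠ m) : (J l * J m) * (I l * I m) * (J l * J m)⁻¹ = I l * I m := by
  calc (J l * J m) * (I l * I m) * (J l * J m)⁻¹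
      = (J l * (J m * I l * (J m)⁻¹) * (J l)⁻¹) * (J l * (J m * I m * (J m)⁻¹) * (J l)⁻¹) := by group
    _ = (J l * I l * (J l)⁻¹) * ((J l * I m * (J l)⁻¹) * (J l * z) * (J l)⁻¹) := by
      rw [S.fr.J_conj_I' h.symm, S.fr.J_conj_I m]; group
    _ = I l * (z * I m) * z := by rw [S.fr.J_conj_I, S.fr.J_conj_I' h, S.fr.J_z]; group
    _ = I l * I m * (z * z) := by rw [← S.fr.I_z]; group
    _ = _ := by rw [S.fr.z_sq, mul_one]

theorem g_s' {l m n : Fin 4} (hlm : l ≠ m) (hmn : m ≠ n) (hln : l ≠ n) :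
    (J l * J m) * (I m * I n) * (J l * J m)⁻¹ = z * (I m * I n) := by
  calc (J l * J m) * (I m * I n) * (J l * J m)⁻¹
      = (J l * (J m * I m * (J m)⁻¹) * (J l)⁻¹) * (J l * (J m * I n * (J m)⁻¹) * (J l)⁻¹) := by group
    _ = ((J l * I m * (J l)⁻¹) * (J l * z) * (J l)⁻¹) * (J l * I n * (J l)⁻¹) := by
      rw [S.fr.J_conj_I, S.fr.J_conj_I' hmn]; group
    _ = (I m * z) * I n := by rw [S.fr.J_conj_I' hlm, S.fr.J_conj_I' hln, S.fr.J_z]; group
    _ = _ := by rw [S.fr.I_z]; group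

/-- `C_O(y)` transported to `C(z)`: commutes with `z` -/
theorem back_z {u : G} (hu : y * u = u * y) : (ρ⁻¹ * u * ρ) * z = z * (ρ⁻¹ * u * ρ) := by
  have h1 := S.rz
  calc (ρ⁻¹ * u * ρ) * z = ρ⁻¹ * (u * (ρ * z * ρ⁻¹)) * ρ := by group
    _ = ρ⁻¹ * ((ρ * z * ρ⁻¹) * u) * ρ := by rw [h1, hu]
    _ = _ := by group

theorem back_y {u : G} (hu : y * u = u * y) (huz : z * u * z⁻¹ = u⁻¹) :
    y * (ρ⁻¹ * u * ρ) * y⁻¹ = (ρ⁻¹ * u * ρ)⁻¹ := by
  have h1 := S.ry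
  calc y * (ρ⁻¹ * u * ρ) * y⁻¹ = ρ⁻¹ * ((ρ * y * ρ⁻¹) * u * (ρ * y * ρ⁻¹)⁻¹) * ρ := by group
    _ = ρ⁻¹ * (z * (y * u) * y⁻¹ * z⁻¹) * ρ := by rw [h1]; group
    _ = ρ⁻¹ * (z * u * z⁻¹) * ρ := by rw [hu]; group
    _ = _ := by rw [huz]; group

omit S in
theorem back_odd {u : G} (hu : Odd (orderOf u)) : Odd (orderOf (ρ⁻¹ * u * ρ)) := by
  have h1 : orderOf (ρ⁻¹ * u * ρ) = orderOf u := by
    have := (MulAut.conj ρ⁻¹ : MulAut G).injective
    have h2 := orderOf_injective (MulAut.conj ρ⁻¹ : MulAut G).toMonoidHom this u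
    rw [← h2]
    congr 1
    show _ = ρ⁻¹ * u * ρ⁻¹⁻¹
    rw [inv_inv]
  rw [h1]; exact hu

/-- The structure of elements of `C_O(y)`. -/
theorem exists_exp [Finite G] {k : Fin 4} {u : G} (hu : u ∈ Og z (x k)) (huy : y * u = u * y) :
    ∃ (i : Fin 4 → ℕ) (s : Fin 4 → Bool), (∀ j, i j < 3) ∧ ρ⁻¹ * u * ρ = prod4 (fun j => rt x I j (s j) ^ i j) ∧
      S.fr.large.act ⟨ρ⁻¹ * u * ρ, Subgroup.mem_centralizer_singleton_iff.2 (S.back_z huy)⟩ =
        S.fr.input.ξ 0 ^ i 0 * S.fr.input.ξ 1 ^ i 1 * S.fr.input.ξ 2 ^ i 2 * S.fr.input.ξ 3 ^ i 3 :=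
  Inv.exists_prod S.fr S.inv (S.back_z huy) (back_odd (S.og_odd hu)) (S.back_y huy (S.inv_of_y hu huy))

/-- two elements of `C_O(y)` with the same exponents are equal -/
theorem eq_of_act [Finite G] {k : Fin 4} {u v : G} (hu : u ∈ Og z (x k)) (huy : y * u = u * y)
    (hv : v ∈ Og z (x k)) (hvy : y * v = v * y)
    (h : S.fr.large.act ⟨ρ⁻¹ * u * ρ, Subgroup.mem_centralizer_singleton_iff.2 (S.back_z huy)⟩ =
      S.fr.large.act ⟨ρ⁻¹ * v * ρ, Subgroup.mem_centralizer_singleton_iff.2 (S.back_z hvy)⟩) : u = v := by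
  have hfin := S.fr.finiteQ
  have h1 : S.fr.large.act (⟨ρ⁻¹ * u * ρ, Subgroup.mem_centralizer_singleton_iff.2 (S.back_z huy)⟩ *
      ⟨ρ⁻¹ * v * ρ, Subgroup.mem_centralizer_singleton_iff.2 (S.back_z hvy)⟩⁻¹) = 1 := by
    rw [map_mul, map_inv, h, mul_inv_cancel]
  have h2 : ρ⁻¹ * u * ρ * (ρ⁻¹ * v * ρ)⁻¹ ∈ Q := S.fr.large.mem_of_act _ h1
  have h3 : ρ⁻¹ * u * ρ * (ρ⁻¹ * v * ρ)⁻¹ = ρ⁻¹ * (u * v⁻¹) * ρ := by group
  rw [h3] at h2
  have h4 := S.fr.odd_mem_Q h2 (back_odd (S.og_odd ((Og z (x k)).mul_mem hu ((Og z (x k)).inv_mem hv))))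
  have h5 : u * v⁻¹ = 1 := by
    calc u * v⁻¹ = ρ * (ρ⁻¹ * (u * v⁻¹) * ρ) * ρ⁻¹ := by group
      _ = 1 := by rw [h4]; group
  exact mul_inv_eq_one.1 h5

theorem cube_of_y [Finite G] {k : Fin 4} {u : G} (hu : u ∈ Og z (x k)) (huy : y * u = u * y) : u ^ 3 = 1 := by
  obtain ⟨i, _, ⟨q, hq, e⟩, _⟩ := S.fr.exists_conj_prod (S.back_z huy) (back_odd (S.og_odd hu))
    (Inv.act_comm S.fr S.inv (S.back_z huy) (back_odd (S.og_odd hu)) (S.back_y huy (S.inv_of_y hu huy)))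
  have h1 : (ρ⁻¹ * u * ρ) ^ 3 = 1 := by
    rw [e, conj_pow, S.fr.prod4_x_cube]; group
  have h2 : u ^ 3 = ρ * (ρ⁻¹ * u * ρ) ^ 3 * ρ⁻¹ := by
    rw [← conj_pow]
    congr 1
    group
  rw [h2, h1]; group

end Setup

/-- eigenvectors in `C_N(y)` -/
def Eig {G : Type*} [Group G] (N : Subgroup G) (y s1 s2 : G) (a b : Bool) : Prop :=
  ∃ u ∈ N, u ≠ 1 ∧ y * u = u * y ∧ s1 * u * s1⁻¹ = sg a u ∧ s2 * u * s2⁻¹ = sg b u

theorem Eig.swap {N : Subgroup G} {y s1 s2 : G} {a b : Bool} (h : Eig N y s1 s2 a b) : Eig N y s2 s1 b a := by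
  obtain ⟨u, h1, h2, h3, h4, h5⟩ := h
  exact ⟨u, h1, h2, h3, h5, h4⟩

namespace Setup

variable {Q : Subgroup G} {z : G} {x I J : Fin 4 → G} {y ρ : G} (S : Setup Q z x I J y ρ)

include S

/-- existence of an eigenvector -/
theorem exists_eig [Finite G] {k : Fin 4} {N : Subgroup G} (hN : N ≤ Og z (x k))
    {s1 s2 : G} (hs1 : s1 * s1 = 1) (hs2 : s2 * s2 = 1) (h12 : s1 * s2 = s2 * s1)
    (h1N : ∀ w ∈ N, s1 * w * s1⁻¹ ∈ N) (h2N : ∀ w ∈ N, s2 * w * s2⁻¹ ∈ N)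
    (h1y : y * s1 * y⁻¹ = s1) (h2y : y * s2 * y⁻¹ = s2) (hu : ∃ u ∈ N, u ≠ 1 ∧ y * u = u * y) :
    ∃ a b, Eig N y s1 s2 a b := by
  -- one step
  have step : ∀ s : G, s * s = 1 → (∀ w ∈ N, s * w * s⁻¹ ∈ N) → y * s * y⁻¹ = s → ∀ u ∈ N, u ≠ 1 → y * u = u * y →
      ∃ v ∈ N, v ≠ 1 ∧ y * v = v * y ∧ (∃ a, s * v * s⁻¹ = sg a v) ∧
        ∀ g, ∀ b, g * s = s * g → g * u * g⁻¹ = sg b u → g * v * g⁻¹ = sg b v := by
    intro s hs hsN hsy u huN hu1 huy
    have hys : y * s = s * y := by rw [← mul_inv_eq_iff_eq_mul]; exact hsy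
    have hyu' : y * (s * u * s⁻¹) = (s * u * s⁻¹) * y := by
      have h1 : Commute y s := hys
      have h2 : Commute y u := huy
      exact ((h1.mul_right h2).mul_right h1.inv_right).eq
    have hc := S.comm_of_y (hN huN) huy (hN (hsN u huN)) hyu'
    by_cases h1 : u * (s * u * s⁻¹) = 1
    · refine ⟨u, huN, hu1, huy, ⟨true, ?_⟩, fun g b _ h => h⟩
      exact eq_inv_of_mul_eq_one_right h1
    · refine ⟨u * (s * u * s⁻¹), N.mul_mem huN (hsN u huN), h1, ?_, ⟨false, ?_⟩, ?_⟩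
      · have h2 : Commute y u := huy
        have h3 : Commute y (s * u * s⁻¹) := hyu'
        exact (h2.mul_right h3).eq
      · show s * (u * (s * u * s⁻¹)) * s⁻¹ = u * (s * u * s⁻¹)
        calc s * (u * (s * u * s⁻¹)) * s⁻¹ = (s * u * s⁻¹) * ((s * s) * u * (s * s)⁻¹) := by group
          _ = (s * u * s⁻¹) * u := by rw [hs]; group
          _ = _ := hc.symm
      · intro g b hgs hgu
        have h2 : g * (s * u * s⁻¹) * g⁻¹ = sg b (s * u * s⁻¹) := by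
          rw [← sg_conj, ← hgu]
          have h3 : Commute g s := hgs
          calc g * (s * u * s⁻¹) * g⁻¹ = (g * s) * u * (g * s)⁻¹ := by group
            _ = (s * g) * u * (s * g)⁻¹ := by rw [hgs]
            _ = _ := by group
        calc g * (u * (s * u * s⁻¹)) * g⁻¹ = (g * u * g⁻¹) * (g * (s * u * s⁻¹) * g⁻¹) := by group
          _ = sg b u * sg b (s * u * s⁻¹) := by rw [hgu, h2]
          _ = sg b (u * (s * u * s⁻¹)) := by
            cases b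
            · rfl
            · show u⁻¹ * (s * u * s⁻¹)⁻¹ = (u * (s * u * s⁻¹))⁻¹
              rw [← mul_inv_rev, hc]
  obtain ⟨u, huN, hu1, huy⟩ := hu
  obtain ⟨v, hvN, hv1, hvy, ⟨a, ha⟩, _⟩ := step s1 hs1 h1N h1y u huN hu1 huy
  obtain ⟨w, hwN, hw1, hwy, ⟨b, hb⟩, hw⟩ := step s2 hs2 h2N h2y v hvN hv1 hvy
  exact ⟨a, b, w, hwN, hw1, hwy, hw s1 a h12 ha, hb⟩

/-- moving an eigenvector to another character -/
theorem eig_move [Finite G] {k : Fin 4} {N : Subgroup G} (hN : N ≤ Og z (x k)) {l m n : Fin 4} (hkl : k ≠ l)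
    (hkm : k ≠ m) (hlm : l ≠ m) (hmn : m ≠ n) (hln : l ≠ n)
    (hI : ∀ l, k ≠ l → ∀ w ∈ N, I l * w * (I l)⁻¹ ∈ N) (hJ : ∀ l, k ≠ l → ∀ w ∈ N, J l * w * (J l)⁻¹ ∈ N)
    {a b : Bool} (h : Eig N y (I l * I m) (I m * I n) a b) : Eig N y (I l * I m) (I m * I n) a (!b) := by
  obtain ⟨u, huN, hu1, huy, h1, h2⟩ := h
  have huz := S.inv_of_y (hN huN) huy
  have key : ∀ g c : G, g * u * g⁻¹ ∈ N → g * (I l * I m) * g⁻¹ = I l * I m → g * y * g⁻¹ = c * y →
      g * c * g⁻¹ = c → c * u = u * c → g * (I m * I n) * g⁻¹ = z * (I m * I n) → g * z = z * g →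
      Eig N y (I l * I m) (I m * I n) a (!b) := by
    intro g c hgN hg1 hgy hgc hcu hg2 hgz
    refine ⟨g * u * g⁻¹, hgN, ?_, ?_, ?_, ?_⟩
    · intro h3
      apply hu1
      calc u = g⁻¹ * (g * u * g⁻¹) * g := by group
        _ = 1 := by rw [h3]; group
    · have h3 : Commute (g * y * g⁻¹) (g * u * g⁻¹) := by
        show g * y * g⁻¹ * (g * u * g⁻¹) = g * u * g⁻¹ * (g * y * g⁻¹)
        calc g * y * g⁻¹ * (g * u * g⁻¹) = g * (y * u) * g⁻¹ := by group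
          _ = g * (u * y) * g⁻¹ := by rw [huy]
          _ = _ := by group
      have h4 : Commute (g * c * g⁻¹) (g * u * g⁻¹) := by
        show g * c * g⁻¹ * (g * u * g⁻¹) = g * u * g⁻¹ * (g * c * g⁻¹)
        calc g * c * g⁻¹ * (g * u * g⁻¹) = g * (c * u) * g⁻¹ := by group
          _ = g * (u * c) * g⁻¹ := by rw [hcu]
          _ = _ := by group
      rw [hgy] at h3
      rw [hgc] at h4
      have h5 : Commute (c⁻¹ * (c * y)) (g * u * g⁻¹) := h4.inv_left.mul_left h3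
      have h6 : c⁻¹ * (c * y) = y := by group
      rw [h6] at h5
      exact h5.eq
    · calc I l * I m * (g * u * g⁻¹) * (I l * I m)⁻¹
          = (g * (I l * I m) * g⁻¹) * (g * u * g⁻¹) * (g * (I l * I m) * g⁻¹)⁻¹ := by rw [hg1]
        _ = g * ((I l * I m) * u * (I l * I m)⁻¹) * g⁻¹ := by group
        _ = _ := by rw [h1, sg_conj]
    · have h3 : I m * I n = g * (z * (I m * I n)) * g⁻¹ := by
        calc I m * I n = z * z * (I m * I n) := by rw [S.fr.z_sq, one_mul]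
          _ = z * (g * (I m * I n) * g⁻¹) := by rw [hg2]; group
          _ = (z * g) * (I m * I n) * g⁻¹ := by group
          _ = _ := by rw [← hgz]; group
      calc I m * I n * (g * u * g⁻¹) * (I m * I n)⁻¹
          = (g * (z * (I m * I n)) * g⁻¹) * (g * u * g⁻¹) * (g * (z * (I m * I n)) * g⁻¹)⁻¹ := by rw [← h3]
        _ = g * (z * (I m * I n * u * (I m * I n)⁻¹) * z⁻¹) * g⁻¹ := by group
        _ = g * (z * sg b u * z⁻¹) * g⁻¹ := by rw [h2]
        _ = g * (sg (!b) u) * g⁻¹ := by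
          rw [sg_conj, huz]
          congr 2
          cases b
          · rfl
          · show (u⁻¹)⁻¹ = u
            rw [inv_inv]
        _ = _ := by rw [sg_conj]
  have hJz : (J l * J m) * z = z * (J l * J m) := by
    have h3 : Commute (J l) z := S.fr.J_z l
    have h4 : Commute (J m) z := S.fr.J_z m
    exact (h3.mul_left h4).eq
  have hJN : ∀ w ∈ N, (J l * J m) * w * (J l * J m)⁻¹ ∈ N := by
    intro w hw
    have := hJ l hkl _ (hJ m hkm w hw)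
    have h3 : J l * J m * w * (J l * J m)⁻¹ = J l * (J m * w * (J m)⁻¹) * (J l)⁻¹ := by group
    rw [h3]; exact this
  cases a
  · -- `s1` commutes with `u`
    refine key (J l * J m) (I l * I m) (hJN u huN) (S.g_s hlm) (S.g_y hlm) (S.g_s hlm) ?_ (S.g_s' hlm hmn hln) hJz
    have h3 : I l * I m * u * (I l * I m)⁻¹ = u := h1
    rw [mul_inv_eq_iff_eq_mul] at h3
    exact h3
  · -- `z s1` commutes with `u`
    have hIs : I l * (I l * I m) * (I l)⁻¹ = I l * I m := by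
      calc I l * (I l * I m) * (I l)⁻¹ = I l * (I l * I m * (I l)⁻¹) := by group
        _ = _ := by rw [S.fr.I_conj_I]
    have hIs' : I l * (I m * I n) * (I l)⁻¹ = I m * I n := by
      calc I l * (I m * I n) * (I l)⁻¹ = (I l * I m * (I l)⁻¹) * (I l * I n * (I l)⁻¹) := by group
        _ = _ := by rw [S.fr.I_conj_I, S.fr.I_conj_I]
    have hgs : (J l * J m * I l) * (I l * I m) * (J l * J m * I l)⁻¹ = I l * I m := by
      calc (J l * J m * I l) * (I l * I m) * (J l * J m * I l)⁻¹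
          = (J l * J m) * (I l * (I l * I m) * (I l)⁻¹) * (J l * J m)⁻¹ := by group
        _ = _ := by rw [hIs, S.g_s hlm]
    have hgz : (J l * J m * I l) * z = z * (J l * J m * I l) := by
      have h3 : Commute (J l * J m) z := hJz
      have h4 : Commute (I l) z := S.fr.I_z l
      exact (h3.mul_left h4).eq
    refine key (J l * J m * I l) (z * (I l * I m)) ?_ hgs ?_ ?_ ?_ ?_ hgz
    · have h3 := hJN _ (hI l hkl u huN)
      have h4 : J l * J m * I l * u * (J l * J m * I l)⁻¹ = J l * J m * (I l * u * (I l)⁻¹) * (J l * J m)⁻¹ := by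
        group
      rw [h4]; exact h3
    · calc (J l * J m * I l) * y * (J l * J m * I l)⁻¹
          = (J l * J m) * (I l * y * (I l)⁻¹) * (J l * J m)⁻¹ := by group
        _ = ((J l * J m) * z) * y * (J l * J m)⁻¹ := by rw [S.fr.I_conj_y S.inv]; group
        _ = z * ((J l * J m) * y * (J l * J m)⁻¹) := by rw [hJz]; group
        _ = _ := by rw [S.g_y hlm]; group
    · calc (J l * J m * I l) * (z * (I l * I m)) * (J l * J m * I l)⁻¹
          = ((J l * J m * I l) * z) * (I l * I m) * (J l * J m * I l)⁻¹ := by group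
        _ = z * ((J l * J m * I l) * (I l * I m) * (J l * J m * I l)⁻¹) := by rw [hgz]; group
        _ = _ := by rw [hgs]
    · have h3 : I l * I m * u * (I l * I m)⁻¹ = u⁻¹ := h1
      have h4 : (z * (I l * I m)) * u * (z * (I l * I m))⁻¹ = u := by
        calc (z * (I l * I m)) * u * (z * (I l * I m))⁻¹ = z * (I l * I m * u * (I l * I m)⁻¹) * z⁻¹ := by group
          _ = (z * u * z⁻¹)⁻¹ := by rw [h3]; group
          _ = u := by rw [huz, inv_inv]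
      rw [mul_inv_eq_iff_eq_mul] at h4
      exact h4
    · calc (J l * J m * I l) * (I m * I n) * (J l * J m * I l)⁻¹
          = (J l * J m) * (I l * (I m * I n) * (I l)⁻¹) * (J l * J m)⁻¹ := by group
        _ = _ := by rw [hIs', S.g_s' hlm hmn hln]

/-- all four characters occur -/
theorem eig_all [Finite G] {k : Fin 4} {N : Subgroup G} (hN : N ≤ Og z (x k)) {l m n : Fin 4} (hkl : k ≠ l)
    (hkm : k ≠ m) (hkn : k ≠ n) (hlm : l ≠ m) (hmn : m ≠ n) (hln : l ≠ n)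
    (hI : ∀ l, k ≠ l → ∀ w ∈ N, I l * w * (I l)⁻¹ ∈ N) (hJ : ∀ l, k ≠ l → ∀ w ∈ N, J l * w * (J l)⁻¹ ∈ N)
    (hu : ∃ u ∈ N, u ≠ 1 ∧ y * u = u * y) (a b : Bool) : Eig N y (I l * I m) (I m * I n) a b := by
  have hIN : ∀ i j : Fin 4, k ≠ i → k ≠ j → ∀ w ∈ N, (I i * I j) * w * (I i * I j)⁻¹ ∈ N := by
    intro i j hi hj w hw
    have := hI i hi _ (hI j hj w hw)
    have h3 : I i * I j * w * (I i * I j)⁻¹ = I i * (I j * w * (I j)⁻¹) * (I i)⁻¹ := by group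
    rw [h3]; exact this
  have h12 : (I l * I m) * (I m * I n) = (I m * I n) * (I l * I m) := by
    have c1 : Commute (I l) (I m) := S.fr.I_I l m hlm
    have c2 : Commute (I l) (I n) := S.fr.I_I l n hln
    have c3 : Commute (I m) (I n) := S.fr.I_I m n hmn
    exact ((c1.mul_right c2).mul_left ((Commute.refl _).mul_right c3)).eq
  obtain ⟨c, d, h⟩ := S.exists_eig hN (S.s_sq hlm) (S.s_sq hmn) h12 (hIN l m hkl hkm) (hIN m n hkm hkn)
    (S.s_y l m) (S.s_y m n) hu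
  have mv1 : ∀ c d, Eig N y (I l * I m) (I m * I n) c d → Eig N y (I l * I m) (I m * I n) c (!d) :=
    fun c d h => S.eig_move hN hkl hkm hlm hmn hln hI hJ h
  have mv2 : ∀ c d, Eig N y (I l * I m) (I m * I n) c d → Eig N y (I l * I m) (I m * I n) (!c) d := by
    intro c d h
    have e1 : I m * I n = I n * I m := S.fr.I_I m n hmn
    have e2 : I l * I m = I m * I l := S.fr.I_I l m hlm
    rw [e1, e2] at h ⊢
    exact (S.eig_move hN hkn hkm hmn.symm hlm.symm hln.symm hI hJ h.swap).swap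
  have h1 : Eig N y (I l * I m) (I m * I n) c b := by
    by_cases e : d = b
    · rw [← e]; exact h
    · have : b = !d := by revert e; cases b <;> cases d <;> simp
      rw [this]; exact mv1 _ _ h
  by_cases e : c = a
  · rw [← e]; exact h1
  · have : a = !c := by revert e; cases a <;> cases c <;> simp
    rw [this]; exact mv2 _ _ h1

end Setup

end Cfsg.Agent.TypeD4Three
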