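import Cfsg.Agent.TypeD4Three.ThreeB

/-!
# S1763, case [P] : 3-local analysis, part C: the roots in `O` (helper754)
-/

set_option autoImplicit false

namespace Cfsg.Agent.TypeD4Three

open Cfsg.Agent.Co2Type.Quad

variable {G : Type*} [Group G]

theorem exists_three (k : Fin 4) : ∃ l m n : Fin 4, k ≠ l ∧ k ≠ m ∧ k ≠ n ∧ l ≠ m ∧ m ≠ n ∧ l ≠ n := by
  revert k; decide

namespace Setup

variable {Q : Subgroup G} {z : G} {x I J : Fin 4 → G} {y ρ : G} (S : Setup Q z x I J y ρ)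

include S

theorem eig_commute [Finite G] {k : Fin 4} {N : Subgroup G} (hN : N ≤ Og z (x k)) {u v : G} (hu : u ∈ N)
    (huy : y * u = u * y) (hv : v ∈ N) (hvy : y * v = v * y) : Commute u v :=
  S.comm_of_y (hN hu) huy (hN hv) hvy

/-- The root elements of type `1` in `N`. -/
theorem exists_root [Finite G] {k : Fin 4} {N : Subgroup G} (hN : N ≤ Og z (x k))
    (hI : ∀ l, k ≠ l → ∀ w ∈ N, I l * w * (I l)⁻¹ ∈ N) (hJ : ∀ l, k ≠ l → ∀ w ∈ N, J l * w * (J l)⁻¹ ∈ N)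
    (hu : ∃ u ∈ N, u ≠ 1 ∧ y * u = u * y) (j : Fin 4) : ∃ t, ρ * rt x I j t * ρ⁻¹ ∈ N := by
  classical
  have hfin := S.fr.finiteQ
  obtain ⟨l, m, n, hkl, hkm, hkn, hlm, hmn, hln⟩ := exists_three k
  have hE := S.eig_all hN hkl hkm hkn hlm hmn hln hI hJ hu
  obtain ⟨u1, n1, o1, y1, a1, b1⟩ := hE false false
  obtain ⟨u2, n2, o2, y2, a2, b2⟩ := hE false true
  obtain ⟨u3, n3, o3, y3, a3, b3⟩ := hE true false
  obtain ⟨u4, n4, o4, y4, a4, b4⟩ := hE true true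
  set s1 := I l * I m
  set s2 := I m * I n
  have c12 : Commute u1 u2 := S.eig_commute hN n1 y1 n2 y2
  have c13 : Commute u1 u3 := S.eig_commute hN n1 y1 n3 y3
  have c14 : Commute u1 u4 := S.eig_commute hN n1 y1 n4 y4
  have c23 : Commute u2 u3 := S.eig_commute hN n2 y2 n3 y3
  have c24 : Commute u2 u4 := S.eig_commute hN n2 y2 n4 y4
  have c34 : Commute u3 u4 := S.eig_commute hN n3 y3 n4 y4
  have q1 := S.cube_of_y (hN n1) y1
  have q2 := S.cube_of_y (hN n2) y2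
  have q3 := S.cube_of_y (hN n3) y3
  have q4 := S.cube_of_y (hN n4) y4
  let θ : (Fin 4 → Fin 3) → G := fun i => u1 ^ (i 0 : ℕ) * u2 ^ (i 1 : ℕ) * u3 ^ (i 2 : ℕ) * u4 ^ (i 3 : ℕ)
  have hθN : ∀ i, θ i ∈ N := fun i =>
    N.mul_mem (N.mul_mem (N.mul_mem (N.pow_mem n1 _) (N.pow_mem n2 _)) (N.pow_mem n3 _)) (N.pow_mem n4 _)
  have hθy : ∀ i, y * θ i = θ i * y := by
    intro i
    have e1 : Commute y u1 := y1
    have e2 : Commute y u2 := y2
    have e3 : Commute y u3 := y3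
    have e4 : Commute y u4 := y4
    exact (((e1.pow_right _).mul_right (e2.pow_right _)).mul_right (e3.pow_right _)).mul_right (e4.pow_right _) |>.eq
  have hθinj : Function.Injective θ := by
    intro i i' h
    -- the quotients
    have r1 : s1 * (u1 ^ (i 0 : ℕ) * (u1 ^ (i' 0 : ℕ))⁻¹) * s1⁻¹ = u1 ^ (i 0 : ℕ) * (u1 ^ (i' 0 : ℕ))⁻¹ := by
      have a1' : s1 * u1 * s1⁻¹ = u1 := a1
      calc s1 * (u1 ^ (i 0 : ℕ) * (u1 ^ (i' 0 : ℕ))⁻¹) * s1⁻¹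
          = (s1 * u1 ^ (i 0 : ℕ) * s1⁻¹) * (s1 * u1 ^ (i' 0 : ℕ) * s1⁻¹)⁻¹ := by group
        _ = _ := by rw [← conj_pow, ← conj_pow, a1']
    have gen : ∀ (s u : G) (a b : ℕ) (c : Bool), s * u * s⁻¹ = sg c u →
        s * (u ^ a * (u ^ b)⁻¹) * s⁻¹ = sg c (u ^ a * (u ^ b)⁻¹) := by
      intro s u a b c hc
      have h1 : s * (u ^ a * (u ^ b)⁻¹) * s⁻¹ = (s * u * s⁻¹) ^ a * ((s * u * s⁻¹) ^ b)⁻¹ := by
        rw [conj_pow, conj_pow]; group
      rw [h1, hc]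
      cases c
      · rfl
      · show (u⁻¹) ^ a * ((u⁻¹) ^ b)⁻¹ = (u ^ a * (u ^ b)⁻¹)⁻¹
        have h2 : Commute (u ^ a) (u ^ b) := (Commute.refl u).pow_pow a b
        rw [inv_pow, inv_pow, mul_inv_rev, inv_inv, h2.inv_left.eq]
    have cb : ∀ (u : G) (a b : ℕ), u ^ 3 = 1 → (u ^ a * (u ^ b)⁻¹) ^ 3 = 1 := by
      intro u a b hq
      have h2 : Commute (u ^ a) (u ^ b)⁻¹ := ((Commute.refl u).pow_pow a b).inv_right
      rw [h2.mul_pow, ← pow_mul, mul_comm a 3, pow_mul, hq, one_pow, inv_pow, ← pow_mul, mul_comm b 3, pow_mul, hq,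
        one_pow]
      simp
    have cc : ∀ (u v : G) (a b c d : ℕ), Commute u v → Commute (u ^ a * (u ^ b)⁻¹) (v ^ c * (v ^ d)⁻¹) := by
      intro u v a b c d huv
      exact ((huv.pow_pow a c).mul_right (huv.pow_pow a d).inv_right).mul_left
        ((huv.pow_pow b c).inv_left.mul_right (huv.pow_pow b d).inv_inv)
    have hprod : (u1 ^ (i 0 : ℕ) * (u1 ^ (i' 0 : ℕ))⁻¹) * (u2 ^ (i 1 : ℕ) * (u2 ^ (i' 1 : ℕ))⁻¹) *
        (u3 ^ (i 2 : ℕ) * (u3 ^ (i' 2 : ℕ))⁻¹) * (u4 ^ (i 3 : ℕ) * (u4 ^ (i' 3 : ℕ))⁻¹) = 1 := by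
      have h' : u1 ^ (i 0 : ℕ) * u2 ^ (i 1 : ℕ) * u3 ^ (i 2 : ℕ) * u4 ^ (i 3 : ℕ) =
        u1 ^ (i' 0 : ℕ) * u2 ^ (i' 1 : ℕ) * u3 ^ (i' 2 : ℕ) * u4 ^ (i' 3 : ℕ) := h
      have d12 := c12.pow_pow (i' 0 : ℕ) (i 1 : ℕ)
      have d13 := c13.pow_pow (i' 0 : ℕ) (i 2 : ℕ)
      have d14 := c14.pow_pow (i' 0 : ℕ) (i 3 : ℕ)
      have d23 := c23.pow_pow (i' 1 : ℕ) (i 2 : ℕ)
      have d24 := c24.pow_pow (i' 1 : ℕ) (i 3 : ℕ)
      have d34 := c34.pow_pow (i' 2 : ℕ) (i 3 : ℕ)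
      -- move everything: use prod4_mul
      have e1 := prod4_mul (v := ![u1 ^ (i 0 : ℕ), u2 ^ (i 1 : ℕ), u3 ^ (i 2 : ℕ), u4 ^ (i 3 : ℕ)])
        (w := ![(u1 ^ (i' 0 : ℕ))⁻¹, (u2 ^ (i' 1 : ℕ))⁻¹, (u3 ^ (i' 2 : ℕ))⁻¹, (u4 ^ (i' 3 : ℕ))⁻¹]) (by
          have all : ∀ p q : Fin 4, Commute (![u1, u2, u3, u4] p) (![u1, u2, u3, u4] q) := by
            intro p q
            have hp := Input.fin4 p
            have hq := Input.fin4 q
            rcases hp with rfl | rfl | rfl | rfl <;> rcases hq with rfl | rfl | rfl | rfl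
            · exact Commute.refl _
            · exact c12
            · exact c13
            · exact c14
            · exact c12.symm
            · exact Commute.refl _
            · exact c23
            · exact c24
            · exact c13.symm
            · exact c23.symm
            · exact Commute.refl _
            · exact c34
            · exact c14.symm
            · exact c24.symm
            · exact c34.symm
            · exact Commute.refl _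
          have ev : ∀ p : Fin 4, ![u1 ^ (i 0 : ℕ), u2 ^ (i 1 : ℕ), u3 ^ (i 2 : ℕ), u4 ^ (i 3 : ℕ)] p =
              (![u1, u2, u3, u4] p) ^ (i p : ℕ) := by
            intro p
            rcases Input.fin4 p with rfl | rfl | rfl | rfl <;> rfl
          have ew : ∀ p : Fin 4, ![(u1 ^ (i' 0 : ℕ))⁻¹, (u2 ^ (i' 1 : ℕ))⁻¹, (u3 ^ (i' 2 : ℕ))⁻¹, (u4 ^ (i' 3 : ℕ))⁻¹] p =
              ((![u1, u2, u3, u4] p) ^ (i' p : ℕ))⁻¹ := by
            intro p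
            rcases Input.fin4 p with rfl | rfl | rfl | rfl <;> rfl
          intro p q _
          rw [ev, ew]
          exact ((all p q).pow_pow _ _).inv_right.eq)
      have e2 : (u1 ^ (i 0 : ℕ) * (u1 ^ (i' 0 : ℕ))⁻¹) * (u2 ^ (i 1 : ℕ) * (u2 ^ (i' 1 : ℕ))⁻¹) *
        (u3 ^ (i 2 : ℕ) * (u3 ^ (i' 2 : ℕ))⁻¹) * (u4 ^ (i 3 : ℕ) * (u4 ^ (i' 3 : ℕ))⁻¹) =
        (u1 ^ (i 0 : ℕ) * u2 ^ (i 1 : ℕ) * u3 ^ (i 2 : ℕ) * u4 ^ (i 3 : ℕ)) *
        ((u1 ^ (i' 0 : ℕ))⁻¹ * (u2 ^ (i' 1 : ℕ))⁻¹ * (u3 ^ (i' 2 : ℕ))⁻¹ * (u4 ^ (i' 3 : ℕ))⁻¹) := e1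
      rw [e2, h']
      have f12 := c12.pow_pow (i' 0 : ℕ) (i' 1 : ℕ)
      have f13 := c13.pow_pow (i' 0 : ℕ) (i' 2 : ℕ)
      have f14 := c14.pow_pow (i' 0 : ℕ) (i' 3 : ℕ)
      have f23 := c23.pow_pow (i' 1 : ℕ) (i' 2 : ℕ)
      have f24 := c24.pow_pow (i' 1 : ℕ) (i' 3 : ℕ)
      have f34 := c34.pow_pow (i' 2 : ℕ) (i' 3 : ℕ)
      have e3 : (u1 ^ (i' 0 : ℕ))⁻¹ * (u2 ^ (i' 1 : ℕ))⁻¹ * (u3 ^ (i' 2 : ℕ))⁻¹ * (u4 ^ (i' 3 : ℕ))⁻¹ =
          (u1 ^ (i' 0 : ℕ) * u2 ^ (i' 1 : ℕ) * u3 ^ (i' 2 : ℕ) * u4 ^ (i' 3 : ℕ))⁻¹ := by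
        rw [(((f14.mul_left f24).mul_left f34)).eq, (f13.mul_left f23).eq, f12.eq]
        group
      rw [e3, mul_inv_cancel]
    obtain ⟨z1, z2, z3, z4⟩ := indep (s1 := s1) (s2 := s2) (cc u1 u2 _ _ _ _ c12).eq (cc u3 u4 _ _ _ _ c34).eq
      (gen s1 u1 _ _ _ a1) (gen s1 u2 _ _ _ a2) (gen s1 u3 _ _ _ a3) (gen s1 u4 _ _ _ a4)
      (gen s2 u1 _ _ _ b1) (gen s2 u2 _ _ _ b2) (gen s2 u3 _ _ _ b3) (gen s2 u4 _ _ _ b4)
      (cb u1 _ _ q1) (cb u2 _ _ q2) (cb u3 _ _ q3) hprod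
    have g1 := pow_inj3 o1 q1 (i 0).2 (i' 0).2 (mul_inv_eq_one.1 z1)
    have g2 := pow_inj3 o2 q2 (i 1).2 (i' 1).2 (mul_inv_eq_one.1 z2)
    have g3 := pow_inj3 o3 q3 (i 2).2 (i' 2).2 (mul_inv_eq_one.1 z3)
    have g4 := pow_inj3 o4 q4 (i 3).2 (i' 3).2 (mul_inv_eq_one.1 z4)
    funext p
    rcases Input.fin4 p with rfl | rfl | rfl | rfl
    · exact Fin.ext g1
    · exact Fin.ext g2
    · exact Fin.ext g3
    · exact Fin.ext g4
  have hex := fun i => S.exists_exp (hN (hθN i)) (hθy i)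
  choose e s he hprod hact using hex
  let Φ : (Fin 4 → Fin 3) → (Fin 4 → Fin 3) := fun i j => ⟨e i j, he i j⟩
  have hΦ : Function.Injective Φ := by
    intro i i' h
    apply hθinj
    refine S.eq_of_act (hN (hθN i)) (hθy i) (hN (hθN i')) (hθy i') ?_
    rw [hact, hact]
    have h1 : ∀ j, e i j = e i' j := fun j => congrArg Fin.val (congrFun h j)
    rw [h1, h1, h1, h1]
  have hsurj : Function.Surjective Φ := Finite.injective_iff_surjective.1 hΦ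
  obtain ⟨i, hi⟩ := hsurj (fun p => if p = j then 1 else 0)
  have hei : ∀ p, e i p = if p = j then 1 else 0 := by
    intro p
    have h1 : (⟨e i p, he i p⟩ : Fin 3) = if p = j then 1 else 0 := congrFun hi p
    have h2 := congrArg Fin.val h1
    rw [show ((⟨e i p, he i p⟩ : Fin 3) : ℕ) = e i p from rfl] at h2
    rw [h2]
    by_cases hp : p = j
    · rw [if_pos hp, if_pos hp]; rfl
    · rw [if_neg hp, if_neg hp]; rfl
  refine ⟨s i j, ?_⟩
  have h1 : ρ⁻¹ * θ i * ρ = rt x I j (s i j) := by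
    rw [hprod i]
    have h2 : ∀ p, rt x I p (s i p) ^ e i p = if p = j then rt x I p (s i p) else 1 := by
      intro p
      rw [hei p]
      by_cases hp : p = j
      · rw [if_pos hp, if_pos hp, pow_one]
      · rw [if_neg hp, if_neg hp, pow_zero]
    unfold prod4
    simp only [h2]
    rcases Input.fin4 j with rfl | rfl | rfl | rfl <;> simp
  have h2 : ρ * rt x I j (s i j) * ρ⁻¹ = θ i := by rw [← h1]; group
  rw [h2]
  exact hθN i

/-- If `N` contains a root element of type `1` for each index, then `C_O(y) ≤ N`. -/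
theorem exists_pow_of_roots [Finite G] {k : Fin 4} {t : Fin 4 → Bool} (ht : ∀ j, ρ * rt x I j (t j) * ρ⁻¹ ∈ Og z (x k))
    {u : G} (hu : u ∈ Og z (x k)) (huy : y * u = u * y) :
    ∃ i : Fin 4 → ℕ, u = prod4 (fun j => (ρ * rt x I j (t j) * ρ⁻¹) ^ i j) := by
  obtain ⟨i, s, hi, h1, h2⟩ := S.exists_exp hu huy
  refine ⟨i, ?_⟩
  have hv : prod4 (fun j => (ρ * rt x I j (t j) * ρ⁻¹) ^ i j) ∈ Og z (x k) :=
    prod4_mem fun j => Subgroup.pow_mem _ (ht j) _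
  have hrt : ∀ j s, rt x I j s * z = z * rt x I j s := by
    intro j s
    cases s
    · exact S.fr.x_z j
    · have e1 : Commute (x j) z := S.fr.x_z j
      have e2 : Commute (I j) z := S.fr.I_z j
      exact ((e2.mul_left e1).mul_left e2.inv_left).eq
  have hvy : y * prod4 (fun j => (ρ * rt x I j (t j) * ρ⁻¹) ^ i j) =
      prod4 (fun j => (ρ * rt x I j (t j) * ρ⁻¹) ^ i j) * y := by
    refine (prod4_comm fun j => ?_).symm
    have h3 : Commute (ρ * rt x I j (t j) * ρ⁻¹) y := by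
      show ρ * rt x I j (t j) * ρ⁻¹ * y = y * (ρ * rt x I j (t j) * ρ⁻¹)
      rw [← S.rz]
      calc ρ * rt x I j (t j) * ρ⁻¹ * (ρ * z * ρ⁻¹) = ρ * (rt x I j (t j) * z) * ρ⁻¹ := by group
        _ = ρ * (z * rt x I j (t j)) * ρ⁻¹ := by rw [hrt]
        _ = _ := by group
    exact (h3.pow_left _).eq
  refine S.eq_of_act hu huy hv hvy ?_
  rw [h2]
  have h3 : ρ⁻¹ * prod4 (fun j => (ρ * rt x I j (t j) * ρ⁻¹) ^ i j) * ρ = prod4 (fun j => rt x I j (t j) ^ i j) := by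
    have h4 := prod4_conj ρ⁻¹ (fun j => (ρ * rt x I j (t j) * ρ⁻¹) ^ i j)
    rw [inv_inv] at h4
    rw [h4]
    congr 1
    funext j
    rw [conj_pow]; group
  have hcen : ∀ j s, rt x I j s ∈ Subgroup.centralizer ({z} : Set G) := fun j s =>
    Subgroup.mem_centralizer_singleton_iff.2 (hrt j s)
  have hactrt : ∀ j s, S.fr.large.act ⟨rt x I j s, hcen j s⟩ = S.fr.input.ξ j := by
    intro j s
    cases s
    · rfl
    · have e1 : (⟨rt x I j true, hcen j true⟩ : Subgroup.centralizer ({z} : Set G)) =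
        ⟨I j, Subgroup.mem_centralizer_singleton_iff.2 (S.fr.I_z j)⟩ * ⟨x j, S.fr.x_mem j⟩ *
          ⟨I j, Subgroup.mem_centralizer_singleton_iff.2 (S.fr.I_z j)⟩⁻¹ := rfl
      rw [e1, map_mul, map_mul, map_inv, S.fr.large.act_mem
        ⟨I j, Subgroup.mem_centralizer_singleton_iff.2 (S.fr.I_z j)⟩ (S.fr.I_mem j)]
      rw [one_mul, inv_one, mul_one]
      rfl
  have h5 : (⟨ρ⁻¹ * prod4 (fun j => (ρ * rt x I j (t j) * ρ⁻¹) ^ i j) * ρ,
      Subgroup.mem_centralizer_singleton_iff.2 (S.back_z hvy)⟩ : Subgroup.centralizer ({z} : Set G)) =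
      prod4 (fun j => (⟨rt x I j (t j), hcen j (t j)⟩ : Subgroup.centralizer ({z} : Set G)) ^ i j) := by
    apply Subtype.ext
    rw [show (((⟨ρ⁻¹ * prod4 (fun j => (ρ * rt x I j (t j) * ρ⁻¹) ^ i j) * ρ,
      Subgroup.mem_centralizer_singleton_iff.2 (S.back_z hvy)⟩ : Subgroup.centralizer ({z} : Set G))) : G) =
      ρ⁻¹ * prod4 (fun j => (ρ * rt x I j (t j) * ρ⁻¹) ^ i j) * ρ from rfl, h3]
    rfl
  rw [h5, map_prod4]
  unfold prod4
  simp only [map_pow, hactrt]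

/-- All of the root elements of type `1` for `O`. -/
theorem exists_root_og [Finite G] (k j : Fin 4) : ∃ t, ρ * rt x I j t * ρ⁻¹ ∈ Og z (x k) :=
  S.exists_root le_rfl (fun _ hl _ hw => S.og_I hl hw) (fun _ hl _ hw => S.og_J hl hw) (S.exists_y k) j

end Setup

end Cfsg.Agent.TypeD4Three
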