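import Cfsg.Agent.TypeD4Three.ThreeC

/-!
# S1763, case [P] : 3-local analysis, part D: relations between the roots (helper754)
-/

set_option autoImplicit false

namespace Cfsg.Agent.TypeD4Three

open Cfsg.Agent.Co2Type.Quad

variable {G : Type*} [Group G]

theorem tt_add {z y : G} (hy : y * y = 1) (hz : z * z = 1) (hyz : y * z = z * y) (m i : Fin 3) :
    tt (tt z y m) (tt z y (m + 1)) i = tt z y (m + i) := by
  rcases fin3 m with rfl | rfl | rfl <;> rcases fin3 i with rfl | rfl | rfl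
  · rfl
  · rfl
  · rfl
  · rfl
  · rfl
  · show y * (z * y) = z
    rw [← mul_assoc, hyz, mul_assoc, hy, mul_one]
  · rfl
  · rfl
  · show z * y * z = y
    rw [← hyz, mul_assoc, hz, mul_one]

/-- If `w` of odd order commutes with `e` and is inverted by `t`, then `w ∈ Og t e`. -/
theorem Og.mem_of_inv {t e w : G} (hw : w * e = e * w) (ht : t * w * t⁻¹ = w⁻¹) (ho : Odd (orderOf w)) :
    w ∈ Og t e := by
  have h1 := Og.comm_mem (t := t) hw
  have h2 : t * w * t⁻¹ * w⁻¹ = (w * w)⁻¹ := by rw [ht]; group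
  rw [h2] at h1
  have h3 : w * w ∈ Og t e := by
    have := (Og t e).inv_mem h1
    rwa [inv_inv] at this
  obtain ⟨m, hm⟩ := odd_mem_sq ho
  rw [hm]
  exact (Og t e).pow_mem h3 m

theorem odd_of_cube {w : G} (h : w * w * w = 1) : Odd (orderOf w) := by
  have h1 : orderOf w ∣ 3 := orderOf_dvd_of_pow_eq_one (by rw [pow_three']; exact h)
  exact Odd.of_dvd_nat (by decide) h1

namespace Frame

variable {Q : Subgroup G} {z : G} {x I J : Fin 4 → G} (F : Frame Q z x I J)

include F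

theorem rt_z (k : Fin 4) (s : Bool) : rt x I k s * z = z * rt x I k s := by
  cases s
  · exact F.x_z k
  · have e1 : Commute (x k) z := F.x_z k
    have e2 : Commute (I k) z := F.I_z k
    exact ((e2.mul_left e1).mul_left e2.inv_left).eq

theorem rt_cube (k : Fin 4) (s : Bool) : rt x I k s * rt x I k s * rt x I k s = 1 := by
  cases s
  · exact F.x_cube k
  · show I k * x k * (I k)⁻¹ * (I k * x k * (I k)⁻¹) * (I k * x k * (I k)⁻¹) = 1
    calc I k * x k * (I k)⁻¹ * (I k * x k * (I k)⁻¹) * (I k * x k * (I k)⁻¹)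
        = I k * (x k * x k * x k) * (I k)⁻¹ := by group
      _ = 1 := by rw [F.x_cube]; group

theorem rt_ne (k : Fin 4) (s : Bool) : rt x I k s ≠ 1 := by
  cases s
  · exact F.x_ne k
  · intro h
    apply F.x_ne k
    have h1 : I k * x k * (I k)⁻¹ = 1 := h
    calc x k = (I k)⁻¹ * (I k * x k * (I k)⁻¹) * I k := by group
      _ = 1 := by rw [h1]; group

/-- `x f x = z I`. -/
theorem xfx (k : Fin 4) : rt x I k false * rt x I k true * rt x I k false = I k * z := by
  show x k * (I k * x k * (I k)⁻¹) * x k = I k * z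
  have h1 := F.x_I k
  have h2 := F.x_J k
  have h3 : x k * (I k)⁻¹ * (x k)⁻¹ = (J k)⁻¹ := by rw [← h1]; group
  have h4 : x k * (x k * (I k)⁻¹ * (x k)⁻¹) * (x k)⁻¹ = (I k * J k)⁻¹ := by
    rw [h3, ← h2]; group
  calc x k * (I k * x k * (I k)⁻¹) * x k
      = (x k * I k * (x k)⁻¹) * (x k * (x k * (I k)⁻¹ * (x k)⁻¹) * (x k)⁻¹) * (x k * x k * x k) := by group
    _ = J k * (I k * J k)⁻¹ := by rw [h1, h4, F.x_cube, mul_one]
    _ = (I k)⁻¹ := by group
    _ = _ := F.I_inv k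

theorem fxf (k : Fin 4) : rt x I k true * rt x I k false * rt x I k true = I k * z := by
  have h1 := F.xfx k
  have h2 : I k * rt x I k true * (I k)⁻¹ = rt x I k false := F.rt_flip_self k true
  have h3 : I k * rt x I k false * (I k)⁻¹ = rt x I k true := rfl
  have h4 : rt x I k true * rt x I k false * rt x I k true =
      I k * (rt x I k false * rt x I k true * rt x I k false) * (I k)⁻¹ := by
    calc rt x I k true * rt x I k false * rt x I k true
        = (I k * rt x I k false * (I k)⁻¹) * (I k * rt x I k true * (I k)⁻¹) *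
          (I k * rt x I k false * (I k)⁻¹) := by rw [h2, h3]
      _ = _ := by group
  rw [h4, h1]
  calc I k * (I k * z) * (I k)⁻¹ = I k * (I k * z * (I k)⁻¹) := by group
    _ = I k * (z * I k * (I k)⁻¹) := by rw [F.I_z]
    _ = _ := by group

theorem rt_sq (k : Fin 4) (s : Bool) :
    (rt x I k s * rt x I k (!s) * rt x I k s) * (rt x I k s * rt x I k (!s) * rt x I k s) = z := by
  have h1 : rt x I k s * rt x I k (!s) * rt x I k s = I k * z := by
    cases s
    · exact F.xfx k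
    · exact F.fxf k
  rw [h1]
  calc I k * z * (I k * z) = I k * (z * I k) * z := by group
    _ = (I k * I k) * (z * z) := by rw [← F.I_z]; group
    _ = z := by rw [F.I_sq, F.z_sq, mul_one]

end Frame

theorem Inv.rt_inv {Q : Subgroup G} {z : G} {x I J : Fin 4 → G} {y : G} (F : Frame Q z x I J) (h : Inv z x I J y)
    (k : Fin 4) (s : Bool) : y * rt x I k s * y⁻¹ = (rt x I k s)⁻¹ := by
  cases s
  · exact h.yx k
  · show y * (I k * x k * (I k)⁻¹) * y⁻¹ = (I k * x k * (I k)⁻¹)⁻¹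
    calc y * (I k * x k * (I k)⁻¹) * y⁻¹ = (y * I k * y⁻¹) * (y * x k * y⁻¹) * (y * I k * y⁻¹)⁻¹ := by group
      _ = I k * (z * (x k)⁻¹) * z⁻¹ * (I k)⁻¹ := by rw [h.yI, h.yx]; group
      _ = I k * ((x k)⁻¹ * z) * z⁻¹ * (I k)⁻¹ := by
        have : Commute (x k) z := F.x_z k
        rw [this.inv_left.eq]
      _ = _ := by group

namespace Setup

variable {Q : Subgroup G} {z : G} {x I J : Fin 4 → G} {y ρ : G} (S : Setup Q z x I J y ρ)

include S

theorem tt_add (m i : Fin 3) : tt (tt z y m) (tt z y (m + 1)) i = tt z y (m + i) :=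
  TypeD4Three.tt_add S.inv.sq S.fr.z_sq S.inv.yz m i

/-- `C_O(z y)` is inverted by `z`. -/
theorem inv_of_zy [Finite G] {k : Fin 4} {w : G} (hw : w ∈ Og z (x k)) (hwy : (z * y) * w = w * (z * y)) :
    z * w * z⁻¹ = w⁻¹ := S.rev.inv_of_y hw hwy

theorem comm_of_zy [Finite G] {k : Fin 4} {a b : G} (ha : a ∈ Og z (x k)) (hay : (z * y) * a = a * (z * y))
    (hb : b ∈ Og z (x k)) (hby : (z * y) * b = b * (z * y)) : a * b = b * a := S.rev.comm_of_y ha hay hb hby

theorem root_one_y (j : Fin 4) (t : Bool) : y * (ρ * rt x I j t * ρ⁻¹) = (ρ * rt x I j t * ρ⁻¹) * y := by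
  rw [← S.rz]
  calc ρ * z * ρ⁻¹ * (ρ * rt x I j t * ρ⁻¹) = ρ * (z * rt x I j t) * ρ⁻¹ := by group
    _ = ρ * (rt x I j t * z) * ρ⁻¹ := by rw [S.fr.rt_z]
    _ = _ := by group

/-- A central root element makes `O` abelian. -/
theorem abelian_of_central [Finite G] {k j : Fin 4} {t : Bool} (h : ρ * rt x I j t * ρ⁻¹ ∈ Og z (x k))
    (hc : ∀ v ∈ Og z (x k), ρ * rt x I j t * ρ⁻¹ * v = v * (ρ * rt x I j t * ρ⁻¹)) :
    ∀ a ∈ Og z (x k), ∀ b ∈ Og z (x k), a * b = b * a := by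
  classical
  -- the centre of `O`
  let N : Subgroup G := Og z (x k) ⊓ Subgroup.centralizer (Og z (x k) : Set G)
  have hNmem : ∀ w, w ∈ N ↔ w ∈ Og z (x k) ∧ ∀ v ∈ Og z (x k), w * v = v * w := by
    intro w
    constructor
    · rintro ⟨h1, h2⟩
      exact ⟨h1, fun v hv => (Subgroup.mem_centralizer_iff.1 h2 v hv).symm⟩
    · rintro ⟨h1, h2⟩
      exact ⟨h1, Subgroup.mem_centralizer_iff.2 fun v hv => (h2 v hv).symm⟩
  have hconj : ∀ g, (∀ w ∈ Og z (x k), g * w * g⁻¹ ∈ Og z (x k)) → (∀ w ∈ Og z (x k), g⁻¹ * w * g ∈ Og z (x k)) →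
      ∀ w ∈ N, g * w * g⁻¹ ∈ N := by
    intro g hg hg' w hw
    obtain ⟨h1, h2⟩ := (hNmem w).1 hw
    refine (hNmem _).2 ⟨hg w h1, fun v hv => ?_⟩
    have h3 := h2 _ (hg' v hv)
    calc g * w * g⁻¹ * v = g * (w * (g⁻¹ * v * g)) * g⁻¹ := by group
      _ = g * ((g⁻¹ * v * g) * w) * g⁻¹ := by rw [h3]
      _ = _ := by group
  have hNI : ∀ l, k ≠ l → ∀ w ∈ N, I l * w * (I l)⁻¹ ∈ N := by
    intro l hl
    refine hconj _ (fun w hw => S.og_I hl hw) (fun w hw => ?_)
    have hc : Commute (I l) (x k) := (S.fr.x_I' k l hl).symm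
    have := Og.norm_mem (t := z) (hc.inv_left).eq hw
    rwa [inv_inv] at this
  have hNJ : ∀ l, k ≠ l → ∀ w ∈ N, J l * w * (J l)⁻¹ ∈ N := by
    intro l hl
    refine hconj _ (fun w hw => S.og_J hl hw) (fun w hw => ?_)
    have hc : Commute (J l) (x k) := (S.fr.x_J' k l hl).symm
    have := Og.norm_mem (t := z) (hc.inv_left).eq hw
    rwa [inv_inv] at this
  have hu : ∃ u ∈ N, u ≠ 1 ∧ y * u = u * y := by
    refine ⟨_, (hNmem _).2 ⟨h, hc⟩, ?_, S.root_one_y j t⟩
    intro h1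
    apply S.fr.rt_ne j t
    calc rt x I j t = ρ⁻¹ * (ρ * rt x I j t * ρ⁻¹) * ρ := by group
      _ = 1 := by rw [h1]; group
  have hroots := S.exists_root (N := N) inf_le_left hNI hNJ hu
  choose s hs using hroots
  have hcen : ∀ u ∈ Og z (x k), y * u = u * y → ∀ v ∈ Og z (x k), u * v = v * u := by
    intro u hu huy
    obtain ⟨i, hi⟩ := S.exists_pow_of_roots (fun j => ((hNmem _).1 (hs j)).1) hu huy
    have : u ∈ N := by rw [hi]; exact prod4_mem fun j => N.pow_mem (hs j) _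
    exact ((hNmem _).1 this).2
  intro a ha b hb
  obtain ⟨c1, hc1, b1, hb1, a1, ha1, hz1, hy1, rfl⟩ := S.decomp_y ha
  obtain ⟨c2, hc2, b2, hb2, a2, ha2, hz2, hy2, rfl⟩ := S.decomp_y hb
  have e1 : Commute c1 (c2 * b2 * a2) := (S.og_comm_zpow hc1 hb).symm
  have e2 : Commute a1 (c2 * b2 * a2) := hcen a1 ha1 hy1 _ hb
  have e3 : Commute b1 c2 := S.og_comm_zpow hc2 hb1
  have e4 : Commute b1 b2 := S.comm_of_zy hb1 hz1 hb2 hz2
  have e5 : Commute b1 a2 := (hcen a2 ha2 hy2 _ hb1).symm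
  exact ((e1.mul_left ((e3.mul_right e4).mul_right e5)).mul_left e2).eq

/-- A root of type `1` in `O` which is not central does not commute with some root of type `2` in `O`. -/
theorem exists_noncomm [Finite G] {k j : Fin 4} {t : Bool} (h : ρ * rt x I j t * ρ⁻¹ ∈ Og z (x k))
    (hna : ¬ ∀ a ∈ Og z (x k), ∀ b ∈ Og z (x k), a * b = b * a) :
    ∃ l s, ρ⁻¹ * rt x I l s * ρ ∈ Og z (x k) ∧
      ρ * rt x I j t * ρ⁻¹ * (ρ⁻¹ * rt x I l s * ρ) ≠ (ρ⁻¹ * rt x I l s * ρ) * (ρ * rt x I j t * ρ⁻¹) := by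
  by_contra hcon
  apply hna
  refine S.abelian_of_central h fun v hv => ?_
  obtain ⟨c, hc, b, hb, a, ha, hz, hy, rfl⟩ := S.decomp_y hv
  have hroots := S.rev.exists_root_og k
  choose s hs using hroots
  obtain ⟨i, hi⟩ := S.rev.exists_pow_of_roots hs hb hz
  have e1 : Commute (ρ * rt x I j t * ρ⁻¹) c := S.og_comm_zpow hc h
  have e2 : Commute (ρ * rt x I j t * ρ⁻¹) a := S.comm_of_y h (S.root_one_y j t) ha hy
  have e3 : Commute (ρ * rt x I j t * ρ⁻¹) b := by
    rw [hi]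
    refine (prod4_comm fun l => ?_).symm
    have h1 : Commute (ρ⁻¹ * rt x I l (s l) * ρ⁻¹⁻¹) (ρ * rt x I j t * ρ⁻¹) := by
      by_contra hne
      apply hcon
      refine ⟨l, s l, ?_, ?_⟩
      · have := hs l
        rwa [inv_inv] at this
      · intro h2
        apply hne
        rw [inv_inv]
        exact h2.symm
    exact (h1.pow_left _).eq
  exact ((e1.mul_right e3).mul_right e2).eq

end Setup

end Cfsg.Agent.TypeD4Three
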