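import Cfsg.Agent.TypeD4Three.ThreeD

/-!
# S1763, case [P] : 3-local analysis, part E: the root relations (helper754)
-/

set_option autoImplicit false

namespace Cfsg.Agent.TypeD4Three

open Cfsg.Agent.Co2Type.Quad

variable {G : Type*} [Group G]

theorem opp_cases {x I : Fin 4 → G} {ρ : G} {m : Fin 3} {k : Fin 4} {a a' w w' : G} (h1 : Opp x I ρ m k a a')
    (h2 : Opp x I ρ m k w w') : (a = w ∧ a' = w') ∨ (a = w' ∧ a' = w) := by
  rcases h1 with ⟨h1, h1'⟩ | ⟨h1, h1'⟩ <;> rcases h2 with ⟨h2, h2'⟩ | ⟨h2, h2'⟩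
  · left; exact ⟨h1.trans h2.symm, h1'.trans h2'.symm⟩
  · right; exact ⟨h1.trans h2'.symm, h1'.trans h2.symm⟩
  · right; exact ⟨h1.trans h2'.symm, h1'.trans h2.symm⟩
  · left; exact ⟨h1.trans h2.symm, h1'.trans h2'.symm⟩

theorem fin3_ne {m i : Fin 3} (h : i ≠ m) : i = m + 1 ∨ i = m + 2 := by revert m i; decide

theorem zpow_comm {a v g : G} (h : a ∈ Subgroup.zpowers v) (hg : g * v = v * g) : g * a = a * g := by
  obtain ⟨i, rfl⟩ := Subgroup.mem_zpowers_iff.1 h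
  have : Commute g v := hg
  exact (this.zpow_right i).eq

namespace Setup

variable {Q : Subgroup G} {z : G} {x I J : Fin 4 → G} {y ρ : G} (S : Setup Q z x I J y ρ)

include S

theorem opp_cube {m : Fin 3} {k : Fin 4} {e e' : G} (h : Opp x I ρ m k e e') : e * e * e = 1 := by
  obtain ⟨Q', x', I', J', S', h1, h2, _⟩ := S.exists_setup h
  rw [← h1]; exact S'.fr.x_cube k

theorem opp_ne {m : Fin 3} {k : Fin 4} {e e' : G} (h : Opp x I ρ m k e e') : e ≠ 1 := by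
  obtain ⟨Q', x', I', J', S', h1, h2, _⟩ := S.exists_setup h
  rw [← h1]; exact S'.fr.x_ne k

theorem opp_tt {m : Fin 3} {k : Fin 4} {e e' : G} (h : Opp x I ρ m k e e') : e * tt z y m = tt z y m * e := by
  obtain ⟨Q', x', I', J', S', h1, h2, _⟩ := S.exists_setup h
  rw [← h1]; exact S'.fr.x_z k

theorem opp_inv {m i : Fin 3} {k : Fin 4} {e e' : G} (h : Opp x I ρ m k e e') (hi : i ≠ m) :
    tt z y i * e * (tt z y i)⁻¹ = e⁻¹ := by
  obtain ⟨Q', x', I', J', S', h1, h2, _⟩ := S.exists_setup h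
  rw [← h1]
  rcases fin3_ne hi with rfl | rfl
  · exact S'.inv.yx k
  · have h3 := S.tt_add m 2
    rw [← h3]
    exact (S'.inv.mul_z S'.fr).yx k

theorem opp_sq {m : Fin 3} {k : Fin 4} {e e' : G} (h : Opp x I ρ m k e e') :
    (e * e' * e) * (e * e' * e) = tt z y m := by
  obtain ⟨Q', x', I', J', S', h1, h2, _⟩ := S.exists_setup h
  rw [← h1, ← h2]
  exact S'.fr.rt_sq k false

theorem opp_comm_mod [Finite G] {m : Fin 3} {k : Fin 4} {e e' : G} (h : Opp x I ρ m k e e') {a b : G}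
    (ha : a ∈ Og (tt z y m) e) (hb : b ∈ Og (tt z y m) e) : a * b * a⁻¹ * b⁻¹ ∈ Subgroup.zpowers e := by
  obtain ⟨Q', x', I', J', S', h1, h2, _⟩ := S.exists_setup h
  rw [← h1] at ha hb ⊢
  exact S'.comm_mod ha hb

theorem opp_comm_e {m : Fin 3} {k : Fin 4} {e e' : G} (h : Opp x I ρ m k e e') {a : G}
    (ha : a ∈ Og (tt z y m) e) : a * e = e * a := by
  obtain ⟨Q', x', I', J', S', h1, h2, _⟩ := S.exists_setup h
  rw [← h1] at ha ⊢
  exact S'.og_comm_x ha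

/-- existence of the roots in `O` -/
theorem opp_exists [Finite G] {m m' : Fin 3} {k : Fin 4} {e e' : G} (h : Opp x I ρ m k e e') (hm : m' ≠ m)
    (j : Fin 4) : ∃ w w', Opp x I ρ m' j w w' ∧ w ∈ Og (tt z y m) e := by
  obtain ⟨Q', x', I', J', S', h1, h2, h3⟩ := S.exists_setup h
  rcases fin3_ne hm with rfl | rfl
  · obtain ⟨t, ht⟩ := S'.exists_root_og k j
    rw [h1] at ht
    exact ⟨_, _, (h3 1 j _ _).1 (opp_R x' I' ρ 1 j t), ht⟩
  · obtain ⟨t, ht⟩ := S'.rev.exists_root_og k j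
    rw [h1] at ht
    exact ⟨_, _, (h3 2 j _ _).1 (opp_R x' I' ρ 2 j t), ht⟩

/-- a root commuting with `e`, of another type, is in `O` -/
theorem opp_mem {m m' : Fin 3} {j : Fin 4} {e w w' : G} (hw : Opp x I ρ m' j w w')
    (hm : m ≠ m') (hc : w * e = e * w) : w ∈ Og (tt z y m) e :=
  Og.mem_of_inv hc (S.opp_inv hw hm) (odd_of_cube (S.opp_cube hw))

omit S in
theorem inv_contra {e t : G} (h3 : e * e * e = 1) (h1 : t * e * t⁻¹ = e⁻¹) (hc : t * e = e * t) : e = 1 := by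
  rw [hc, mul_assoc, mul_inv_cancel, mul_one] at h1
  have h2 : e * e = 1 := by nth_rewrite 1 [h1]; group
  rw [h2, one_mul] at h3
  exact h3

theorem opp_not_both {m m' : Fin 3} {k j : Fin 4} {e e' w w' : G} (h : Opp x I ρ m k e e')
    (hw : Opp x I ρ m' j w w') (hm : m ≠ m') (h1 : w * e = e * w) (h2 : w' * e = e * w') : False := by
  apply S.opp_ne h
  refine inv_contra (S.opp_cube h) (S.opp_inv h hm.symm) ?_
  rw [← S.opp_sq hw]
  have c1 : Commute w e := h1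
  have c2 : Commute w' e := h2
  have c3 : Commute (w * w' * w) e := (c1.mul_left c2).mul_left c1
  exact (c3.mul_left c3).eq

theorem opp_one_of [Finite G] {m m' : Fin 3} {k j : Fin 4} {e e' w w' : G} (h : Opp x I ρ m k e e')
    (hw : Opp x I ρ m' j w w') (hm : m ≠ m') : w * e = e * w ∨ w' * e = e * w' := by
  obtain ⟨a, a', h1, h2⟩ := S.opp_exists h hm.symm j
  have h3 := S.opp_comm_e h h2
  rcases opp_cases h1 hw with ⟨h4, _⟩ | ⟨h4, _⟩
  · left; rw [← h4]; exact h3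
  · right; rw [← h4]; exact h3

/-- `O` is not abelian. -/
theorem not_abelian [Finite G] (k : Fin 4) : ¬ ∀ a ∈ Og z (x k), ∀ b ∈ Og z (x k), a * b = b * a := by
  intro hab
  have hek : Opp x I ρ 0 k (x k) (rt x I k true) := by
    left; rw [R_zero, R_zero]; exact ⟨rfl, rfl⟩
  -- all `O`'s of index `k` are abelian
  have hab' : ∀ (g : G), ∀ a ∈ Og (g * z * g⁻¹) (g * x k * g⁻¹), ∀ b ∈ Og (g * z * g⁻¹) (g * x k * g⁻¹),
      a * b = b * a := by
    intro g a ha b hb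
    have h1 := Og.conj_mem g⁻¹ ha
    have h2 := Og.conj_mem g⁻¹ hb
    have e1 : g⁻¹ * (g * z * g⁻¹) * g⁻¹⁻¹ = z := by group
    have e2 : g⁻¹ * (g * x k * g⁻¹) * g⁻¹⁻¹ = x k := by group
    rw [e1, e2] at h1 h2
    have h3 := hab _ h1 _ h2
    calc a * b = g * (g⁻¹ * a * g⁻¹⁻¹ * (g⁻¹ * b * g⁻¹⁻¹)) * g⁻¹ := by group
      _ = g * (g⁻¹ * b * g⁻¹⁻¹ * (g⁻¹ * a * g⁻¹⁻¹)) * g⁻¹ := by rw [h3]
      _ = _ := by group
  have hrtI : ∀ s, ∃ g0, g0 * z * g0⁻¹ = z ∧ rt x I k s = g0 * x k * g0⁻¹ := by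
    intro s
    cases s
    · exact ⟨1, by group, by rw [rt_false]; group⟩
    · exact ⟨I k, by rw [S.fr.I_z]; group, rfl⟩
  have hab1 : ∀ s, ∀ a ∈ Og y (ρ * rt x I k s * ρ⁻¹), ∀ b ∈ Og y (ρ * rt x I k s * ρ⁻¹), a * b = b * a := by
    intro s
    obtain ⟨g0, h1, h2⟩ := hrtI s
    have h3 := hab' (ρ * g0)
    have e1 : ρ * g0 * z * (ρ * g0)⁻¹ = y := by
      rw [← S.rz]
      nth_rewrite 2 [← h1]; group
    have e2 : ρ * g0 * x k * (ρ * g0)⁻¹ = ρ * rt x I k s * ρ⁻¹ := by rw [h2]; group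
    rw [e1, e2] at h3
    exact h3
  have hab2 : ∀ s, ∀ a ∈ Og (z * y) (ρ⁻¹ * rt x I k s * ρ), ∀ b ∈ Og (z * y) (ρ⁻¹ * rt x I k s * ρ),
      a * b = b * a := by
    intro s
    obtain ⟨g0, h1, h2⟩ := hrtI s
    have h3 := hab' (ρ⁻¹ * g0)
    have e1 : ρ⁻¹ * g0 * z * (ρ⁻¹ * g0)⁻¹ = z * y := by
      have h4 := S.rev.rz
      rw [← h4]
      nth_rewrite 2 [← h1]; group
    have e2 : ρ⁻¹ * g0 * x k * (ρ⁻¹ * g0)⁻¹ = ρ⁻¹ * rt x I k s * ρ := by rw [h2]; group
    rw [e1, e2] at h3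
    exact h3
  obtain ⟨t1, ht1⟩ := S.exists_root_og k k
  obtain ⟨t2, ht2⟩ := S.rev.exists_root_og k k
  rw [inv_inv] at ht2
  set r1 := ρ * rt x I k t1 * ρ⁻¹ with hr1
  set r2 := ρ⁻¹ * rt x I k t2 * ρ with hr2
  have hor1 : Opp x I ρ 1 k r1 (R x I ρ 1 k (!t1)) := opp_R x I ρ 1 k t1
  have hor2 : Opp x I ρ 2 k r2 (R x I ρ 2 k (!t2)) := by
    rw [hr2, ← R_two]; exact opp_R x I ρ 2 k t2
  obtain ⟨l, hl⟩ := exists_ne4 k
  obtain ⟨c, c', hc, hcO⟩ := S.opp_exists hor1 (show (0 : Fin 3) ≠ 1 by decide) l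
  have hcr1 : c * r1 = r1 * c := S.opp_comm_e hor1 hcO
  have hc3 := S.opp_cube hc
  -- elements of `C_O(z y)` commute with `c`
  have hw2 : ∀ w ∈ Og z (x k), (z * y) * w = w * (z * y) → c * w = w * c := by
    intro w hw hwz
    have h1 := S.inv_of_zy hw hwz
    have h2 : y * w * y⁻¹ = w⁻¹ := by
      have e1 : y = z * (z * y) := by rw [← mul_assoc, S.fr.z_sq, one_mul]
      calc y * w * y⁻¹ = (z * (z * y)) * w * (z * (z * y))⁻¹ := by rw [← e1]
        _ = z * ((z * y) * w * (z * y)⁻¹) * z⁻¹ := by group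
        _ = z * w * z⁻¹ := by rw [hwz]; group
        _ = _ := h1
    have h3 : w ∈ Og y r1 := Og.mem_of_inv (hab _ hw _ ht1) h2 (S.og_odd hw)
    exact hab1 t1 _ hcO _ h3
  have hcr2 : c * r2 = r2 * c := by
    refine hw2 r2 ht2 ?_
    have := S.rev.root_one_y k t2
    rw [inv_inv] at this
    exact this
  have hcO2 : c ∈ Og (z * y) r2 :=
    Og.mem_of_inv hcr2 (S.opp_inv hc (show (2 : Fin 3) ≠ 0 by decide)) (odd_of_cube hc3)
  have hw1 : ∀ w ∈ Og z (x k), y * w = w * y → c * w = w * c := by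
    intro w hw hwy
    have h1 := S.inv_of_y hw hwy
    have h2 : (z * y) * w * (z * y)⁻¹ = w⁻¹ := by
      calc (z * y) * w * (z * y)⁻¹ = z * (y * w) * y⁻¹ * z⁻¹ := by group
        _ = z * w * z⁻¹ := by rw [hwy]; group
        _ = _ := h1
    have h3 : w ∈ Og (z * y) r2 := Og.mem_of_inv (hab _ hw _ ht2) h2 (S.og_odd hw)
    exact hab2 t2 _ hcO2 _ h3
  have hcx : c * x k = x k * c := by
    have key : ∀ s, rt x I l s * x k = x k * rt x I l s := by
      intro s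
      cases s
      · exact S.fr.xx l k
      · have e1 : Commute (x l) (x k) := S.fr.xx l k
        have e2 : Commute (I l) (x k) := (S.fr.x_I' k l hl).symm
        exact ((e2.mul_left e1).mul_left e2.inv_left).eq
    rcases hc with ⟨h1, _⟩ | ⟨h1, _⟩ <;> rw [h1, R_zero] <;> exact key _
  have hcw : ∀ w ∈ Og z (x k), c * w = w * c := by
    intro w hw
    obtain ⟨d, hd, b, hb, a, ha, hz, hy, rfl⟩ := S.decomp_y hw
    have e1 : Commute c d := zpow_comm hd hcx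
    have e2 : Commute c b := hw2 b hb hz
    have e3 : Commute c a := hw1 a ha hy
    exact ((e1.mul_right e2).mul_right e3).eq
  -- the opposite root as well
  have hc' : c' = I l * c * (I l)⁻¹ := by
    rcases hc with ⟨h1, h2⟩ | ⟨h1, h2⟩
    · rw [h1, h2, R_zero, R_zero]; rfl
    · rw [h1, h2, R_zero, R_zero]
      exact (S.fr.rt_flip_self l true).symm
  have hcw' : ∀ w ∈ Og z (x k), c' * w = w * c' := by
    intro w hw
    have hcI : Commute (I l) (x k) := (S.fr.x_I' k l hl).symm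
    have h1 := Og.norm_mem (t := z) (hcI.inv_left).eq hw
    rw [inv_inv] at h1
    have h2 := hcw _ h1
    rw [hc']
    calc I l * c * (I l)⁻¹ * w = I l * (c * ((I l)⁻¹ * w * I l)) * (I l)⁻¹ := by group
      _ = I l * (((I l)⁻¹ * w * I l) * c) * (I l)⁻¹ := by rw [h2]
      _ = _ := by group
  apply S.opp_ne hor1
  refine inv_contra (S.opp_cube hor1) (S.opp_inv hor1 (show (0 : Fin 3) ≠ 1 by decide)) ?_
  rw [← S.opp_sq hc]
  have c1 : Commute c r1 := hcw r1 ht1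
  have c2 : Commute c' r1 := hcw' r1 ht1
  have c3 : Commute (c * c' * c) r1 := (c1.mul_left c2).mul_left c1
  exact (c3.mul_left c3).eq

/-- a root in `O` does not commute with some root in `O` of the third type -/
theorem opp_noncomm [Finite G] {m m' m'' : Fin 3} {k j : Fin 4} {v v' w w' : G} (hw : Opp x I ρ m' j w w')
    (hv : Opp x I ρ m k v v') (h1 : m ≠ m') (h2 : m'' ≠ m) (h3 : m'' ≠ m') (hvw : v ∈ Og (tt z y m') w) :
    ∃ l a a', Opp x I ρ m'' l a a' ∧ a ∈ Og (tt z y m') w ∧ v * a ≠ a * v := by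
  obtain ⟨Q', x', I', J', S', e1, e2, e3⟩ := S.exists_setup hw
  have hna := S'.not_abelian j
  rw [e1] at hna
  rcases fin3_ne h1 with rfl | rfl
  · have hv' := (e3 1 k v v').2 hv
    have : m'' = m' + 2 := by
      rcases fin3_ne h3 with rfl | rfl
      · exact absurd rfl h2
      · rfl
    subst this
    obtain ⟨t, ht⟩ : ∃ t, v = ρ * rt x' I' k t * ρ⁻¹ := by
      rcases hv' with ⟨h, _⟩ | ⟨h, _⟩ <;> exact ⟨_, h⟩
    have hvw' := hvw
    rw [ht, ← e1] at hvw'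
    obtain ⟨l, s, h4, h5⟩ := S'.exists_noncomm hvw' (by rw [e1]; exact hna)
    rw [e1] at h4
    rw [← ht] at h5
    refine ⟨l, _, _, (e3 2 l _ _).1 (opp_R x' I' ρ 2 l s), ?_, ?_⟩
    · rw [R_two]; exact h4
    · rw [R_two]; exact h5
  · have hv' := (e3 2 k v v').2 hv
    have : m'' = m' + 1 := by
      rcases fin3_ne h3 with rfl | rfl
      · rfl
      · exact absurd rfl h2
    subst this
    obtain ⟨t, ht⟩ : ∃ t, v = ρ⁻¹ * rt x' I' k t * ρ⁻¹⁻¹ := by
      rcases hv' with ⟨h, _⟩ | ⟨h, _⟩ <;> exact ⟨_, h⟩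
    have hvw' := hvw
    rw [ht, ← e1] at hvw'
    obtain ⟨l, s, h4, h5⟩ := S'.rev.exists_noncomm hvw' (by rw [e1]; exact hna)
    rw [e1, inv_inv] at h4
    rw [← ht, inv_inv] at h5
    exact ⟨l, _, _, (e3 1 l _ _).1 (opp_R x' I' ρ 1 l s), h4, h5⟩

/-- The fundamental relation between non-commuting roots of different types. -/
theorem triple [Finite G] {m m' m'' : Fin 3} {k j : Fin 4} {e e' w w' : G} (he : Opp x I ρ m k e e')
    (hw : Opp x I ρ m' j w w') (h1 : m ≠ m') (h2 : m'' ≠ m) (h3 : m'' ≠ m') (hne : w * e ≠ e * w) :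
    ∃ l v v', Opp x I ρ m'' l v v' ∧ v * e = e * v ∧ v * w = w * v ∧
      e * w * e⁻¹ * w⁻¹ ∈ Subgroup.zpowers v := by
  -- `e'` commutes with `w`
  have h4 : e' * w = w * e' := by
    rcases S.opp_one_of hw he h1.symm with h | h
    · exact absurd h.symm hne
    · exact h
  have h5 : e' ∈ Og (tt z y m') w := S.opp_mem he.symm h1.symm h4
  obtain ⟨l, v, v', h6, h7, h8⟩ := S.opp_noncomm hw he.symm h1 h2 h3 h5
  have hvw : v * w = w * v := S.opp_comm_e hw h7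
  have hve : v * e = e * v := by
    rcases S.opp_one_of h6 he h2 with h | h
    · exact h.symm
    · exact absurd h h8
  refine ⟨l, v, v', h6, hve, hvw, ?_⟩
  exact S.opp_comm_mod h6 (S.opp_mem he h2 hve.symm) (S.opp_mem hw h3 hvw.symm)

end Setup

end Cfsg.Agent.TypeD4Three
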