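import Cfsg.Agent.TypeD4Three.ThreeE
import Cfsg.Agent.TypeD4Three.ChevA2

/-!
# S1763, case [P] : generation by the roots and the recognition from `Setup` (helper754)
-/

set_option autoImplicit false

open scoped commutatorElement

namespace Cfsg.Agent.TypeD4Three

open Cfsg.Agent.Co2Type.Quad

variable {G : Type*} [Group G]

/-- index triples -/
def Tri {G : Type*} [Group G] (x I : Fin 4 → G) (ρ : G) (m m' m'' : Fin 3) (i j l : Fin 4) : Prop :=
  ∃ a a' b b' c c', Opp x I ρ m i a a' ∧ Opp x I ρ m' j b b' ∧ Opp x I ρ m'' l c c' ∧ a * b ≠ b * a ∧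
    c * a = a * c ∧ c * b = b * c

theorem mem_of_zpowers {H : Subgroup G} {c w : G} (h3 : c * c * c = 1) (hw : w ∈ Subgroup.zpowers c) (h1 : w ≠ 1)
    (hH : w ∈ H) : c ∈ H := by
  obtain ⟨i, rfl⟩ := Subgroup.mem_zpowers_iff.1 hw
  have h3' : c ^ (3 : ℤ) = 1 := by
    have : c ^ 3 = 1 := by rw [pow_three']; exact h3
    exact_mod_cast this
  have hmod : c ^ i = c ^ (i % 3) := by
    conv_lhs => rw [← Int.emod_add_mul_ediv i 3, zpow_add, zpow_mul, h3', one_zpow, mul_one]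
  have h4 : i % 3 = 0 ∨ i % 3 = 1 ∨ i % 3 = 2 := by omega
  rcases h4 with h4 | h4 | h4
  · exfalso; apply h1; rw [hmod, h4, zpow_zero]
  · rw [hmod, h4, zpow_one] at hH; exact hH
  · rw [hmod, h4] at hH
    have h5 : c = (c ^ (2 : ℤ))⁻¹ := by
      rw [eq_inv_iff_mul_eq_one, show (2 : ℤ) = 1 + 1 by norm_num, zpow_add, zpow_one, ← mul_assoc]
      exact h3
    rw [h5]; exact H.inv_mem hH

theorem pig {a b c p q : Fin 4} (h1 : a ≠ b) (h2 : a ≠ c) (h3 : b ≠ c) (h4 : p ≠ q) :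
    (p = a ∨ p = b ∨ p = c) ∨ (q = a ∨ q = b ∨ q = c) := by
  simp only [Fin.ext_iff, ne_eq] at *
  have := a.2
  have := b.2
  have := c.2
  have := p.2
  have := q.2
  omega

namespace Setup

variable {Q : Subgroup G} {z : G} {x I J : Fin 4 → G} {y ρ : G} (S : Setup Q z x I J y ρ)

include S

/-- exactly one of the two opposite roots commutes -/
theorem opp_other [Finite G] {m m' : Fin 3} {k j : Fin 4} {e e' w w' : G} (h : Opp x I ρ m k e e')
    (hw : Opp x I ρ m' j w w') (hm : m ≠ m') (hne : w * e ≠ e * w) : w' * e = e * w' :=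
  (S.opp_one_of h hw hm).resolve_left hne

theorem opp_other' [Finite G] {m m' : Fin 3} {k j : Fin 4} {e e' w w' : G} (h : Opp x I ρ m k e e')
    (hw : Opp x I ρ m' j w w') (hm : m ≠ m') (hc : w * e = e * w) : w' * e ≠ e * w' :=
  fun h2 => S.opp_not_both h hw hm hc h2

/-- two noncommuting roots of different types in `O_c` -/
theorem comm_zpowers [Finite G] {m m' m'' : Fin 3} {i j l : Fin 4} {a a' b b' c c' : G} (ha : Opp x I ρ m i a a')
    (hb : Opp x I ρ m' j b b') (hc : Opp x I ρ m'' l c c') (h2 : m'' ≠ m) (h3 : m'' ≠ m')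
    (hca : c * a = a * c) (hcb : c * b = b * c) : a * b * a⁻¹ * b⁻¹ ∈ Subgroup.zpowers c :=
  S.opp_comm_mod hc (S.opp_mem ha h2 hca.symm) (S.opp_mem hb h3 hcb.symm)

theorem idx {m : Fin 3} {l l' : Fin 4} {c c' c1 c1' : G} (h : Opp x I ρ m l c c') (h1 : Opp x I ρ m l' c1 c1')
    (hz : c1 ∈ Subgroup.zpowers c) : l = l' := by
  obtain ⟨Q', x', I', J', S', e1, e2, e3⟩ := S.exists_setup h
  have h2 : Opp x' I' ρ 0 l' c1 c1' := by rw [e3, add_zero]; exact h1
  by_contra hne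
  rw [← e1] at hz
  -- `c1` commutes with `J' l'`, as a power of `x' l`
  have h3 : c1 * J' l' = J' l' * c1 := by
    have : Commute (J' l') (x' l) := (S'.fr.x_J' l l' hne).symm
    exact (zpow_comm hz this.eq).symm
  have h4 : c1 * I' l' = I' l' * c1 := by
    have : Commute (I' l') (x' l) := (S'.fr.x_I' l l' hne).symm
    exact (zpow_comm hz this.eq).symm
  have hz1 := S'.fr.z_ne
  rcases h2 with ⟨h5, _⟩ | ⟨h5, _⟩
  · rw [R_zero, rt_false] at h5
    rw [h5] at h4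
    have h6 := S'.fr.x_I l'
    rw [h4, mul_assoc, mul_inv_cancel, mul_one] at h6
    have h7 := S'.fr.J_I l'
    rw [← h6] at h7
    exact hz1 (mul_eq_left.1 h7.symm)
  · rw [R_zero, rt_true] at h5
    rw [h5] at h4
    -- `x' l'` commutes with `I' l'`
    have h8 : x' l' * I' l' = I' l' * x' l' := by
      calc x' l' * I' l' = (I' l')⁻¹ * (I' l' * x' l' * (I' l')⁻¹ * I' l') * I' l' := by group
        _ = (I' l')⁻¹ * (I' l' * (I' l' * x' l' * (I' l')⁻¹)) * I' l' := by rw [h4]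
        _ = _ := by group
    have h6 := S'.fr.x_I l'
    rw [h8, mul_assoc, mul_inv_cancel, mul_one] at h6
    have h7 := S'.fr.J_I l'
    rw [← h6] at h7
    exact hz1 (mul_eq_left.1 h7.symm)

omit S in
theorem Tri_swap {m m' m'' : Fin 3} {i j l : Fin 4} (h : Tri x I ρ m m' m'' i j l) : Tri x I ρ m' m m'' j i l := by
  obtain ⟨a, a', b, b', c, c', h1, h2, h3, h4, h5, h6⟩ := h
  exact ⟨b, b', a, a', c, c', h2, h1, h3, fun h => h4 h.symm, h6, h5⟩

theorem Tri_rot [Finite G] {m m' m'' : Fin 3} {i j l : Fin 4} (h12 : m ≠ m') (h13 : m'' ≠ m)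
    (h : Tri x I ρ m m' m'' i j l) : Tri x I ρ m m'' m' i l j := by
  obtain ⟨a, a', b, b', c, c', h1, h2, h3, h4, h5, h6⟩ := h
  refine ⟨a', a, c, c', b, b', h1.symm, h3, h2, ?_, ?_, h6.symm⟩
  · exact S.opp_other' h3 h1 h13 h5.symm
  · exact (S.opp_other h2 h1 h12.symm h4).symm

theorem Tri_exists [Finite G] {m m' m'' : Fin 3} (h12 : m ≠ m') (h13 : m'' ≠ m) (h23 : m'' ≠ m') (i j : Fin 4) :
    ∃ l, Tri x I ρ m m' m'' i j l := by
  have ha := opp_R x I ρ m i false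
  have hb := opp_R x I ρ m' j false
  set a := R x I ρ m i false
  set a' := R x I ρ m i (!false)
  set b := R x I ρ m' j false
  set b' := R x I ρ m' j (!false)
  by_cases hc : b * a = a * b
  · have h1 := S.opp_other' ha hb h12 hc
    obtain ⟨l, v, v', h2, h3, h4, _⟩ := S.triple ha hb.symm h12 h13 h23 h1
    exact ⟨l, a, a', b', b, v, v', ha, hb.symm, h2, fun h => h1 h.symm, h3, h4⟩
  · obtain ⟨l, v, v', h2, h3, h4, _⟩ := S.triple ha hb h12 h13 h23 hc
    exact ⟨l, a, a', b, b', v, v', ha, hb, h2, fun h => hc h.symm, h3, h4⟩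

theorem Tri_uniq [Finite G] {m m' m'' : Fin 3} (h12 : m ≠ m') (h13 : m'' ≠ m) (h23 : m'' ≠ m') {i j l l' : Fin 4}
    (h : Tri x I ρ m m' m'' i j l) (h' : Tri x I ρ m m' m'' i j l') : l = l' := by
  have key : ∀ {a a' b b' c c' c1 c1' : G}, Opp x I ρ m i a a' → Opp x I ρ m' j b b' → Opp x I ρ m'' l c c' →
      Opp x I ρ m'' l' c1 c1' → a * b ≠ b * a → c * a = a * c → c * b = b * c → c1 * a = a * c1 → c1 * b = b * c1 →
      l = l' := by
    intro a a' b b' c c' c1 c1' ha hb hc hc1 hne h1 h2 h3 h4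
    have e1 := S.comm_zpowers ha hb hc h13 h23 h1 h2
    have e2 := S.comm_zpowers ha hb hc1 h13 h23 h3 h4
    have hne1 : a * b * a⁻¹ * b⁻¹ ≠ 1 := by
      intro h5
      apply hne
      rw [mul_inv_eq_one, mul_inv_eq_iff_eq_mul] at h5
      exact h5
    have e3 : c1 ∈ Subgroup.zpowers c := mem_of_zpowers (S.opp_cube hc1) e2 hne1 e1
    exact S.idx hc hc1 e3
  obtain ⟨a, a', b, b', c, c', h1, h2, h3, h4, h5, h6⟩ := h
  obtain ⟨a1, a1', b1, b1', c1, c1', k1, k2, k3, k4, k5, k6⟩ := h'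
  have hab' : b' * a = a * b' := S.opp_other h1 h2 h12 (fun h => h4 h.symm)
  have ha'b : a' * b = b * a' := S.opp_other h2 h1 h12.symm h4
  have hca' : c' * a' = a' * c' := by
    have e1 : a' * c ≠ c * a' := S.opp_other' h3 h1 h13 h5.symm
    exact S.opp_other h1.symm h3 h13.symm (fun h => e1 h.symm)
  have hcb' : c' * b' = b' * c' := by
    have e1 : b' * c ≠ c * b' := S.opp_other' h3 h2 h23 h6.symm
    exact S.opp_other h2.symm h3 h23.symm (fun h => e1 h.symm)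
  rcases opp_cases k1 h1 with ⟨ea, ea'⟩ | ⟨ea, ea'⟩ <;> rcases opp_cases k2 h2 with ⟨eb, eb'⟩ | ⟨eb, eb'⟩ <;>
    rw [ea, eb] at k4 <;> rw [ea] at k5 <;> rw [eb] at k6
  · exact key h1 h2 h3 k3 h4 h5 h6 k5 k6
  · exact absurd hab'.symm k4
  · exact absurd ha'b k4
  · exact key h1.symm h2.symm h3.symm k3 k4 hca' hcb' k5 k6

/-- closure property -/
theorem Tri_mem [Finite G] {m m' m'' : Fin 3} (h12 : m ≠ m') (h13 : m'' ≠ m) (h23 : m'' ≠ m') {i j l : Fin 4}
    (h : Tri x I ρ m m' m'' i j l) {H : Subgroup G} (hi : ∀ s, R x I ρ m i s ∈ H) (hj : ∀ s, R x I ρ m' j s ∈ H) :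
    ∀ s, R x I ρ m'' l s ∈ H := by
  have hmem : ∀ {m : Fin 3} {k : Fin 4} {e e' : G}, Opp x I ρ m k e e' → (∀ s, R x I ρ m k s ∈ H) → e ∈ H := by
    intro m k e e' he hs
    rcases he with ⟨h1, _⟩ | ⟨h1, _⟩ <;> rw [h1] <;> exact hs _
  obtain ⟨a, a', b, b', c, c', h1, h2, h3, h4, h5, h6⟩ := h
  have key : ∀ {a a' b b' c c' : G}, Opp x I ρ m i a a' → Opp x I ρ m' j b b' → Opp x I ρ m'' l c c' →
      a * b ≠ b * a → c * a = a * c → c * b = b * c → c ∈ H := by
    intro a a' b b' c c' ha hb hc hne h1 h2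
    have e1 := S.comm_zpowers ha hb hc h13 h23 h1 h2
    have hne1 : a * b * a⁻¹ * b⁻¹ ≠ 1 := by
      intro h5
      apply hne
      rw [mul_inv_eq_one, mul_inv_eq_iff_eq_mul] at h5
      exact h5
    have ea := hmem ha hi
    have eb := hmem hb hj
    exact mem_of_zpowers (S.opp_cube hc) e1 hne1 (H.mul_mem (H.mul_mem (H.mul_mem ea eb) (H.inv_mem ea)) (H.inv_mem eb))
  have hab' : b' * a = a * b' := S.opp_other h1 h2 h12 (fun h => h4 h.symm)
  have hca' : c' * a' = a' * c' := by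
    have e1 : a' * c ≠ c * a' := S.opp_other' h3 h1 h13 h5.symm
    exact S.opp_other h1.symm h3 h13.symm (fun h => e1 h.symm)
  have hcb' : c' * b' = b' * c' := by
    have e1 : b' * c ≠ c * b' := S.opp_other' h3 h2 h23 h6.symm
    exact S.opp_other h2.symm h3 h23.symm (fun h => e1 h.symm)
  have hne' : a' * b' ≠ b' * a' := S.opp_other' h2.symm h1 h12.symm hab'.symm
  have hc := key h1 h2 h3 h4 h5 h6
  have hc' := key h1.symm h2.symm h3.symm hne' hca' hcb'
  intro s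
  rcases h3 with ⟨e1, e2⟩ | ⟨e1, e2⟩ <;> cases s
  · rw [← e1]; exact hc
  · rw [← e2]; exact hc'
  · rw [← e2]; exact hc'
  · rw [← e1]; exact hc

/-- The roots of types `0` (indices `0,1,2`) and `1` (index `0`) generate all roots. -/
theorem all_mem [Finite G] {H : Subgroup G} (h0 : ∀ i : Fin 4, i ≠ 3 → ∀ s, R x I ρ 0 i s ∈ H)
    (h1 : ∀ s, R x I ρ 1 0 s ∈ H) (m : Fin 3) (k : Fin 4) (s : Bool) : R x I ρ m k s ∈ H := by
  have n01 : (0 : Fin 3) ≠ 1 := by decide
  have n02 : (0 : Fin 3) ≠ 2 := by decide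
  have n12 : (1 : Fin 3) ≠ 2 := by decide
  -- the function `f`
  have hex := fun i j => S.Tri_exists (m := 0) (m' := 1) (m'' := 2) n01 n02.symm n12.symm i j
  choose f hf using hex
  have hfinj : ∀ i i' j, f i j = f i' j → i = i' := by
    intro i i' j hij
    -- `Tri 1 2 0 j (f i j) i`
    have t1 : Tri x I ρ 1 2 0 j (f i j) i := by
      have e1 := Tri_swap (hf i j)
      exact S.Tri_rot n01.symm n12.symm e1
    have t2 : Tri x I ρ 1 2 0 j (f i' j) i' := by
      have e1 := Tri_swap (hf i' j)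
      exact S.Tri_rot n01.symm n12.symm e1
    rw [hij] at t1
    exact S.Tri_uniq n12 n01 n02 t1 t2
  have hL : ∀ i, i ≠ 3 → ∀ s, R x I ρ 2 (f i 0) s ∈ H := fun i hi =>
    S.Tri_mem n01 n02.symm n12.symm (hf i 0) (h0 i hi) h1
  have hone : ∀ j s, R x I ρ 1 j s ∈ H := by
    intro j
    have d01 : f 0 0 ≠ f 1 0 := fun h => absurd (hfinj _ _ _ h) (by decide)
    have d02 : f 0 0 ≠ f 2 0 := fun h => absurd (hfinj _ _ _ h) (by decide)
    have d12 : f 1 0 ≠ f 2 0 := fun h => absurd (hfinj _ _ _ h) (by decide)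
    have dpq : f 0 j ≠ f 1 j := fun h => absurd (hfinj _ _ _ h) (by decide)
    have key : ∀ i, i ≠ 3 → (∀ s, R x I ρ 2 (f i j) s ∈ H) → ∀ s, R x I ρ 1 j s ∈ H := by
      intro i hi h2
      have t1 : Tri x I ρ 0 2 1 i (f i j) j := S.Tri_rot n01 n02.symm (hf i j)
      exact S.Tri_mem n02 n01.symm n12 t1 (h0 i hi) h2
    rcases pig d01 d02 d12 dpq with h | h
    · refine key 0 (by decide) ?_
      rcases h with h | h | h <;> rw [h]
      · exact hL 0 (by decide)
      · exact hL 1 (by decide)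
      · exact hL 2 (by decide)
    · refine key 1 (by decide) ?_
      rcases h with h | h | h <;> rw [h]
      · exact hL 0 (by decide)
      · exact hL 1 (by decide)
      · exact hL 2 (by decide)
  have htwo : ∀ l s, R x I ρ 2 l s ∈ H := by
    intro l
    obtain ⟨j, hj⟩ := S.Tri_exists (m := 0) (m' := 2) (m'' := 1) n02 n01.symm n12 0 l
    have t1 : Tri x I ρ 0 1 2 0 j l := S.Tri_rot n02 n01.symm hj
    exact S.Tri_mem n01 n02.symm n12.symm t1 (h0 0 (by decide)) (hone j)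
  have hzero : ∀ i s, R x I ρ 0 i s ∈ H := by
    intro i
    have t1 : Tri x I ρ 1 2 0 0 (f i 0) i := S.Tri_rot n01.symm n12.symm (Tri_swap (hf i 0))
    exact S.Tri_mem n12 n01 n02 t1 (hone 0) (htwo (f i 0))
  rcases fin3 m with rfl | rfl | rfl
  · exact hzero k s
  · exact hone k s
  · exact htwo k s

omit S in
theorem zpow_nat [Finite G] {a b : G} (h : a ∈ Subgroup.zpowers b) : ∃ n : ℕ, a = b ^ n := by
  rw [← mem_powers_iff_mem_zpowers] at h
  obtain ⟨n, hn⟩ := h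
  exact ⟨n, hn.symm⟩

/-- The `A₂` relations. -/
theorem a2rel [Finite G] {i : Fin 4} {a p b β : G} (ha : Opp x I ρ 0 i a p) (hb : Opp x I ρ 1 0 b β)
    (hpb : p * b = b * p) : ChevA2.A2Rel a p⁻¹ b β⁻¹ := by
  have n01 : (0 : Fin 3) ≠ 1 := by decide
  have n02 : (0 : Fin 3) ≠ 2 := by decide
  have n12 : (1 : Fin 3) ≠ 2 := by decide
  have hab : a * b ≠ b * a := S.opp_other' hb ha.symm n01.symm hpb
  have haβ : β * a = a * β := S.opp_other ha hb n01 (fun h => hab h.symm)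
  have hpβ : β * p ≠ p * β := S.opp_other' ha.symm hb n01 hpb.symm
  obtain ⟨l, v, v', h1, h2, h3, h4⟩ := S.triple ha hb n01 n02.symm n12.symm (fun h => hab h.symm)
  obtain ⟨l2, w, w', k1, k2, k3, _⟩ := S.triple ha.symm hb.symm n01 n02.symm n12.symm hpβ
  have k4 : p⁻¹ * β⁻¹ * p⁻¹⁻¹ * β⁻¹⁻¹ ∈ Subgroup.zpowers w :=
    S.opp_comm_mod k1 (Subgroup.inv_mem _ (S.opp_mem ha.symm n02.symm k2.symm))
      (Subgroup.inv_mem _ (S.opp_mem hb.symm n12.symm k3.symm))
  have cva : Commute a v := h2.symm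
  have cvb : Commute b v := h3.symm
  have cwp : Commute p w := k2.symm
  have cwβ : Commute β w := k3.symm
  have hv3 := S.opp_cube h1
  have hw3 := S.opp_cube k1
  have cube : ∀ {u v : G}, v * v * v = 1 → u ∈ Subgroup.zpowers v → u ^ 3 = 1 := by
    intro u v hv hu
    obtain ⟨i, rfl⟩ := Subgroup.mem_zpowers_iff.1 hu
    have h3' : v ^ (3 : ℤ) = 1 := by
      have : v ^ 3 = 1 := by rw [pow_three']; exact hv
      exact_mod_cast this
    rw [← zpow_natCast, ← zpow_mul, mul_comm, zpow_mul]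
    rw [show ((3 : ℕ) : ℤ) = 3 by norm_num, h3', one_zpow]
  have hvO : ∀ {u : G}, u ∈ Subgroup.zpowers v → u ∈ Og (tt z y 1) b ∧ u ∈ Og (tt z y 0) a := by
    intro u hu
    obtain ⟨i, rfl⟩ := Subgroup.mem_zpowers_iff.1 hu
    exact ⟨Subgroup.zpow_mem _ (S.opp_mem h1 n12 h3) i, Subgroup.zpow_mem _ (S.opp_mem h1 n02 h2) i⟩
  have hwO : ∀ {u : G}, u ∈ Subgroup.zpowers w → u ∈ Og (tt z y 1) β ∧ u ∈ Og (tt z y 0) p := by
    intro u hu
    obtain ⟨i, rfl⟩ := Subgroup.mem_zpowers_iff.1 hu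
    exact ⟨Subgroup.zpow_mem _ (S.opp_mem k1 n12 k3) i, Subgroup.zpow_mem _ (S.opp_mem k1 n02 k2) i⟩
  constructor
  · have : Commute a β := haβ.symm
    exact this.inv_right
  · have : Commute p b := hpb
    exact this.inv_left
  · exact (zpow_comm (g := a) h4 cva.eq).symm
  · exact (zpow_comm (g := b) h4 cvb.eq).symm
  · exact cube hv3 h4
  · exact (zpow_comm (g := p⁻¹) k4 cwp.inv_left.eq).symm
  · exact (zpow_comm (g := β⁻¹) k4 cwβ.inv_left.eq).symm
  · exact cube hw3 k4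
  · exact zpow_nat (S.opp_comm_mod hb (Subgroup.inv_mem _ (S.opp_mem ha.symm n01.symm hpb)) (hvO h4).1)
  · exact zpow_nat (S.opp_comm_mod ha (Subgroup.inv_mem _ (S.opp_mem hb.symm n01 haβ)) (hvO h4).2)
  · have := S.opp_comm_mod hb.symm (S.opp_mem ha n01.symm haβ.symm) (hwO k4).1
    rw [← Subgroup.zpowers_inv] at this
    exact zpow_nat this
  · have := S.opp_comm_mod ha.symm (S.opp_mem hb n01 hpb.symm) (hwO k4).2
    rw [← Subgroup.zpowers_inv] at this
    exact zpow_nat this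

end Setup

end Cfsg.Agent.TypeD4Three
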